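import Groth.Agent.ModPairs.Mprod
import Groth.Agent.Limits.ProperDescent
import Mathlib.AlgebraicGeometry.AffineTransitionLimit
import Mathlib.AlgebraicGeometry.ZariskisMainTheorem
import Mathlib.AlgebraicGeometry.Morphisms.SchemeTheoreticallyDominant

/-!
# Descent of admissible blow-ups: closures of sections over interiors
-/

set_option autoImplicit false
universe u

open CategoryTheory CategoryTheory.Limits AlgebraicGeometry TopologicalSpace

namespace Groth.ModPairs

section section_closure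

variable {P X : Scheme.{u}} (p : P ⟶ X) [IsSeparated p] (V : X.Opens) [IsAffineHom V.ι]
  (σ : (V : Scheme.{u}) ⟶ P) (hσ : σ ≫ p = V.ι)

include hσ in
theorem quasiCompact_section : QuasiCompact σ := by
  have : QuasiCompact (σ ≫ p) := by rw [hσ]; infer_instance
  exact QuasiCompact.of_comp σ p

include hσ in
/-- The scheme-theoretic closure of a section over an open is that section over the open. -/
theorem section_closure :
    IsIso ((σ.imageι ≫ p) ∣_ V) ∧
      IsSchemeTheoreticallyDominant ((σ.imageι ≫ p) ⁻¹ᵁ V).ι ∧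
        ((σ.imageι ≫ p) ⁻¹ᵁ V).ι = ((σ.imageι ≫ p) ∣_ V) ≫ σ.toImage := by
  have := quasiCompact_section p V σ hσ
  have := Flatmor4.isSchemeTheoreticallyDominant_toImage σ
  set s := σ.imageι ≫ p with hs
  let W := s ⁻¹ᵁ V
  have hTs : σ.toImage ≫ s = V.ι := by
    rw [hs, Scheme.Hom.toImage_imageι_assoc, hσ]
  have hrange : Set.range σ.toImage ⊆ Set.range W.ι := by
    rintro _ ⟨x, rfl⟩
    rw [Scheme.Opens.range_ι]
    show s (σ.toImage x) ∈ V
    rw [← Scheme.Hom.comp_apply, hTs]
    exact x.2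
  let τ := IsOpenImmersion.lift W.ι σ.toImage hrange
  have hτι : τ ≫ W.ι = σ.toImage := IsOpenImmersion.lift_fac _ _ _
  have hτs : τ ≫ (s ∣_ V) = 𝟙 _ := by
    rw [← cancel_mono V.ι, Category.assoc, morphismRestrict_ι, reassoc_of% hτι, hTs, Category.id_comp]
  have hpb : IsPullback τ (𝟙 _) W.ι σ.toImage := by
    refine ⟨⟨by rw [hτι, Category.id_comp]⟩, ⟨PullbackCone.IsLimit.mk _ (fun c => c.snd)
      (fun c => ?_) (fun c => Category.comp_id _) (fun c m _ h₂ => by simpa using h₂)⟩⟩
    rw [← cancel_mono W.ι, Category.assoc, hτι]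
    exact c.condition.symm
  have : IsSchemeTheoreticallyDominant τ :=
    IsSchemeTheoreticallyDominant.of_isPullback hpb.flip
  have : IsClosedImmersion (τ ≫ (s ∣_ V)) := by rw [hτs]; infer_instance
  have : IsSeparated (s ∣_ V) := IsZariskiLocalAtTarget.restrict (inferInstance : IsSeparated s) V
  have : IsClosedImmersion τ := IsClosedImmersion.of_comp τ (s ∣_ V)
  have : IsIso τ := IsClosedImmersion.isIso_of_ker_eq τ (𝟙 _) τ (Category.comp_id _)
    (by rw [τ.ker_eq_bot, Scheme.Hom.ker_eq_bot_of_isIso])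
  have hinv : s ∣_ V = inv τ := (IsIso.eq_inv_of_hom_inv_id hτs)
  have hWι : W.ι = inv τ ≫ σ.toImage := by rw [← hτι, IsIso.inv_hom_id_assoc]
  refine ⟨by rw [hinv]; infer_instance, ?_, by rw [hWι, hinv]⟩
  show IsSchemeTheoreticallyDominant W.ι
  rw [hWι]
  infer_instance

end section_closure

theorem ker_comp_eq_of_dominant {A B C : Scheme.{u}} (d : A ⟶ B) [IsSchemeTheoreticallyDominant d]
    (a : B ⟶ C) : (d ≫ a).ker = a.ker := by
  rw [Scheme.Hom.ker_comp, d.ker_eq_bot, Scheme.IdealSheafData.map_bot]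

/-- Closed immersions with the same ideal define isomorphic subschemes. -/
theorem exists_iso_of_ker_eq {A B P : Scheme.{u}} (a : A ⟶ P) (b : B ⟶ P) [IsClosedImmersion a]
    [IsClosedImmersion b] (h : a.ker = b.ker) : ∃ e : A ≅ B, e.hom ≫ b = a := by
  refine ⟨⟨IsClosedImmersion.lift b a h.ge, IsClosedImmersion.lift a b h.le, ?_, ?_⟩,
    IsClosedImmersion.lift_fac _ _ _⟩
  · rw [← cancel_mono a, Category.assoc, IsClosedImmersion.lift_fac, IsClosedImmersion.lift_fac,
      Category.id_comp]
  · rw [← cancel_mono b, Category.assoc, IsClosedImmersion.lift_fac, IsClosedImmersion.lift_fac,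
      Category.id_comp]

variable {X Xi Xj P : Scheme.{u}} (πj : X ⟶ Xj) (t : Xj ⟶ Xi) (p : P ⟶ Xi) [IsProper p]
  (IX : X.IdealSheafData) (Jj : Xj.IdealSheafData) {Y : Scheme.{u}} (s : Y ⟶ X)

theorem mono_stage_map {Yj : Scheme.{u}} (ι : Yj ⟶ pullback t p) [Mono ι] :
    Mono (pullback.lift (f := πj ≫ t) (g := p) (pullback.fst πj (ι ≫ pullback.fst t p))
      (pullback.snd πj (ι ≫ pullback.fst t p) ≫ ι ≫ pullback.snd t p)
      (by simp only [pullback.condition_assoc, Category.assoc, pullback.condition])) := by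
  constructor
  intro Z a b hab
  have h1 := congrArg (· ≫ pullback.fst (πj ≫ t) p) hab
  have h2 := congrArg (· ≫ pullback.snd (πj ≫ t) p) hab
  simp only [Category.assoc, pullback.lift_fst, pullback.lift_snd] at h1 h2
  apply pullback.hom_ext h1
  rw [← cancel_mono ι]
  apply pullback.hom_ext
  · simp only [Category.assoc, ← pullback.condition]
    rw [reassoc_of% h1]
  · simpa [Category.assoc] using h2

set_option backward.isDefEq.respectTransparency false in
/-- Construction of the stage blow-up from a section over the interior. -/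
theorem exists_stage_blowup (hJj : BlowUp.IsEffCartierIdeal Jj) (hIX : BlowUp.IsEffCartierIdeal IX)
    (hmin : IX = Jj.comap πj) (hY : BlowUp.IsEffCartierIdeal (IX.comap s))
    [IsIso (s ∣_ ModPair.interior IX)] (V : Xj.Opens) (hV : ModPair.interior Jj = V)
    (u : (V : Scheme.{u}) ⟶ P) (hu : u ≫ p = V.ι ≫ t) (q : Y ⟶ P) (w : s ≫ πj ≫ t = q ≫ p)
    [IsClosedImmersion (pullback.lift s q w)] (hle : ModPair.interior IX ≤ πj ⁻¹ᵁ V)
    (hq : πj.resLE V (ModPair.interior IX) hle ≫ u =
      inv (s ∣_ ModPair.interior IX) ≫ (s ⁻¹ᵁ ModPair.interior IX).ι ≫ q) :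
    ∃ (Yj : Scheme.{u}) (IYj : Yj.IdealSheafData) (sj : Yj ⟶ Xj),
      BlowUp.IsEffCartierIdeal IYj ∧ ModPair.IsAdmBlowup IYj Jj sj ∧
        ∃ e : Y ≅ ModPair.mprod πj sj IX IYj,
          e.hom ≫ ModPair.mprodι πj sj IX IYj ≫ pullback.fst πj sj = s := by
  subst hV
  have := isAffineHom_interior hJj
  let σ : (ModPair.interior Jj : Scheme.{u}) ⟶ pullback t p :=
    pullback.lift (ModPair.interior Jj).ι u hu.symm
  have hσ : σ ≫ pullback.fst t p = (ModPair.interior Jj).ι := pullback.lift_fst _ _ _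
  have := quasiCompact_section _ _ σ hσ
  obtain ⟨hiso, hdom, hWι⟩ := section_closure _ _ σ hσ
  let sj := σ.imageι ≫ pullback.fst t p
  let IYj := Jj.comap sj
  have hIYj : BlowUp.IsEffCartierIdeal IYj := isEffCartierIdeal_comap_of_dominant hJj sj
  refine ⟨σ.image, IYj, sj, hIYj, ⟨rfl, inferInstance, hiso⟩, ?_⟩
  -- the closed immersion into the base change of `P`
  let k : pullback πj sj ⟶ pullback (πj ≫ t) p :=
    pullback.lift (pullback.fst πj sj) (pullback.snd πj sj ≫ σ.imageι ≫ pullback.snd t p)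
      (by simp only [sj, pullback.condition_assoc, Category.assoc, pullback.condition])
  have : Mono k := mono_stage_map πj t p σ.imageι
  have : IsProper (k ≫ pullback.fst (πj ≫ t) p) := by
    simp only [k, pullback.lift_fst]; infer_instance
  have : IsProper k := IsProper.of_comp k (pullback.fst (πj ≫ t) p)
  have : IsClosedImmersion k := (IsClosedImmersion.iff_isProper_and_mono _).mpr ⟨inferInstance, inferInstance⟩
  let U := ModPair.prodInterior πj sj IX IYj
  have := isAffineHom_prodInterior (f := πj) (g := sj) hIX hIYj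
  have := Flatmor4.isSchemeTheoreticallyDominant_toImage U.ι
  let l := pullback.lift s q w
  let a := ModPair.mprodι πj sj IX IYj ≫ k
  -- the interior of `X` is dense in both
  let O := ModPair.interior IX
  let σX : (O : Scheme.{u}) ⟶ pullback (πj ≫ t) p :=
    inv (s ∣_ O) ≫ (s ⁻¹ᵁ O).ι ≫ l
  have hfst : σX ≫ pullback.fst _ _ = O.ι := by
    simp only [σX, l, Category.assoc, pullback.lift_fst]
    rw [← morphismRestrict_ι, IsIso.inv_hom_id_assoc]
  have hsnd : σX ≫ pullback.snd _ _ = πj.resLE _ O hle ≫ u := by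
    simp only [σX, l, Category.assoc, pullback.lift_snd]
    exact hq.symm
  have : IsSchemeTheoreticallyDominant (s ⁻¹ᵁ O).ι := by
    have := dominant_interior hY
    exact dominant_mono (interior_comap s IX).le
  have hkerl : σX.ker = l.ker := by
    have : IsSchemeTheoreticallyDominant (inv (s ∣_ O) ≫ (s ⁻¹ᵁ O).ι) := inferInstance
    rw [← ker_comp_eq_of_dominant (inv (s ∣_ O) ≫ (s ⁻¹ᵁ O).ι) l, Category.assoc]
  have hkera : a.ker = (U.ι ≫ k).ker := by
    rw [← ker_comp_eq_of_dominant U.ι.toImage a]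
    exact congrArg _ (Scheme.Hom.toImage_imageι_assoc U.ι k)
  have hU₁ : U ≤ pullback.fst πj sj ⁻¹ᵁ O := inf_le_left
  have hU₂ : U ≤ pullback.snd πj sj ⁻¹ᵁ (sj ⁻¹ᵁ ModPair.interior Jj) := by
    rw [← interior_comap]; exact inf_le_right
  let α : (U : Scheme.{u}) ⟶ O := (pullback.fst πj sj).resLE O U hU₁
  have hα : U.ι ≫ k = α ≫ σX := by
    apply pullback.hom_ext
    · simp only [k, α, Category.assoc, pullback.lift_fst, hfst, Scheme.Hom.resLE_comp_ι]
    · simp only [k, α, Category.assoc, pullback.lift_snd, hsnd]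
      have e1 : U.ι ≫ pullback.snd πj sj = (pullback.snd πj sj).resLE (sj ⁻¹ᵁ ModPair.interior Jj) U hU₂
          ≫ (sj ⁻¹ᵁ ModPair.interior Jj).ι := (Scheme.Hom.resLE_comp_ι _ _).symm
      have e2 : (pullback.snd πj sj).resLE (sj ⁻¹ᵁ ModPair.interior Jj) U hU₂ ≫
          (sj ∣_ ModPair.interior Jj) =
            (pullback.fst πj sj).resLE O U hU₁ ≫ πj.resLE (ModPair.interior Jj) O hle := by
        rw [← cancel_mono (ModPair.interior Jj).ι]
        simp only [Category.assoc, morphismRestrict_ι, Scheme.Hom.resLE_comp_ι_assoc,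
          Scheme.Hom.resLE_comp_ι]
        rw [pullback.condition]
      rw [reassoc_of% e1, hWι]
      simp only [Category.assoc, Scheme.Hom.toImage_imageι_assoc]
      rw [pullback.lift_snd, reassoc_of% e2]
  have hrange : Set.range (pullback.lift (f := πj) (g := sj) O.ι (πj.resLE _ O hle ≫ σ.toImage) (by
      simp [sj, hσ])) ⊆ Set.range U.ι := by
    rintro _ ⟨x, rfl⟩
    rw [Scheme.Opens.range_ι]
    refine ⟨?_, ?_⟩
    · show pullback.fst πj sj (pullback.lift (f := πj) (g := sj) O.ι (πj.resLE _ O hle ≫ σ.toImage) _ x) ∈ O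
      rw [← Scheme.Hom.comp_apply, pullback.lift_fst]
      exact x.2
    · rw [interior_comap]
      show sj (pullback.snd πj sj (pullback.lift (f := πj) (g := sj) O.ι (πj.resLE _ O hle ≫ σ.toImage) _ x)) ∈ ModPair.interior Jj
      rw [← Scheme.Hom.comp_apply, ← Scheme.Hom.comp_apply, pullback.lift_snd_assoc]
      simp only [sj, Category.assoc, Scheme.Hom.toImage_imageι_assoc, hσ, Scheme.Hom.resLE_comp_ι,
        Scheme.Hom.comp_apply]
      exact hle x.2
  let β := IsOpenImmersion.lift U.ι _ hrange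
  have hβ : σX = β ≫ U.ι ≫ k := by
    apply pullback.hom_ext
    · simp only [β, k, Category.assoc, pullback.lift_fst, hfst]
      rw [IsOpenImmersion.lift_fac_assoc, pullback.lift_fst]
    · simp only [β, k, Category.assoc, pullback.lift_snd, hsnd]
      rw [IsOpenImmersion.lift_fac_assoc, pullback.lift_snd_assoc]
      simp only [Category.assoc, Scheme.Hom.toImage_imageι_assoc, σ, pullback.lift_snd]
  have hker : l.ker = a.ker := by
    rw [hkera, ← hkerl]
    exact le_antisymm ((Scheme.Hom.le_ker_comp α σX).trans_eq (congrArg _ hα).symm)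
      ((Scheme.Hom.le_ker_comp β (U.ι ≫ k)).trans_eq (congrArg _ hβ).symm)
  have : IsClosedImmersion l := ‹_›
  obtain ⟨e, he⟩ := exists_iso_of_ker_eq l a hker
  refine ⟨e, ?_⟩
  have := congrArg (· ≫ pullback.fst (πj ≫ t) p) he
  simp only [a, l, k, Category.assoc, pullback.lift_fst] at this
  exact this

end Groth.ModPairs
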