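import Groth.Agent.ModPairs.Basic

/-!
# Modulus pairs: arithmetic of effective Cartier ideals
-/

set_option autoImplicit false
universe u

open CategoryTheory AlgebraicGeometry TopologicalSpace BlowUp

namespace Groth.ModPairs

variable {X : Scheme.{u}}

theorem span_mul_mem_iff {A : Type*} [CommRing A] {e : A} (he : e ∈ nonZeroDivisors A) {I : Ideal A}
    {x : A} : x * e ∈ I * Ideal.span {e} ↔ x ∈ I := by
  refine ⟨fun h => ?_, fun h => Ideal.mul_mem_mul h (Ideal.mem_span_singleton_self e)⟩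
  rw [mul_comm I] at h
  obtain ⟨z, hz, hze⟩ := Ideal.mem_span_singleton_mul.mp h
  have : (z - x) * e = 0 := by rw [sub_mul, mul_comm z e, hze, sub_self]
  rwa [← sub_eq_zero.mp (mem_nonZeroDivisors_iff_right.mp he _ this)]

theorem le_of_cover {I J : X.IdealSheafData}
    (h : ∀ x : X, ∃ V : X.affineOpens, x ∈ V.1 ∧ I.ideal V ≤ J.ideal V) : I ≤ J := by
  choose V hV hIJ using h
  exact Scheme.IdealSheafData.le_of_iSup_eq_top V
    (top_le_iff.mp fun x _ => Opens.mem_iSup.mpr ⟨x, hV x⟩) hIJ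

theorem le_of_mul_le_mul {L M E : X.IdealSheafData} (hE : IsEffCartierIdeal E)
    (h : L * E ≤ M * E) : L ≤ M := by
  refine le_of_cover fun x => ?_
  obtain ⟨W, hx, e, he, hEW⟩ := hE x
  refine ⟨W, hx, fun a ha => (span_mul_mem_iff he).mp ?_⟩
  have := h W
  simp only [Scheme.IdealSheafData.ideal_mul, Pi.mul_apply, hEW] at this
  exact this (Ideal.mul_mem_mul ha (Ideal.mem_span_singleton_self e))

theorem mul_cancel {L M E : X.IdealSheafData} (hE : IsEffCartierIdeal E)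
    (h : L * E = M * E) : L = M :=
  le_antisymm (le_of_mul_le_mul hE h.le) (le_of_mul_le_mul hE h.ge)

theorem mul_le_left (L E : X.IdealSheafData) : L * E ≤ E := by
  intro U
  rw [Scheme.IdealSheafData.ideal_mul, Pi.mul_apply]
  exact Ideal.mul_le.mpr fun a _ b hb => Ideal.mul_mem_left _ a hb

theorem mul_le_right (L E : X.IdealSheafData) : L * E ≤ L := mul_comm L E ▸ mul_le_left E L

theorem top_mul (E : X.IdealSheafData) : ⊤ * E = E := by
  refine Scheme.IdealSheafData.ext (funext fun U => ?_)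
  rw [Scheme.IdealSheafData.ideal_mul, Pi.mul_apply, Scheme.IdealSheafData.ideal_top]
  exact Ideal.top_mul _

/-- `D₁ - E`, `D₂ - E` for `E = D₁ ∩ D₂`. -/
theorem exists_split {I₁ I₂ : X.IdealSheafData} (h₁ : IsEffCartierIdeal I₁) (h₂ : IsEffCartierIdeal I₂)
    (hE : IsEffCartierIdeal (I₁ ⊔ I₂)) :
    ∃ L₁ L₂ : X.IdealSheafData, IsEffCartierIdeal L₁ ∧ IsEffCartierIdeal L₂ ∧
      I₁ = L₁ * (I₁ ⊔ I₂) ∧ I₂ = L₂ * (I₁ ⊔ I₂) ∧ L₁ ⊔ L₂ = ⊤ := by
  obtain ⟨L₁, hL₁⟩ := BlowUpBasics.exists_eq_mul_of_le hE (le_sup_left : I₁ ≤ I₁ ⊔ I₂)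
  obtain ⟨L₂, hL₂⟩ := BlowUpBasics.exists_eq_mul_of_le hE (le_sup_right : I₂ ≤ I₁ ⊔ I₂)
  refine ⟨L₁, L₂, (Divisors.isEffCartierIdeal_factors (hL₁ ▸ h₁)).1,
    (Divisors.isEffCartierIdeal_factors (hL₂ ▸ h₂)).1, hL₁, hL₂, mul_cancel hE ?_⟩
  rw [Scheme.IdealSheafData.inf_mul, ← hL₁, ← hL₂, top_mul]

/-- An ideal inside two coprime multiples of `E` is inside their product times `E`. -/
theorem le_mul_mul {L₁ L₂ E D : X.IdealSheafData} (hE : IsEffCartierIdeal E) (hco : L₁ ⊔ L₂ = ⊤)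
    (h₁ : D ≤ L₁ * E) (h₂ : D ≤ L₂ * E) : D ≤ L₁ * L₂ * E := by
  refine le_of_cover fun x => ?_
  obtain ⟨W, hx, e, he, hEW⟩ := hE x
  refine ⟨W, hx, fun a ha => ?_⟩
  have hc : L₁.ideal W ⊔ L₂.ideal W = ⊤ := congrFun (congrArg Scheme.IdealSheafData.ideal hco) W
  have a₁ := h₁ W ha
  have a₂ := h₂ W ha
  simp only [Scheme.IdealSheafData.ideal_mul, Pi.mul_apply, hEW] at a₁ a₂ ⊢
  rw [mul_comm (L₁.ideal W)] at a₁
  obtain ⟨z, hz, rfl⟩ := Ideal.mem_span_singleton_mul.mp a₁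
  rw [mul_comm e] at a₂ ⊢
  rw [span_mul_mem_iff he] at a₂ ⊢
  rw [Ideal.mul_eq_inf_of_coprime hc]
  exact ⟨hz, a₂⟩

theorem interior_mul (I J : X.IdealSheafData) :
    ModPair.interior (I * J) = ModPair.interior I ⊓ ModPair.interior J := by
  ext x
  simp [ModPair.interior, Scheme.IdealSheafData.support_mul, not_or]

end Groth.ModPairs
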