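import Groth.Agent.ModPairs.Cat
import Groth.Agent.ModPairs.Divisor
import Groth.Agent.BlowUpBasics.Global
import Mathlib.AlgebraicGeometry.Limits
import Mathlib.CategoryTheory.Limits.Preserves.Shapes.Products

/-!
# Coproducts of modulus pairs
-/

set_option autoImplicit false
universe u v w

open CategoryTheory CategoryTheory.Limits AlgebraicGeometry TopologicalSpace BlowUp

namespace Groth.ModPairs

open _root_.ModPair (Pair)

theorem isIso_restrict_one {X A B : Scheme.{u}} (p : A ⟶ X) (j : B ⟶ A) [IsOpenImmersion j] (U : X.Opens)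
    (hr : ∀ z : A, p z ∈ U → z ∈ Set.range j) (h : IsIso ((j ≫ p) ∣_ U)) : IsIso (p ∣_ U) := by
  have : Surjective (j ∣_ p ⁻¹ᵁ U) := ⟨fun z => by
    obtain ⟨y, hy⟩ := hr z.1 z.2
    exact ⟨⟨y, show j y ∈ p ⁻¹ᵁ U by rw [hy]; exact z.2⟩,
      Subtype.ext ((morphismRestrict_base_coe j _ _).trans hy)⟩⟩
  have : IsIso (j ∣_ p ⁻¹ᵁ U) := (isIso_iff_isOpenImmersion_and_epi_base _).mpr
    ⟨inferInstance, (TopCat.epi_iff_surjective _).mpr this.1⟩
  rw [morphismRestrict_comp] at h
  exact @IsIso.of_isIso_comp_left _ _ _ _ _ (j ∣_ p ⁻¹ᵁ U) (p ∣_ U) (by assumption) h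

theorem isIso_restrict_iSup {X A : Scheme.{u}} {ι : Type u} (p : A ⟶ X) (U : X.Opens) (V : ι → X.Opens)
    (hV : ∀ i, V i ≤ U) (hU : U ≤ ⨆ i, V i) (h : ∀ i, IsIso (p ∣_ V i)) : IsIso (p ∣_ U) := by
  show MorphismProperty.isomorphisms Scheme _
  refine IsZariskiLocalAtTarget.of_iSup_eq_top (fun i => U.ι ⁻¹ᵁ V i) ?_ fun i => ?_
  · refine top_le_iff.mp fun x _ => ?_
    obtain ⟨i, hi⟩ := Opens.mem_iSup.mp (hU x.2)
    exact Opens.mem_iSup.mpr ⟨i, hi⟩
  · rw [(MorphismProperty.isomorphisms Scheme.{u}).arrow_mk_iso_iff (morphismRestrictRestrict p _ _)]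
    have he : U.ι ''ᵁ (U.ι ⁻¹ᵁ V i) = V i := by
      rw [Scheme.Hom.image_preimage_eq_opensRange_inf, Scheme.Opens.opensRange_ι, inf_eq_right.mpr (hV i)]
    show IsIso _
    rw [he]
    exact h i

theorem le_of_openCover {X : Scheme.{u}} (𝒰 : X.OpenCover) {I J : X.IdealSheafData}
    (h : ∀ i, I.comap (𝒰.f i) ≤ J.comap (𝒰.f i)) : I ≤ J := by
  refine le_of_cover fun x => ?_
  obtain ⟨i, y, rfl⟩ := 𝒰.exists_eq x
  obtain ⟨W, hyW, -⟩ := Divisors.exists_affine_le y ⊤ trivial
  refine ⟨⟨𝒰.f i ''ᵁ W.1, W.2.image_of_isOpenImmersion _⟩, ⟨y, hyW, rfl⟩, ?_⟩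
  have h1 := h i W
  rw [Scheme.IdealSheafData.ideal_comap_of_isOpenImmersion,
    Scheme.IdealSheafData.ideal_comap_of_isOpenImmersion] at h1
  intro a ha
  obtain ⟨b, rfl⟩ := (ConcreteCategory.bijective_of_isIso ((𝒰.f i).appIso W.1).inv).2 a
  exact h1 ha

theorem eq_of_openCover {X : Scheme.{u}} (𝒰 : X.OpenCover) {I J : X.IdealSheafData}
    (h : ∀ i, I.comap (𝒰.f i) = J.comap (𝒰.f i)) : I = J :=
  le_antisymm (le_of_openCover 𝒰 fun i => (h i).le) (le_of_openCover 𝒰 fun i => (h i).ge)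

variable {σ : Type u}

section map

variable {A B : σ → Scheme.{u}} (s : ∀ i, A i ⟶ B i)

theorem isPullback_sigmaMap (i : σ) :
    IsPullback (s i) (Sigma.ι A i) (Sigma.ι B i) (Limits.Sigma.map s) := by
  refine IsOpenImmersion.isPullback _ _ _ _ (Sigma.ι_map s i) ?_
  refine le_antisymm (fun z hz => ?_) ?_
  · obtain ⟨j, y, rfl⟩ := (sigmaOpenCover A).exists_eq z
    obtain ⟨x, hx⟩ := hz
    change Sigma.ι B i x = Limits.Sigma.map s (Sigma.ι A j y) at hx
    rw [← Scheme.Hom.comp_apply, Sigma.ι_map, Scheme.Hom.comp_apply] at hx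
    obtain rfl : i = j := congrArg Sigma.fst ((sigmaι_eq_iff B i j x (s j y)).mp hx)
    exact ⟨y, rfl⟩
  · rintro _ ⟨y, rfl⟩
    refine ⟨s i y, ?_⟩
    rw [← Scheme.Hom.comp_apply, ← Scheme.Hom.comp_apply, Sigma.ι_map]

theorem sigmaMap_of_local {P : MorphismProperty Scheme.{u}} [IsZariskiLocalAtTarget P] [P.RespectsIso]
    (h : ∀ i, P (s i)) : P (Limits.Sigma.map s) := by
  refine IsZariskiLocalAtTarget.of_openCover (sigmaOpenCover B) fun i => ?_
  have H := (isPullback_sigmaMap s i).flip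
  show P (pullback.snd (Limits.Sigma.map s) (Sigma.ι B i))
  rw [← H.isoPullback_inv_snd, P.cancel_left_of_respectsIso]
  exact h i

end map

/-- The modulus on a coproduct. -/
noncomputable def sigmaMod {X : σ → Scheme.{u}} (I : ∀ i, (X i).IdealSheafData) :
    (∐ X).IdealSheafData :=
  (Limits.Sigma.map fun i => (I i).subschemeι).ker

theorem comap_sigmaMod {X : σ → Scheme.{u}} (I : ∀ i, (X i).IdealSheafData) (i : σ) :
    (sigmaMod I).comap (Sigma.ι X i) = I i := by
  have : IsClosedImmersion (Limits.Sigma.map fun i => (I i).subschemeι) :=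
    sigmaMap_of_local (P := @IsClosedImmersion) _ fun i => inferInstance
  have H := isPullback_sigmaMap (fun i => (I i).subschemeι) i
  rw [sigmaMod, ← Scheme.IdealSheafData.ker_fst_of_isClosedImmersion, ← H.isoPullback_inv_fst,
    Scheme.Hom.ker_comp_of_isIso, Scheme.IdealSheafData.ker_subschemeι]

/-- The coproduct of modulus pairs. -/
noncomputable def sigmaPair (X : σ → Pair.{u}) : Pair.{u} :=
  ⟨∐ fun i => (X i).total, sigmaMod fun i => (X i).mod,
    BlowUpBasics.isEffCartierIdeal_of_openCover (sigmaOpenCover _) fun i => by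
      exact (congrArg IsEffCartierIdeal (comap_sigmaMod (fun i => (X i).mod) i)).mpr (X i).isEffCartier⟩

/-- The inclusions. -/
noncomputable def sigmaInj (X : σ → Pair.{u}) (i : σ) : X i ⟶ sigmaPair X :=
  ⟨Sigma.ι (fun i => (X i).total) i, (comap_sigmaMod (fun i => (X i).mod) i).ge⟩

/-- The universal morphism. -/
noncomputable def sigmaDesc {X : σ → Pair.{u}} {Z : Pair.{u}} (f : ∀ i, X i ⟶ Z) : sigmaPair X ⟶ Z :=
  ⟨Limits.Sigma.desc fun i => (f i).hom, le_of_openCover (sigmaOpenCover _) fun i => by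
    show (sigmaMod _).comap (Sigma.ι (fun i => (X i).total) i) ≤
      (Z.mod.comap _).comap (Sigma.ι (fun i => (X i).total) i)
    rw [comap_sigmaMod, ← Scheme.IdealSheafData.comap_comp, Sigma.ι_desc]
    exact (f i).cond⟩

theorem sigmaInj_desc {X : σ → Pair.{u}} {Z : Pair.{u}} (f : ∀ i, X i ⟶ Z) (i : σ) :
    sigmaInj X i ≫ sigmaDesc f = f i :=
  Pair.Hom.ext (Sigma.ι_desc (fun i => (f i).hom) i)

theorem sigma_hom_ext {X : σ → Pair.{u}} {Z : Pair.{u}} {f g : sigmaPair X ⟶ Z}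
    (h : ∀ i, sigmaInj X i ≫ f = sigmaInj X i ≫ g) : f = g :=
  Pair.Hom.ext (Sigma.hom_ext _ _ fun i => congrArg Pair.Hom.hom (h i))

/-- `sigmaPair` is a coproduct. -/
noncomputable def sigmaIsColimit (X : σ → Pair.{u}) : IsColimit (Cofan.mk (sigmaPair X) (sigmaInj X)) :=
  Cofan.IsColimit.mk _ (fun t => sigmaDesc fun i => t.inj i) (fun t i => sigmaInj_desc _ i)
    fun t m hm => sigma_hom_ext fun i => (hm i).trans (sigmaInj_desc _ i).symm

theorem hasCoproduct (X : σ → Pair.{u}) : HasCoproduct X := ⟨⟨⟨_, sigmaIsColimit X⟩⟩⟩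

theorem hasColimitsOfShape : HasColimitsOfShape (Discrete σ) Pair.{u} :=
  ⟨fun F => have : HasColimit (Discrete.functor (F.obj ∘ Discrete.mk)) := hasCoproduct _
    hasColimit_of_iso (Discrete.natIsoFunctor : F ≅ _)⟩

theorem preservesColimitsOfShape_forget : PreservesColimitsOfShape (Discrete σ) Pair.forget.{u} where
  preservesColimit {F} := by
    have : PreservesColimit (Discrete.functor (F.obj ∘ Discrete.mk)) Pair.forget.{u} :=
      preservesColimit_of_preserves_colimit_cocone (sigmaIsColimit fun i : σ => F.obj ⟨i⟩)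
        ((isColimitMapCoconeCofanMkEquiv _ _ _).symm (coproductIsCoproduct fun i : σ => (F.obj ⟨i⟩).total))
    exact preservesColimit_of_iso_diagram _ (Discrete.natIsoFunctor (F := F)).symm

/-- Coproducts of admissible blow-ups are admissible blow-ups. -/
theorem admBlowup_sigmaMap {A B : σ → Pair.{u}} (s : ∀ i, A i ⟶ B i) (hs : ∀ i, Pair.admBlowup (s i)) :
    Pair.admBlowup (sigmaDesc fun i => s i ≫ sigmaInj B i) := by
  have e : (sigmaDesc fun i => s i ≫ sigmaInj B i).hom = Limits.Sigma.map fun i => (s i).hom :=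
    Sigma.hom_ext _ _ fun i =>
      (Sigma.ι_desc (fun i => (s i ≫ sigmaInj B i).hom) i).trans (Sigma.ι_map (fun i => (s i).hom) i).symm
  refine ⟨?_, ?_, ?_⟩
  · refine eq_of_openCover (sigmaOpenCover _) fun i => ?_
    show (sigmaMod _).comap (Sigma.ι (fun i => (A i).total) i) =
      ((sigmaMod _).comap _).comap (Sigma.ι (fun i => (A i).total) i)
    refine (comap_sigmaMod (fun i => (A i).mod) i).trans (Eq.trans ?_ (Scheme.IdealSheafData.comap_comp _ _ _))
    refine Eq.trans ?_ (congrArg _ ((congrArg (Sigma.ι (fun i => (A i).total) i ≫ ·) e).trans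
      (Sigma.ι_map (fun i => (s i).hom) i))).symm
    refine Eq.trans ?_ (Scheme.IdealSheafData.comap_comp _ _ _).symm
    exact (hs i).1.trans (congrArg (Scheme.IdealSheafData.comap · (s i).hom) (comap_sigmaMod (fun i => (B i).mod) i).symm)
  · rw [e]; exact sigmaMap_of_local (P := @IsProper) _ fun i => (hs i).2.1
  · rw [e]
    let ιB := fun i => Sigma.ι (fun i => (B i).total) i
    let U : (∐ fun i => (B i).total).Opens := ModPair.interior (sigmaMod fun i => (B i).mod)
    show IsIso (Limits.Sigma.map (fun i => (s i).hom) ∣_ U)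
    refine isIso_restrict_iSup _ U (fun i => ιB i ''ᵁ (ιB i ⁻¹ᵁ U)) (fun i => ?_) ?_ fun i => ?_
    · exact (Scheme.Hom.image_preimage_eq_opensRange_inf _ _).le.trans inf_le_right
    · intro x hx
      obtain ⟨i, y, rfl⟩ := (sigmaOpenCover fun i => (B i).total).exists_eq x
      exact Opens.mem_iSup.mpr ⟨i, ⟨y, hx, rfl⟩⟩
    · have H := isPullback_sigmaMap (fun i => (s i).hom) i
      refine isIso_restrict_one _ (Sigma.ι (fun i => (A i).total) i) _ (fun z hz => ?_) ?_
      · obtain ⟨y, -, hy⟩ := hz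
        obtain ⟨j, y', rfl⟩ := (sigmaOpenCover fun i => (A i).total).exists_eq z
        change ιB i y = Limits.Sigma.map (fun i => (s i).hom) (Sigma.ι (fun i => (A i).total) j y') at hy
        rw [← Scheme.Hom.comp_apply, Sigma.ι_map, Scheme.Hom.comp_apply] at hy
        obtain rfl : i = j := congrArg Sigma.fst ((sigmaι_eq_iff (fun i => (B i).total) i j y ((s j).hom y')).mp hy)
        exact ⟨y', rfl⟩
      · rw [Sigma.ι_map, morphismRestrict_comp]
        have h1 : IsIso (ιB i ∣_ ιB i ''ᵁ (ιB i ⁻¹ᵁ U)) := by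
          have : Surjective (ιB i ∣_ ιB i ''ᵁ (ιB i ⁻¹ᵁ U)) := ⟨fun z => by
            obtain ⟨y, hyU, hy⟩ := z.2
            exact ⟨⟨y, ⟨y, hyU, rfl⟩⟩, Subtype.ext ((morphismRestrict_base_coe _ _ _).trans hy)⟩⟩
          exact (isIso_iff_isOpenImmersion_and_epi_base _).mpr
            ⟨inferInstance, (TopCat.epi_iff_surjective _).mpr this.1⟩
        have h2 : IsIso ((s i).hom ∣_ ιB i ⁻¹ᵁ ιB i ''ᵁ (ιB i ⁻¹ᵁ U)) := by
          have he : ιB i ⁻¹ᵁ ιB i ''ᵁ (ιB i ⁻¹ᵁ U) = ModPair.interior (B i).mod := by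
            rw [Scheme.Hom.preimage_image_eq]
            show Sigma.ι (fun i => (B i).total) i ⁻¹ᵁ ModPair.interior (sigmaMod fun i => (B i).mod) = _
            rw [← interior_comap, comap_sigmaMod]
          rw [he]; exact (hs i).2.2
        exact IsIso.comp_isIso' h2 h1

section localization

variable {D : Type w} [Category.{v} D] (L : Pair.{u} ⥤ D) [L.IsLocalization Pair.admBlowup.{u}]

theorem exists_fraction' {P Q : Pair.{u}} (a : L.obj P ⟶ L.obj Q) :
    ∃ (P' : Pair.{u}) (r : P' ⟶ P) (f : P' ⟶ Q), Pair.admBlowup r ∧ L.map r ≫ a = L.map f := by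
  obtain ⟨φ, rfl⟩ := Localization.exists_rightFraction L Pair.admBlowup a
  exact ⟨φ.X', φ.s, φ.f, φ.hs, φ.map_s_comp_map L (Localization.inverts L Pair.admBlowup)⟩

theorem sigma_desc_exists (X : σ → Pair.{u}) {Z : Pair.{u}} (a : ∀ i, L.obj (X i) ⟶ L.obj Z) :
    ∃ m : L.obj (sigmaPair X) ⟶ L.obj Z, ∀ i, L.map (sigmaInj X i) ≫ m = a i := by
  choose P r f hr hf using fun i => exists_fraction' L (a i)
  have hw := admBlowup_sigmaMap r hr
  have : IsIso (L.map (sigmaDesc fun i => r i ≫ sigmaInj X i)) := Localization.inverts L _ _ hw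
  refine ⟨inv (L.map (sigmaDesc fun i => r i ≫ sigmaInj X i)) ≫ L.map (sigmaDesc f), fun i => ?_⟩
  have : IsIso (L.map (r i)) := Localization.inverts L _ _ (hr i)
  rw [← cancel_epi (L.map (r i)), hf, ← L.map_comp_assoc, ← sigmaInj_desc (fun i => r i ≫ sigmaInj X i) i,
    L.map_comp_assoc, IsIso.hom_inv_id_assoc, ← L.map_comp, sigmaInj_desc]

theorem sigma_map_hom_ext (X : σ → Pair.{u}) {Z : Pair.{u}} {m m' : L.obj (sigmaPair X) ⟶ L.obj Z}
    (h : ∀ i, L.map (sigmaInj X i) ≫ m = L.map (sigmaInj X i) ≫ m') : m = m' := by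
  obtain ⟨P₁, r₁, c₁, hr₁, hc₁⟩ := exists_fraction' L m
  obtain ⟨P₂, r₂, d, hr₂, hd⟩ := exists_fraction' L (L.map r₁ ≫ m')
  obtain ⟨r, c, hr, hc, hd'⟩ : ∃ (r : P₂ ⟶ sigmaPair X) (c : P₂ ⟶ Z), Pair.admBlowup r ∧
      L.map r ≫ m = L.map c ∧ L.map r ≫ m' = L.map d :=
    ⟨r₂ ≫ r₁, r₂ ≫ c₁, (Pair.admBlowup).comp_mem _ _ hr₂ hr₁, by rw [L.map_comp, Category.assoc, hc₁, L.map_comp],
      by rw [L.map_comp, Category.assoc, hd]⟩
  choose A q p hq hqp using fun i => exists_square r hr (sigmaInj X i)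
  have heq : ∀ i, L.map (p i ≫ c) = L.map (p i ≫ d) := fun i => by
    rw [Functor.map_comp, Functor.map_comp, ← hc, ← hd', ← L.map_comp_assoc, ← L.map_comp_assoc, ← hqp,
      L.map_comp_assoc, L.map_comp_assoc, h]
  choose A' t ht htc using fun i => (MorphismProperty.map_eq_iff_precomp L Pair.admBlowup _ _).mp (heq i)
  let w := sigmaDesc fun i => (t i ≫ q i) ≫ sigmaInj X i
  have hw : Pair.admBlowup w := admBlowup_sigmaMap _ fun i => (Pair.admBlowup).comp_mem _ _ (ht i) (hq i)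
  let k : sigmaPair A' ⟶ P₂ := sigmaDesc fun i => t i ≫ p i
  have hk : k ≫ r = w := sigma_hom_ext fun i => by
    rw [← Category.assoc, sigmaInj_desc, Category.assoc, ← hqp, sigmaInj_desc, Category.assoc]
  have hkcd : k ≫ c = k ≫ d := sigma_hom_ext fun i => by
    rw [← Category.assoc, ← Category.assoc, sigmaInj_desc, Category.assoc, Category.assoc, htc]
  have i1 : IsIso (L.map r) := Localization.inverts L _ _ hr
  have i2 : IsIso (L.map k ≫ L.map r) := by
    rw [← L.map_comp, hk]; exact Localization.inverts L _ _ hw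
  have : IsIso (L.map k) := IsIso.of_isIso_comp_right (L.map k) (L.map r)
  have hcd : L.map c = L.map d := by
    rw [← cancel_epi (L.map k), ← L.map_comp, ← L.map_comp, hkcd]
  rw [← cancel_epi (L.map r), hc, hd', hcd]

/-- The image of a coproduct in the localization is a coproduct. -/
theorem nonempty_sigmaIsColimit_map (X : σ → Pair.{u}) :
    Nonempty (IsColimit (Cofan.mk (L.obj (sigmaPair X)) fun i => L.map (sigmaInj X i))) := by
  have := Localization.essSurj L Pair.admBlowup.{u}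
  have hex : ∀ t : Cofan (fun i => L.obj (X i)), ∃ m : L.obj (sigmaPair X) ⟶ t.pt,
      ∀ i, L.map (sigmaInj X i) ≫ m = t.inj i := fun t => by
    obtain ⟨m, hm⟩ := sigma_desc_exists L X fun i => t.inj i ≫ (L.objObjPreimageIso t.pt).inv
    exact ⟨m ≫ (L.objObjPreimageIso t.pt).hom, fun i => by rw [reassoc_of% hm i, Iso.inv_hom_id, Category.comp_id]⟩
  choose m hm using hex
  refine ⟨Cofan.IsColimit.mk _ m hm fun t m' hm' => ?_⟩
  rw [← cancel_mono (L.objObjPreimageIso t.pt).inv]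
  exact sigma_map_hom_ext L X fun i => by
    rw [← Category.assoc, ← Category.assoc]
    exact congrArg (· ≫ (L.objObjPreimageIso t.pt).inv) ((hm' i).trans (hm t i).symm)

theorem preservesColimitsOfShape : PreservesColimitsOfShape (Discrete σ) L where
  preservesColimit {F} := by
    obtain ⟨h⟩ := nonempty_sigmaIsColimit_map L fun i : σ => F.obj ⟨i⟩
    have : PreservesColimit (Discrete.functor (F.obj ∘ Discrete.mk)) L :=
      preservesColimit_of_preserves_colimit_cocone (sigmaIsColimit fun i : σ => F.obj ⟨i⟩)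
        ((isColimitMapCoconeCofanMkEquiv _ _ _).symm h)
    exact preservesColimit_of_iso_diagram _ (Discrete.natIsoFunctor (F := F)).symm

include L in
theorem hasColimitsOfShape_localization : HasColimitsOfShape (Discrete σ) D := by
  have := Localization.essSurj L Pair.admBlowup.{u}
  refine ⟨fun F => ?_⟩
  obtain ⟨h⟩ := nonempty_sigmaIsColimit_map L fun i : σ => L.objPreimage (F.obj ⟨i⟩)
  have : HasColimit (Discrete.functor fun i : σ => L.obj (L.objPreimage (F.obj ⟨i⟩))) := ⟨⟨⟨_, h⟩⟩⟩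
  exact hasColimit_of_iso (Discrete.natIso (fun i => (L.objObjPreimageIso (F.obj i)).symm) :
    F ≅ Discrete.functor fun i : σ => L.obj (L.objPreimage (F.obj ⟨i⟩)))

end localization

end Groth.ModPairs
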