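import Groth.Agent.ModPairs.Basic
import Mathlib.AlgebraicGeometry.Morphisms.Proper

/-!
# The scheme-theoretic image of the product of interiors
-/

set_option autoImplicit false
universe u

open CategoryTheory CategoryTheory.Limits AlgebraicGeometry TopologicalSpace BlowUp

namespace Groth.ModPairs

variable {X Y Z S T W : Scheme.{u}} {f : X ⟶ S} {g : T ⟶ S} {I : X.IdealSheafData} {J : T.IdealSheafData}

theorem isAffineHom_prodInterior (hI : IsEffCartierIdeal I) (hJ : IsEffCartierIdeal J) :
    IsAffineHom (ModPair.prodInterior f g I J).ι := by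
  have := isAffineHom_interior hI
  have := isAffineHom_interior hJ
  have := isAffineHom_preimage (pullback.fst f g) (ModPair.interior I)
  have := isAffineHom_preimage (pullback.snd f g) (ModPair.interior J)
  exact isAffineHom_inf _ _

section image

variable (U : X.Opens) [QuasiCompact U.ι]

theorem isPullback_toImage :
    IsPullback U.ι.toImage (𝟙 (U : Scheme.{u})) U.ι.imageι U.ι := by
  refine ⟨⟨by simp⟩, ⟨PullbackCone.IsLimit.mk _ (fun s => s.snd) (fun s => ?_) (fun s => by simp)
    (fun s m _ h₂ => by simpa using h₂)⟩⟩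
  rw [← cancel_mono U.ι.imageι, Category.assoc, Scheme.Hom.toImage_imageι]
  exact s.condition.symm

theorem isIso_imageι_restrict : IsIso (U.ι.imageι ∣_ U) := by
  have H := isPullback_morphismRestrict U.ι.imageι U
  have H' := (isPullback_toImage U).flip
  have : (U.ι.imageι ∣_ U) = (H.isoIsPullback _ _ H').hom ≫ 𝟙 (U : Scheme.{u}) :=
    (H.isoIsPullback_hom_fst _ _ H').symm
  rw [this]
  infer_instance

theorem dominant_preimage_imageι : IsSchemeTheoreticallyDominant (U.ι.imageι ⁻¹ᵁ U).ι := by
  have H := isPullback_morphismRestrict U.ι.imageι U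
  have H' := (isPullback_toImage U).flip
  have := Flatmor4.isSchemeTheoreticallyDominant_toImage U.ι
  have : (U.ι.imageι ⁻¹ᵁ U).ι = (H.isoIsPullback _ _ H').hom ≫ U.ι.toImage :=
    (H.isoIsPullback_hom_snd _ _ H').symm
  rw [this]
  infer_instance

end image

theorem dominant_mprod (hI : IsEffCartierIdeal I) (hJ : IsEffCartierIdeal J) :
    IsSchemeTheoreticallyDominant (ModPair.mprodι f g I J ⁻¹ᵁ ModPair.prodInterior f g I J).ι := by
  have := isAffineHom_prodInterior (f := f) (g := g) hI hJ
  exact dominant_preimage_imageι _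

theorem isIso_mprodι_restrict (hI : IsEffCartierIdeal I) (hJ : IsEffCartierIdeal J) :
    IsIso (ModPair.mprodι f g I J ∣_ ModPair.prodInterior f g I J) := by
  have := isAffineHom_prodInterior (f := f) (g := g) hI hJ
  exact isIso_imageι_restrict _

theorem isEffCartierIdeal_comap_fst (hI : IsEffCartierIdeal I) (hJ : IsEffCartierIdeal J) :
    IsEffCartierIdeal (I.comap (ModPair.mprodι f g I J ≫ pullback.fst f g)) := by
  have := dominant_mprod (f := f) (g := g) hI hJ
  have : IsSchemeTheoreticallyDominant
      ((ModPair.mprodι f g I J ≫ pullback.fst f g) ⁻¹ᵁ ModPair.interior I).ι :=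
    dominant_mono (U := ModPair.mprodι f g I J ⁻¹ᵁ ModPair.prodInterior f g I J) fun x hx => hx.1
  exact isEffCartierIdeal_comap_of_dominant hI _

theorem isEffCartierIdeal_comap_snd (hI : IsEffCartierIdeal I) (hJ : IsEffCartierIdeal J) :
    IsEffCartierIdeal (J.comap (ModPair.mprodι f g I J ≫ pullback.snd f g)) := by
  have := dominant_mprod (f := f) (g := g) hI hJ
  have : IsSchemeTheoreticallyDominant
      ((ModPair.mprodι f g I J ≫ pullback.snd f g) ⁻¹ᵁ ModPair.interior J).ι :=
    dominant_mono (U := ModPair.mprodι f g I J ⁻¹ᵁ ModPair.prodInterior f g I J) fun x hx => hx.2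
  exact isEffCartierIdeal_comap_of_dominant hJ _

/-- A morphism from a modulus pair to both factors lands in the image of the product of interiors. -/
theorem exists_lift (hI : IsEffCartierIdeal I) (hJ : IsEffCartierIdeal J) {IW : W.IdealSheafData}
    (hW : IsEffCartierIdeal IW) (b : W ⟶ X) (a : W ⟶ T) (hb : ModPair.IsAmbient IW I b)
    (ha : ModPair.IsAmbient IW J a) (h : b ≫ f = a ≫ g) :
    ∃! c : W ⟶ ModPair.mprod f g I J, c ≫ ModPair.mprodι f g I J = pullback.lift b a h := by
  set c₀ := pullback.lift b a h with hc₀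
  have hle : ModPair.interior IW ≤ c₀ ⁻¹ᵁ ModPair.prodInterior f g I J := by
    intro x hx
    have h1 := interior_le_of_isAmbient hb hx
    have h2 := interior_le_of_isAmbient ha hx
    refine ⟨?_, ?_⟩
    · show pullback.fst f g (c₀ x) ∈ ModPair.interior I
      rw [← Scheme.Hom.comp_apply, hc₀, pullback.lift_fst]; exact h1
    · show pullback.snd f g (c₀ x) ∈ ModPair.interior J
      rw [← Scheme.Hom.comp_apply, hc₀, pullback.lift_snd]; exact h2
  have := dominant_interior hW
  have hker : (ModPair.prodInterior f g I J).ι.ker ≤ c₀.ker := by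
    have h1 := Scheme.Hom.le_ker_comp
      (W.homOfLE hle ≫ (c₀ ∣_ ModPair.prodInterior f g I J)) (ModPair.prodInterior f g I J).ι
    rw [Category.assoc, morphismRestrict_ι, Scheme.homOfLE_ι_assoc, Scheme.Hom.ker_comp _ c₀,
      (ModPair.interior IW).ι.ker_eq_bot, Scheme.IdealSheafData.map_bot] at h1
    exact h1
  refine ⟨IsClosedImmersion.lift (ModPair.mprodι f g I J) c₀ ?_, IsClosedImmersion.lift_fac _ _ _,
    fun c hc => ?_⟩
  · rw [Scheme.IdealSheafData.ker_subschemeι]; exact hker
  · rw [← cancel_mono (ModPair.mprodι f g I J), hc, IsClosedImmersion.lift_fac]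

variable {IS : S.IdealSheafData}

/-- Base change of an admissible blow-up. -/
theorem isAdmBlowup_base_change (hT : IsEffCartierIdeal J) (hX : IsEffCartierIdeal I)
    (hg : ModPair.IsAmbient J IS g) (hs : ModPair.IsAdmBlowup I IS f) :
    ModPair.IsAdmBlowup (J.comap (ModPair.mprodι f g I J ≫ pullback.snd f g)) J
        (ModPair.mprodι f g I J ≫ pullback.snd f g) ∧
      ModPair.IsAmbient (J.comap (ModPair.mprodι f g I J ≫ pullback.snd f g)) I
        (ModPair.mprodι f g I J ≫ pullback.fst f g) := by
  obtain ⟨hmin, hprop, hiso⟩ := hs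
  have hX' : ModPair.interior I = f ⁻¹ᵁ ModPair.interior IS := by
    rw [show I = IS.comap f from hmin, interior_comap]
  have hT' := interior_le_of_isAmbient hg
  have hpI : ModPair.prodInterior f g I J = pullback.snd f g ⁻¹ᵁ ModPair.interior J := by
    refine inf_eq_right.mpr fun z hz => ?_
    rw [hX']
    show f (pullback.fst f g z) ∈ ModPair.interior IS
    rw [← Scheme.Hom.comp_apply, pullback.condition, Scheme.Hom.comp_apply]
    exact hT' hz
  refine ⟨⟨rfl, inferInstance, ?_⟩, ?_⟩
  · rw [morphismRestrict_comp]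
    have h1 : IsIso (ModPair.mprodι f g I J ∣_ pullback.snd f g ⁻¹ᵁ ModPair.interior J) := by
      rw [← hpI]; exact isIso_mprodι_restrict hX hT
    have h2 : IsIso (pullback.snd f g ∣_ ModPair.interior J) := by
      have hp1 := (isPullback_morphismRestrict (pullback.snd f g) (ModPair.interior J)).paste_vert
        (IsPullback.of_hasPullback f g).flip
      have hw : T.homOfLE hT' ≫ (g ∣_ ModPair.interior IS) ≫ (ModPair.interior IS).ι =
          (ModPair.interior J).ι ≫ g := by
        rw [morphismRestrict_ι, Scheme.homOfLE_ι_assoc]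
      rw [← hw] at hp1
      have hp2 := isPullback_morphismRestrict f (ModPair.interior IS)
      let k : (↑(pullback.snd f g ⁻¹ᵁ ModPair.interior J) : Scheme.{u}) ⟶
          ↑(f ⁻¹ᵁ ModPair.interior IS) :=
        hp2.lift ((pullback.snd f g ∣_ ModPair.interior J) ≫ T.homOfLE hT' ≫ (g ∣_ ModPair.interior IS))
          ((pullback.snd f g ⁻¹ᵁ ModPair.interior J).ι ≫ pullback.fst f g) (by simpa using hp1.w)
      have hp3 : IsPullback k (pullback.snd f g ∣_ ModPair.interior J) (f ∣_ ModPair.interior IS)
          (T.homOfLE hT' ≫ (g ∣_ ModPair.interior IS)) := by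
        refine IsPullback.of_right ?_ (hp2.lift_fst _ _ _) hp2.flip
        simpa [k] using hp1.flip
      have := hiso
      exact hp3.isIso_snd_of_isIso
    exact IsIso.comp_isIso' h1 h2
  · show _ ≤ _
    rw [show I = IS.comap f from hmin, ← Scheme.IdealSheafData.comap_comp, Category.assoc,
      pullback.condition, ← Category.assoc, Scheme.IdealSheafData.comap_comp _ _ g]
    exact Scheme.IdealSheafData.comap_mono _ hg

end Groth.ModPairs
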