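import Groth.Agent.ModPairs.LimitLe
import Groth.Agent.FlatMor2.AffineThickening
import Groth.Agent.Limits.ProperApprox
import Groth.Agent.Limits.RelApproxCor

/-!
# Approximation of a modulus by locally principal ideal sheaves at finite stages
-/

set_option autoImplicit false
universe u

open CategoryTheory CategoryTheory.Limits AlgebraicGeometry TopologicalSpace Opposite

namespace Groth.ModPairs

theorem locGen_of_cover {X : Scheme.{u}} {K : X.IdealSheafData}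
    (h : ∀ x : X, ∃ W : X.affineOpens, x ∈ W.1 ∧ ∃ g : Γ(X, W.1), K.ideal W = Ideal.span {g}) :
    LocGen K := fun x O hx => by
  obtain ⟨W, hW, g, hg⟩ := h x
  obtain ⟨_, ⟨V, hV, rfl⟩, hxV, hVW⟩ := X.isBasis_affineOpens.exists_subset_of_mem_open
    (show x ∈ W.1 ⊓ O from ⟨hW, hx⟩) (W.1 ⊓ O).isOpen
  have hle : (⟨V, hV⟩ : X.affineOpens).1 ≤ W.1 := fun y hy => (hVW hy).1
  refine ⟨⟨V, hV⟩, hxV, fun y hy => (hVW hy).2, X.presheaf.map (homOfLE hle).op g, ?_⟩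
  rw [← K.map_ideal (U := ⟨V, hV⟩) (V := W) hle, hg, Ideal.map_span, Set.image_singleton]
  rfl

theorem LocGen.isLocPrincipal {X : Scheme.{u}} {K : X.IdealSheafData} (h : LocGen K) :
    ∀ x : X, ∃ U : X.affineOpens, x ∈ (U : X.Opens) ∧ ∃ g : Γ(X, U.1), K.ideal U = Ideal.span {g} :=
  fun x => by
    obtain ⟨W, hW, -, g, hg⟩ := h x ⊤ trivial
    exact ⟨W, hW, g, hg⟩

set_option backward.isDefEq.respectTransparency false in
theorem exists_nhd_generator {X P : Scheme.{u}} (p : X ⟶ P) [IsClosedImmersion p]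
    {I : X.IdealSheafData} (hI : LocGen I) (y : P) :
    ∃ W : P.affineOpens, y ∈ W.1 ∧ ∃ g : Γ(P, W.1),
      I.ideal ⟨p ⁻¹ᵁ W.1, W.2.preimage p⟩ = Ideal.span {p.app W.1 g} := by
  by_cases hy : y ∈ Set.range p
  · obtain ⟨x, rfl⟩ := hy
    obtain ⟨W', hx, -, b, hb⟩ := hI x ⊤ trivial
    obtain ⟨O, hO, hOW⟩ := p.isClosedEmbedding.isInducing.isOpen_iff.mp W'.1.isOpen
    have hxO : p x ∈ O := (Set.ext_iff.mp hOW x).mpr hx
    obtain ⟨_, ⟨W, hW, rfl⟩, hxW, hWO⟩ := P.isBasis_affineOpens.exists_subset_of_mem_open hxO hO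
    have hle : p ⁻¹ᵁ W ≤ W'.1 := fun z hz => (Set.ext_iff.mp hOW z).mp (hWO hz)
    obtain ⟨g, hg⟩ := p.app_surjective W hW (X.presheaf.map (homOfLE hle).op b)
    refine ⟨⟨W, hW⟩, hxW, g, ?_⟩
    rw [← I.map_ideal (U := ⟨p ⁻¹ᵁ W, hW.preimage p⟩) (V := W') hle, hb, Ideal.map_span,
      Set.image_singleton, hg]
    rfl
  · obtain ⟨_, ⟨W, hW, rfl⟩, hyW, hWp⟩ := P.isBasis_affineOpens.exists_subset_of_mem_open
      (show y ∈ (Set.range p)ᶜ from hy) p.isClosedEmbedding.isClosed_range.isOpen_compl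
    refine ⟨⟨W, hW⟩, hyW, 1, ?_⟩
    have he : p ⁻¹ᵁ W = ⊥ := by
      ext z
      exact ⟨fun hz => (hWp hz ⟨z, rfl⟩).elim, fun hz => hz.elim⟩
    have : Subsingleton Γ(X, p ⁻¹ᵁ W) := by
      rw [he]
      exact CommRingCat.subsingleton_of_isTerminal (X.sheaf.isTerminalOfEmpty)
    exact Subsingleton.elim _ _

set_option backward.isDefEq.respectTransparency false in
theorem exists_fg_lift {X P : Scheme.{u}} (p : X ⟶ P) [IsClosedImmersion p] [CompactSpace P]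
    [QuasiSeparatedSpace P] {I : X.IdealSheafData} (hI : LocGen I) :
    ∃ (K : P.IdealSheafData) (s : Finset P.affineOpens) (g : ∀ W : P.affineOpens, Γ(P, W.1)),
      K.comap p = I ∧ (∀ y : P, ∃ W ∈ s, y ∈ W.1) ∧
        ∀ W ∈ s, (K.ideal W).FG ∧ g W ∈ K.ideal W ∧
          I.ideal ⟨p ⁻¹ᵁ W.1, W.2.preimage p⟩ = Ideal.span {p.app W.1 (g W)} := by
  classical
  choose W hyW g hg using exists_nhd_generator p hI
  obtain ⟨u, hu⟩ := isCompact_univ.elim_finite_subcover (fun y => ((W y).1 : Set P))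
    (fun y => (W y).1.isOpen) (fun y _ => Set.mem_iUnion.mpr ⟨y, hyW y⟩)
  let g' : ∀ V : P.affineOpens, Γ(P, V.1) := fun V =>
    if h : ∃ y, W y = V then h.choose_spec ▸ g h.choose else 0
  have hg' : ∀ V ∈ u.image W, I.ideal ⟨p ⁻¹ᵁ V.1, V.2.preimage p⟩ = Ideal.span {p.app V.1 (g' V)} := by
    intro V hV
    obtain ⟨y, -, hy⟩ := Finset.mem_image.mp hV
    have h : ∃ y, W y = V := ⟨y, hy⟩
    simp only [g', dif_pos h]
    generalize h.choose_spec = e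
    generalize h.choose = y' at e
    subst e
    exact hg y'
  have hmem : ∀ V ∈ u.image W, g' V ∈ (I.map p).ideal V := fun V hV => by
    rw [Scheme.IdealSheafData.ideal_map (H := V.2.preimage p), Ideal.mem_comap, hg' V hV]
    exact Ideal.mem_span_singleton_self _
  suffices h : ∀ t ⊆ u.image W, ∃ K ≤ I.map p,
      (∀ V ∈ u.image W, (K.ideal V).FG) ∧ ∀ V ∈ t, g' V ∈ K.ideal V by
    obtain ⟨K, hle, hfg, hK⟩ := h _ subset_rfl
    have hcov : ∀ y : P, ∃ V ∈ u.image W, y ∈ V.1 := fun y => by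
      obtain ⟨y', hy', hy⟩ := Set.mem_iUnion₂.mp (hu (Set.mem_univ y))
      exact ⟨W y', Finset.mem_image_of_mem W hy', hy⟩
    refine ⟨K, u.image W, g', le_antisymm (Scheme.IdealSheafData.le_map_iff_comap_le.mp hle) ?_,
      hcov, fun V hV => ⟨hfg V hV, hK V hV, hg' V hV⟩⟩
    refine le_of_cover fun x => ?_
    obtain ⟨V, hV, hxV⟩ := hcov (p x)
    refine ⟨⟨p ⁻¹ᵁ V.1, V.2.preimage p⟩, hxV, ?_⟩
    rw [Divisors.ideal_comap_affine K p V ⟨p ⁻¹ᵁ V.1, V.2.preimage p⟩ le_rfl, hg' V hV,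
      ← Scheme.Hom.app_eq_appLE, Ideal.span_singleton_le_iff_mem]
    exact Ideal.mem_map_of_mem _ (hK V hV)
  intro t
  induction t using Finset.induction with
  | empty => exact fun _ => ⟨⊥, bot_le, fun V _ => by
      rw [Scheme.IdealSheafData.ideal_bot]; exact Submodule.fg_bot, by simp⟩
  | insert V t hVt ih =>
    intro hsub
    obtain ⟨K, hle, hfg, hK⟩ := ih (fun x hx => hsub (Finset.mem_insert_of_mem hx))
    obtain ⟨K', hle', hmem', hfg'⟩ := FlatMor2.exists_le_fg (I.map p) V (g' V)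
      (hmem V (hsub (Finset.mem_insert_self _ _))) (u.image W)
    refine ⟨K ⊔ K', sup_le hle hle', fun U hU => ?_, fun U hU => ?_⟩
    · rw [Scheme.IdealSheafData.ideal_sup, Pi.sup_apply]
      exact Submodule.FG.sup (hfg U hU) (hfg' U hU)
    · rw [Scheme.IdealSheafData.ideal_sup, Pi.sup_apply]
      rcases Finset.mem_insert.mp hU with rfl | hU
      · exact Ideal.mem_sup_right hmem'
      · exact Ideal.mem_sup_left (hK U hU)

variable {X Y : Scheme.{u}} {f : X ⟶ Y} (R : Limits.RelSystem f)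

theorem trans_left {i j k : R.Iᵒᵖ} (a : i ⟶ j) (b : j ⟶ k) :
    (R.D.map (a ≫ b)).left = (R.D.map a).left ≫ (R.D.map b).left := by
  rw [R.D.map_comp, Over.comp_left]

set_option backward.isDefEq.respectTransparency false in
/-- An effective Cartier modulus on the limit comes from a locally principal ideal of a stage. -/
theorem exists_locGen_stage [CompactSpace Y] [QuasiSeparatedSpace Y]
    (hπ : ∀ i, IsClosedImmersion (R.π.app i).left) {I : X.IdealSheafData} (hI : LocGen I) :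
    ∃ (i : R.Iᵒᵖ) (J : (R.D.obj i).left.IdealSheafData),
      LocGen J ∧ J.comap (R.π.app i).left = I := by
  classical
  obtain ⟨i⟩ : Nonempty R.Iᵒᵖ := inferInstance
  have := R.compact i
  have := R.quasiSeparated i
  have : QuasiSeparatedSpace (R.D.obj i).left := quasiSeparatedSpace_of_quasiSeparated (R.D.obj i).hom
  have := hπ i
  have : ∀ {i j : R.Iᵒᵖ} (t : i ⟶ j), IsAffineHom (R.left.map t) := fun t => R.affine _ _ t
  obtain ⟨K, s, g, hK, hcov, hs⟩ := exists_fg_lift (R.π.app i).left hI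
  have hgen : ∀ W : {W // W ∈ s}, ∃ G : Finset Γ((R.D.obj i).left, W.1.1),
      Ideal.span (G : Set _) = K.ideal W.1 := fun W => (hs W.1 W.2).1
  choose G hG using hgen
  have hstep : ∀ m : Σ W : {W // W ∈ s}, {h // h ∈ G W}, ∃ (j : R.Iᵒᵖ) (a : j ⟶ i)
      (z : Γ((R.D.obj i).left, m.1.1.1)), (R.D.map a).left.app m.1.1.1 m.2.1 =
        (R.D.map a).left.app m.1.1.1 (g m.1.1 * z) := by
    intro m
    obtain ⟨-, -, hspan⟩ := hs m.1.1 m.1.2
    have hm : (R.π.app i).left.app m.1.1.1 m.2.1 ∈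
        I.ideal ⟨(R.π.app i).left ⁻¹ᵁ m.1.1.1, m.1.1.2.preimage _⟩ := by
      rw [← hK, Divisors.ideal_comap_affine K (R.π.app i).left m.1.1
        ⟨(R.π.app i).left ⁻¹ᵁ m.1.1.1, m.1.1.2.preimage _⟩ le_rfl, Scheme.Hom.app_eq_appLE]
      exact Ideal.mem_map_of_mem _ (hG m.1 ▸ Ideal.subset_span m.2.2)
    rw [hspan, Ideal.mem_span_singleton] at hm
    obtain ⟨z', hz'⟩ := hm
    obtain ⟨z, rfl⟩ := (R.π.app i).left.app_surjective m.1.1.1 m.1.1.2 z'
    rw [← map_mul] at hz'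
    obtain ⟨j, a, hja⟩ := exists_app_map_eq_map_of_isLimit R.left R.leftCone R.isLimitLeftCone
      m.1.1.2.isCompact _ _ hz'
    exact ⟨j, a, z, hja⟩
  choose j a z hz using hstep
  obtain ⟨l, t, ht⟩ := exists_common (Finset.univ : Finset (Σ W : {W // W ∈ s}, {h // h ∈ G W})) j a
  refine ⟨l, K.comap (R.D.map t).left, locGen_of_cover fun y => ?_, ?_⟩
  · obtain ⟨W, hW, hy⟩ := hcov ((R.D.map t).left y)
    have : IsAffineHom (R.D.map t).left := R.affine _ _ t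
    let V : (R.D.obj l).left.affineOpens := ⟨(R.D.map t).left ⁻¹ᵁ W.1, W.2.preimage _⟩
    refine ⟨V, hy, (R.D.map t).left.app W.1 (g W), ?_⟩
    rw [Divisors.ideal_comap_affine K (R.D.map t).left W V le_rfl, ← Scheme.Hom.app_eq_appLE]
    apply le_antisymm
    · rw [← hG ⟨W, hW⟩, Ideal.map_span, Ideal.span_le]
      rintro _ ⟨h, hh, rfl⟩
      obtain ⟨b, hb⟩ := ht ⟨⟨W, hW⟩, ⟨h, hh⟩⟩ (Finset.mem_univ _)
      have hcomp : (R.D.map t).left = (R.D.map b).left ≫ (R.D.map (a ⟨⟨W, hW⟩, ⟨h, hh⟩⟩)).left := by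
        rw [← trans_left, hb]
      have key : (R.D.map t).left.app W.1 h =
          (R.D.map t).left.app W.1 (g W * z ⟨⟨W, hW⟩, ⟨h, hh⟩⟩) := by
        rw [Scheme.Hom.congr_app hcomp, Scheme.Hom.comp_app]
        simp only [CommRingCat.comp_apply]
        rw [hz ⟨⟨W, hW⟩, ⟨h, hh⟩⟩]
      rw [SetLike.mem_coe, Ideal.mem_span_singleton]
      exact ⟨_, key.trans (map_mul _ _ _)⟩
    · rw [Ideal.span_singleton_le_iff_mem]
      exact Ideal.mem_map_of_mem _ (hs W hW).2.1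
  · rw [← Scheme.IdealSheafData.comap_comp, ← hK]
    congr 1
    exact congrArg CommaMorphism.left (R.cone.w t)

set_option backward.isDefEq.respectTransparency false in
/-- The modulus condition at the limit holds at a finite stage. -/
theorem exists_le_stage {i : R.Iᵒᵖ} {J K : (R.D.obj i).left.IdealSheafData}
    (hJ : LocGen J) (hK : LocGen K)
    (hle : J.comap (R.π.app i).left ≤ K.comap (R.π.app i).left) :
    ∃ (l : R.Iᵒᵖ) (t : l ⟶ i), J.comap (R.D.map t).left ≤ K.comap (R.D.map t).left := by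
  have : CompactSpace (R.left.obj i) := R.compact i
  have : ∀ {i j : R.Iᵒᵖ} (t : i ⟶ j), IsAffineHom (R.left.map t) := fun t => R.affine _ _ t
  exact exists_comap_le R.left R.leftCone R.isLimitLeftCone (i := i) hJ hK hle

section

variable {I : Type u} [SmallCategory I] [IsCofiltered I] (D : I ⥤ Scheme.{u}) (c : Cone D)
  (hc : IsLimit c) [∀ {i j : I} (t : i ⟶ j), IsAffineHom (D.map t)]

include hc in
/-- An isomorphism over a quasi-compact open is one at a finite stage of a system of monomorphisms. -/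
theorem exists_isIso_restrict (h : ∀ m, D.obj m ⟶ Y) (hw : ∀ (m n : I) (a : m ⟶ n), D.map a ≫ h n = h m)
    (g : c.pt ⟶ Y) (hg : ∀ m, c.π.app m ≫ h m = g)
    [∀ m, LocallyOfFiniteType (h m)] [∀ m, QuasiCompact (h m)]
    [∀ (m n : I) (a : m ⟶ n), Mono (D.map a)]
    (V : Y.Opens) (hV : IsCompact (V : Set Y)) [IsIso (g ∣_ V)] (i : I) :
    ∃ (k : I) (_ : k ⟶ i), ∀ (l : I) (_ : l ⟶ k), IsIso (h l ∣_ V) := by
  let O : (D.obj i).Opens := h i ⁻¹ᵁ V
  let s : V.toScheme ⟶ D.obj i := inv (g ∣_ V) ≫ (g ⁻¹ᵁ V).ι ≫ c.π.app i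
  have hs : s ≫ h i = V.ι := by
    simp only [s, Category.assoc, hg, ← morphismRestrict_ι g V, IsIso.inv_hom_id_assoc]
  have hcompact : ∀ m, CompactSpace ((opensDiagram D i O).obj m) := fun m =>
    isCompact_iff_compactSpace.mp (QuasiCompact.isCompact_preimage (f := (D.map m.hom)) _ O.2
      (QuasiCompact.isCompact_preimage (f := h i) _ V.2 hV))
  let ts : opensDiagram D i O ⟶ (Functor.const _).obj Y :=
    { app := fun m => Scheme.Opens.ι _ ≫ h m.left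
      naturality := fun m n b => by
        show (D.map b.left).resLE _ _ _ ≫ (Scheme.Opens.ι _ ≫ h n.left) = _ ≫ 𝟙 Y
        rw [Scheme.Hom.resLE_comp_ι_assoc, Category.comp_id, hw]
        rfl }
  let a₁ : (opensDiagram D i O).obj (Over.mk (𝟙 i)) ⟶ D.obj i :=
    (D.map (𝟙 i) ⁻¹ᵁ O).ι ≫ D.map (𝟙 i)
  let a₂ : (opensDiagram D i O).obj (Over.mk (𝟙 i)) ⟶ D.obj i :=
    (D.map (𝟙 i)).resLE O _ le_rfl ≫ (h i ∣_ V) ≫ s
  have hlim : (opensCone D c i O).π.app (Over.mk (𝟙 i)) ≫ a₁ =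
      (opensCone D c i O).π.app (Over.mk (𝟙 i)) ≫ a₂ := by
    have hle : c.π.app i ⁻¹ᵁ O ≤ g ⁻¹ᵁ V := by rw [← Scheme.Hom.comp_preimage, hg]
    have hle' : c.π.app i ⁻¹ᵁ O ≤ c.π.app i ⁻¹ᵁ (D.map (𝟙 i) ⁻¹ᵁ O) := by simp
    have e1 : ((c.π.app i).resLE (D.map (𝟙 i) ⁻¹ᵁ O) (c.π.app i ⁻¹ᵁ O) hle' ≫
        (D.map (𝟙 i)).resLE O _ le_rfl) ≫ (h i ∣_ V) = Scheme.homOfLE _ hle ≫ (g ∣_ V) := by
      rw [← cancel_mono V.ι, Category.assoc, Category.assoc, Category.assoc, morphismRestrict_ι,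
        morphismRestrict_ι, Scheme.homOfLE_ι_assoc, Scheme.Hom.resLE_comp_ι_assoc (D.map (𝟙 i)),
        Scheme.Hom.resLE_comp_ι_assoc (c.π.app i), hw, hg]
    show ((c.π.app i).resLE (D.map (𝟙 i) ⁻¹ᵁ O) (c.π.app i ⁻¹ᵁ O) hle' ≫
        (D.map (𝟙 i) ⁻¹ᵁ O).ι ≫ D.map (𝟙 i) : (c.π.app i ⁻¹ᵁ O).toScheme ⟶ D.obj i) =
      (c.π.app i).resLE (D.map (𝟙 i) ⁻¹ᵁ O) (c.π.app i ⁻¹ᵁ O) hle' ≫
        (D.map (𝟙 i)).resLE O _ le_rfl ≫ (h i ∣_ V) ≫ s
    rw [Scheme.Hom.resLE_comp_ι_assoc]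
    have e1' := congrArg (fun m => m ≫ s) e1
    simp only [Category.assoc] at e1'
    refine Eq.trans ?_ e1'.symm
    simp [s]
  obtain ⟨k, b, hb⟩ := Scheme.exists_hom_comp_eq_comp_of_locallyOfFiniteType
    (opensDiagram D i O) ts (h i) _ (isLimitOpensCone D c hc i O) (i := Over.mk (𝟙 i))
    a₁ a₂ (by
      show (D.map (𝟙 i) ⁻¹ᵁ O).ι ≫ h i = _
      simp [a₁]; rfl)
    (by
      show (D.map (𝟙 i) ⁻¹ᵁ O).ι ≫ h i = _
      simp [a₂, hs, morphismRestrict_ι]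
      exact (Scheme.homOfLE_ι_assoc _ _ _).symm)
    hlim
  have hbk : k.hom = b.left := by simpa using (Over.w b).symm
  have hk0 : D.map k.hom ⁻¹ᵁ O ≤ D.map k.hom ⁻¹ᵁ (D.map (𝟙 i) ⁻¹ᵁ O) := by simp
  have hb' : ∀ (q : k.left ⟶ i) (_ : q = b.left)
      (hq : D.map k.hom ⁻¹ᵁ O ≤ D.map q ⁻¹ᵁ (D.map (𝟙 i) ⁻¹ᵁ O)),
      (D.map q).resLE _ _ hq ≫ (D.map (𝟙 i) ⁻¹ᵁ O).ι ≫ D.map (𝟙 i) =
        (D.map q).resLE _ _ hq ≫ (D.map (𝟙 i)).resLE O _ le_rfl ≫ (h i ∣_ V) ≫ s := by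
    rintro q rfl hq
    exact hb
  have e := hb' k.hom hbk hk0
  have e' : (D.map k.hom).resLE _ _ hk0 ≫ (D.map (𝟙 i)).resLE O (D.map (𝟙 i) ⁻¹ᵁ O) le_rfl =
      (D.map k.hom).resLE O _ le_rfl := by
    rw [← cancel_mono O.ι, Category.assoc, Scheme.Hom.resLE_comp_ι, Scheme.Hom.resLE_comp_ι_assoc,
      Scheme.Hom.resLE_comp_ι, D.map_id]
    exact congrArg _ (Category.comp_id _)
  have hk : (D.map k.hom ⁻¹ᵁ O).ι ≫ D.map k.hom =
      (D.map k.hom).resLE O _ le_rfl ≫ (h i ∣_ V) ≫ s := by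
    rw [← Category.assoc ((D.map k.hom).resLE _ _ hk0) ((D.map (𝟙 i)).resLE O _ le_rfl), e',
      Scheme.Hom.resLE_comp_ι_assoc, D.map_id] at e
    exact (congrArg _ (Category.comp_id _).symm).trans e
  refine ⟨k.left, k.hom, fun l d => ?_⟩
  have hle : h l ⁻¹ᵁ V ≤ D.map d ⁻¹ᵁ (D.map k.hom ⁻¹ᵁ O) := by
    rw [← hw l i (d ≫ k.hom), Scheme.Hom.comp_preimage, D.map_comp, Scheme.Hom.comp_preimage]
  have e2 : ((D.map d).resLE _ _ hle ≫ (D.map k.hom).resLE O _ le_rfl) ≫ (h i ∣_ V) = h l ∣_ V := by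
    rw [← cancel_mono V.ι, Category.assoc, Category.assoc, morphismRestrict_ι, morphismRestrict_ι,
      Scheme.Hom.resLE_comp_ι_assoc (D.map k.hom), Scheme.Hom.resLE_comp_ι_assoc (D.map d), hw, hw]
  have key : (h l ⁻¹ᵁ V).ι ≫ D.map (d ≫ k.hom) = (h l ∣_ V) ≫ s := by
    rw [← e2, Category.assoc, Category.assoc, ← hk, Scheme.Hom.resLE_comp_ι_assoc, D.map_comp]
  have : Mono ((h l ∣_ V) ≫ s) := by rw [← key]; infer_instance
  have : Mono (h l ∣_ V) := mono_of_mono _ s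
  have : IsSplitEpi (h l ∣_ V) := IsSplitEpi.mk' {
    section_ := inv (g ∣_ V) ≫ (c.π.app l).resLE (h l ⁻¹ᵁ V) (g ⁻¹ᵁ V)
      (by rw [← Scheme.Hom.comp_preimage, hg])
    id := by
      rw [Category.assoc, IsIso.inv_comp_eq, Category.comp_id, ← cancel_mono V.ι]
      simp [morphismRestrict_ι, hg] }
  exact isIso_of_mono_of_isSplitEpi _

end

/-- An isomorphism over a quasi-compact open is one at a finite stage of a system of closed
immersions. -/
theorem exists_isIso_restrict_stage (hmap : ∀ (i j : R.Iᵒᵖ) (a : i ⟶ j), IsClosedImmersion (R.D.map a).left)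
    (V : Y.Opens) (hV : IsCompact (V : Set Y)) (hf : IsIso (f ∣_ V)) (i : R.Iᵒᵖ) :
    ∃ (k : R.Iᵒᵖ) (_ : k ⟶ i), ∀ (l : R.Iᵒᵖ) (_ : l ⟶ k), IsIso ((R.D.obj l).hom ∣_ V) := by
  have : ∀ {i j : R.Iᵒᵖ} (t : i ⟶ j), IsAffineHom (R.left.map t) := fun t => R.affine _ _ t
  have : ∀ (m n : R.Iᵒᵖ) (a : m ⟶ n), Mono (R.left.map a) := fun m n a =>
    have := hmap m n a
    (inferInstance : Mono (R.D.map a).left)
  let hh : ∀ m, R.left.obj m ⟶ Y := fun m => (R.D.obj m).hom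
  have : ∀ m, LocallyOfFiniteType (hh m) := fun m =>
    have := R.locallyOfFinitePresentation m
    (inferInstance : LocallyOfFiniteType (R.D.obj m).hom)
  have : ∀ m, QuasiCompact (hh m) := R.quasiCompact
  let gg : R.leftCone.pt ⟶ Y := f
  have : IsIso (gg ∣_ V) := hf
  exact exists_isIso_restrict R.left R.leftCone R.isLimitLeftCone hh
    (fun m n a => Over.w (R.D.map a)) gg (fun m => Over.w (R.π.app m)) V hV i

end Groth.ModPairs
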