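import Groth.Agent.Divisors.EffCartier
import Groth.Agent.Limits.ApproxStage
import Mathlib.AlgebraicGeometry.AffineTransitionLimit
import Mathlib.AlgebraicGeometry.Morphisms.SchemeTheoreticallyDominant

/-!
# Cofiltered limits with affine transition morphisms: sections and effective Cartier divisors
-/

set_option autoImplicit false
universe u

open CategoryTheory CategoryTheory.Limits AlgebraicGeometry TopologicalSpace

namespace Groth.ModPairs

variable {I : Type u} [SmallCategory I] [IsCofiltered I] (D : I ⥤ Scheme.{u}) (c : Cone D)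
  (hc : IsLimit c) [∀ {i j : I} (t : i ⟶ j), IsAffineHom (D.map t)]

include hc in
/-- A section over the preimage of an affine open of a stage comes from a later stage. -/
theorem exists_section {i : I} (O : (D.obj i).Opens) (hO : IsAffineOpen O)
    (b : Γ(c.pt, c.π.app i ⁻¹ᵁ O)) :
    ∃ (k : I) (a : k ⟶ i) (e : c.π.app i ⁻¹ᵁ O ≤ c.π.app k ⁻¹ᵁ (D.map a ⁻¹ᵁ O))
      (z : Γ(D.obj k, D.map a ⁻¹ᵁ O)), (c.π.app k).appLE _ _ e z = b := by
  have (k : Over i) : IsAffine ((opensDiagram D i O).obj k) := hO.preimage _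
  obtain ⟨k, t, ht⟩ := exists_appTop_π_eq_of_isLimit _ _ (isLimitOpensCone D c hc i O)
    ((c.π.app i ⁻¹ᵁ O).topIso.inv b)
  refine ⟨k.left, k.hom, by rw [← Scheme.Hom.comp_preimage, c.w],
    (D.map k.hom ⁻¹ᵁ O).topIso.hom t, ?_⟩
  have key := congrArg (c.π.app i ⁻¹ᵁ O).topIso.hom ht
  rw [← ConcreteCategory.comp_apply, Iso.inv_hom_id] at key
  exact Eq.trans (Groth.Limits.topIso_resLE_appTop (c.π.app k.left) _ _ _ t).symm key.symm

include hc in
theorem isEffCartierIdeal_comap_π (J : ∀ i, (D.obj i).IdealSheafData)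
    (hJ : ∀ i, BlowUp.IsEffCartierIdeal (J i))
    (hmin : ∀ (i j : I) (t : i ⟶ j), J i = (J j).comap (D.map t)) (i : I) :
    BlowUp.IsEffCartierIdeal ((J i).comap (c.π.app i)) := by
  intro x
  have := isAffineHom_π_app D c hc i
  obtain ⟨W, hxW, -, g, -, hgI⟩ := Divisors.exists_generator (hJ i) (c.π.app i x) ⊤ trivial
  let U : c.pt.affineOpens := ⟨c.π.app i ⁻¹ᵁ W.1, W.2.preimage _⟩
  refine ⟨U, hxW, (c.π.app i).appLE W.1 U.1 le_rfl g, ?_, ?_⟩
  swap
  · rw [Divisors.ideal_comap_affine (J i) (c.π.app i) W U le_rfl, hgI, Ideal.map_span,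
      Set.image_singleton]
  rw [mem_nonZeroDivisors_iff_right]
  intro t ht
  obtain ⟨k, a, e, z, rfl⟩ := exists_section D c hc W.1 W.2 t
  set gk := (D.map a).app W.1 g with hgk
  have hgi : (c.π.app k).appLE _ U.1 e gk = (c.π.app i).appLE W.1 U.1 le_rfl g := by
    rw [hgk, Scheme.Hom.app_eq_appLE, ← ConcreteCategory.comp_apply, Scheme.Hom.appLE_comp_appLE]
    congr 2
    simp only [c.w]
  rw [← hgi, ← map_mul] at ht
  have hUeq : c.π.app k ⁻¹ᵁ (D.map a ⁻¹ᵁ W.1) = U.1 := by
    rw [← Scheme.Hom.comp_preimage, c.w]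
  have h0 : (c.π.app k).app (D.map a ⁻¹ᵁ W.1) (z * gk) = 0 := by
    rw [Scheme.Hom.app_eq_appLE]
    have : ∀ (U' : c.pt.Opens) (_ : U' = U.1) (e' : U' ≤ c.π.app k ⁻¹ᵁ (D.map a ⁻¹ᵁ W.1)),
        (c.π.app k).appLE _ U' e' (z * gk) = 0 := by
      rintro _ rfl e'
      exact ht
    exact this _ hUeq _
  obtain ⟨j, b, hj⟩ := exists_app_map_eq_zero_of_isLimit D c hc
    ((W.2.preimage (D.map a)).isCompact) (z * gk) h0
  have hz : (D.map b).app _ z = 0 := by
    refine Divisors.eq_zero_of_off_support (hJ j) _ fun y hy hyn => ?_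
    have h1 := congrArg ((D.obj j).presheaf.germ _ y hy).hom hj
    rw [map_mul, map_mul, map_zero] at h1
    refine IsUnit.mul_left_eq_zero (?_ : IsUnit _) |>.mp h1
    have hyb : (D.map a) ((D.map b) y) ∈ (D.obj i).basicOpen g := by
      have hyn' : (D.map a) ((D.map b) y) ∉ (J i).support := by
        intro hmem
        apply hyn
        have hJj : J j = ((J i).comap (D.map a)).comap (D.map b) := by
          rw [← hmin k i a, ← hmin j k b]
        rw [hJj]
        simp only [Scheme.IdealSheafData.support_comap]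
        exact hmem
      exact ((D.obj i).mem_basicOpen g _ hy).mpr ((Divisors.not_mem_support_iff hgI hy).mp hyn')
    have : y ∈ (D.obj j).basicOpen ((D.map b).app _ gk) := by
      rw [hgk, ← Scheme.preimage_basicOpen, ← Scheme.preimage_basicOpen]
      exact hyb
    exact ((D.obj j).mem_basicOpen _ y hy).mp this
  have hfin : (c.π.app j).appLE _ U.1
      (show U.1 ≤ c.π.app j ⁻¹ᵁ (D.map b ⁻¹ᵁ (D.map a ⁻¹ᵁ W.1)) by
        rw [← Scheme.Hom.comp_preimage, c.w]; exact e) ((D.map b).app _ z) =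
      (c.π.app k).appLE _ U.1 e z := by
    rw [Scheme.Hom.app_eq_appLE, ← ConcreteCategory.comp_apply, Scheme.Hom.appLE_comp_appLE]
    congr 2
    simp only [c.w]
  rw [← hfin, hz, map_zero]

include hc in
theorem ker_π_eq_bot [∀ {i j : I} (t : i ⟶ j), IsSchemeTheoreticallyDominant (D.map t)] (i : I) :
    (c.π.app i).ker = ⊥ := by
  have := isAffineHom_π_app D c hc i
  refine Scheme.IdealSheafData.ext (funext fun U => ?_)
  rw [Scheme.Hom.ker_apply, Scheme.IdealSheafData.ideal_bot, Pi.bot_apply, eq_bot_iff]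
  intro s hs
  obtain ⟨j, f, hj⟩ := exists_app_map_eq_zero_of_isLimit D c hc U.2.isCompact s hs
  exact Scheme.Hom.app_injective (D.map f) U.1 (hj.trans (map_zero _).symm)

end Groth.ModPairs
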