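import Groth.Agent.ModPairs.Mprod
import Groth.Agent.ModPairs.Limit
import Groth.Agent.Limits.Existence
import Mathlib.AlgebraicGeometry.ZariskisMainTheorem
import Mathlib.AlgebraicGeometry.AffineTransitionLimit

/-!
# The system of base changes of an admissible blow-up along an affine system
-/

set_option autoImplicit false
universe u

open CategoryTheory CategoryTheory.Limits AlgebraicGeometry TopologicalSpace BlowUp

namespace Groth.ModPairs

/-- Two morphisms agreeing after `s` and landing where `s` is an isomorphism are equal. -/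
theorem eq_of_restrict_iso {A Y X : Scheme.{u}} (s : Y ⟶ X) (V : X.Opens) [IsIso (s ∣_ V)]
    {f g : A ⟶ Y} (h : f ≫ s = g ≫ s) (hf : ∀ x, s (f x) ∈ V) : f = g := by
  have hg : ∀ x, s (g x) ∈ V := fun x => by
    rw [← Scheme.Hom.comp_apply, ← h, Scheme.Hom.comp_apply]; exact hf x
  have r₁ : Set.range f ⊆ Set.range (s ⁻¹ᵁ V).ι := by
    rintro _ ⟨x, rfl⟩; rw [Scheme.Opens.range_ι]; exact hf x
  have r₂ : Set.range g ⊆ Set.range (s ⁻¹ᵁ V).ι := by
    rintro _ ⟨x, rfl⟩; rw [Scheme.Opens.range_ι]; exact hg x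
  rw [← IsOpenImmersion.lift_fac (s ⁻¹ᵁ V).ι f r₁, ← IsOpenImmersion.lift_fac (s ⁻¹ᵁ V).ι g r₂]
  congr 1
  rw [← cancel_mono (s ∣_ V), ← cancel_mono V.ι, Category.assoc, Category.assoc, morphismRestrict_ι,
    IsOpenImmersion.lift_fac_assoc, IsOpenImmersion.lift_fac_assoc, h]

variable {I : Type u} [SmallCategory I] [IsCofiltered I]

/-- An affine minimal system with an admissible blow-up of one stage. -/
structure BlowUpStage (I : Type u) [SmallCategory I] where
  T : I ⥤ Scheme.{u}
  affine : ∀ (i j : I) (t : i ⟶ j), IsAffineHom (T.map t)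
  J : ∀ i, (T.obj i).IdealSheafData
  hJ : ∀ i, IsEffCartierIdeal (J i)
  hmin : ∀ (i j : I) (t : i ⟶ j), J i = (J j).comap (T.map t)
  i : I
  Y : Scheme.{u}
  K : Y.IdealSheafData
  hK : IsEffCartierIdeal K
  s : Y ⟶ T.obj i
  hs : ModPair.IsAdmBlowup K (J i) s

namespace BlowUpStage

variable (B : BlowUpStage.{u} I)

/-- The total space of the base change. -/
noncomputable abbrev Z (a : Over B.i) : Scheme.{u} :=
  ModPair.mprod B.s (B.T.map a.hom) B.K (B.J a.left)

/-- The blow-up of a stage. -/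
noncomputable def p (a : Over B.i) : B.Z a ⟶ B.T.obj a.left :=
  ModPair.mprodι B.s (B.T.map a.hom) B.K (B.J a.left) ≫ pullback.snd B.s (B.T.map a.hom)

/-- The projection to the blown-up stage. -/
noncomputable def q (a : Over B.i) : B.Z a ⟶ B.Y :=
  ModPair.mprodι B.s (B.T.map a.hom) B.K (B.J a.left) ≫ pullback.fst B.s (B.T.map a.hom)

/-- The modulus. -/
noncomputable abbrev M (a : Over B.i) : (B.Z a).IdealSheafData := (B.J a.left).comap (B.p a)

theorem q_s (a : Over B.i) : B.q a ≫ B.s = B.p a ≫ B.T.map a.hom := by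
  simp only [p, q, Category.assoc, pullback.condition]

theorem isEffCartier_M (a : Over B.i) : IsEffCartierIdeal (B.M a) :=
  isEffCartierIdeal_comap_snd B.hK (B.hJ a.left)

theorem adm (a : Over B.i) : ModPair.IsAdmBlowup (B.M a) (B.J a.left) (B.p a) :=
  (isAdmBlowup_base_change (f := B.s) (g := B.T.map a.hom) (B.hJ a.left) B.hK
    (B.hmin _ _ a.hom).le B.hs).1

theorem ambient_q (a : Over B.i) : ModPair.IsAmbient (B.M a) B.K (B.q a) :=
  (isAdmBlowup_base_change (f := B.s) (g := B.T.map a.hom) (B.hJ a.left) B.hK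
    (B.hmin _ _ a.hom).le B.hs).2

theorem proper (a : Over B.i) : IsProper (B.p a) := (B.adm a).2.1

theorem hom_ext {W : Scheme.{u}} (a : Over B.i) {f g : W ⟶ B.Z a} (hp : f ≫ B.p a = g ≫ B.p a)
    (hq : f ≫ B.q a = g ≫ B.q a) : f = g := by
  rw [← cancel_mono (ModPair.mprodι B.s (B.T.map a.hom) B.K (B.J a.left))]
  apply pullback.hom_ext
  · simpa [q] using hq
  · simpa [p] using hp

theorem exists_map {a b : Over B.i} (t : b ⟶ a) :
    ∃ m : B.Z b ⟶ B.Z a, m ≫ B.p a = B.p b ≫ B.T.map t.left ∧ m ≫ B.q a = B.q b := by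
  have hw : B.q b ≫ B.s = (B.p b ≫ B.T.map t.left) ≫ B.T.map a.hom := by
    rw [B.q_s, Category.assoc, ← B.T.map_comp, Over.w t]
  obtain ⟨m, hm, -⟩ := exists_lift (f := B.s) (g := B.T.map a.hom) B.hK (B.hJ a.left)
    (B.isEffCartier_M b) (B.q b) (B.p b ≫ B.T.map t.left) (B.ambient_q b)
    (by
      show _ ≤ _
      rw [Scheme.IdealSheafData.comap_comp, ← B.hmin _ _ t.left]) hw
  refine ⟨m, ?_, ?_⟩
  · simp only [p, reassoc_of% hm, pullback.lift_snd]
  · simp only [q, reassoc_of% hm, pullback.lift_fst]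

/-- The transition morphisms. -/
noncomputable def map {a b : Over B.i} (t : b ⟶ a) : B.Z b ⟶ B.Z a := (B.exists_map t).choose

theorem map_p {a b : Over B.i} (t : b ⟶ a) : B.map t ≫ B.p a = B.p b ≫ B.T.map t.left :=
  (B.exists_map t).choose_spec.1

theorem map_q {a b : Over B.i} (t : b ⟶ a) : B.map t ≫ B.q a = B.q b :=
  (B.exists_map t).choose_spec.2

theorem map_id' (a : Over B.i) : B.map (𝟙 a) = 𝟙 _ :=
  B.hom_ext a (by simp [B.map_p (𝟙 a)]) (by simp [B.map_q (𝟙 a)])

theorem map_comp' {a b c : Over B.i} (t : a ⟶ b) (t' : b ⟶ c) :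
    B.map (t ≫ t') = B.map t ≫ B.map t' := by
  refine B.hom_ext c ?_ ?_
  · rw [B.map_p, Category.assoc, B.map_p, ← Category.assoc (B.map t), B.map_p, Category.assoc,
      ← B.T.map_comp, Over.comp_left]
  · rw [B.map_q, Category.assoc, B.map_q, B.map_q]

/-- The system. -/
noncomputable def functor : Over B.i ⥤ Scheme.{u} where
  obj a := B.Z a
  map t := B.map t
  map_id a := B.map_id' a
  map_comp t t' := B.map_comp' t t'

theorem isAffineHom_map {a b : Over B.i} (t : b ⟶ a) : IsAffineHom (B.map t) := by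
  have := B.affine _ _ t.left
  let m : pullback B.s (B.T.map b.hom) ⟶ pullback B.s (B.T.map a.hom) :=
    pullback.lift (pullback.fst _ _) (pullback.snd _ _ ≫ B.T.map t.left) (by
      rw [Category.assoc, ← B.T.map_comp, Over.w t, pullback.condition])
  have hsq : IsPullback m (pullback.snd B.s (B.T.map b.hom)) (pullback.snd B.s (B.T.map a.hom))
      (B.T.map t.left) := by
    refine IsPullback.of_right ?_ (pullback.lift_snd _ _ _) (IsPullback.of_hasPullback B.s _)
    rw [pullback.lift_fst, ← B.T.map_comp, Over.w t]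
    exact IsPullback.of_hasPullback B.s _
  have : IsAffineHom m := MorphismProperty.of_isPullback (P := @IsAffineHom) hsq.flip inferInstance
  have e : B.map t ≫ ModPair.mprodι B.s (B.T.map a.hom) B.K (B.J a.left) =
      ModPair.mprodι B.s (B.T.map b.hom) B.K (B.J b.left) ≫ m := by
    have h1 : m ≫ pullback.fst B.s (B.T.map a.hom) = pullback.fst _ _ := pullback.lift_fst _ _ _
    have h2 : m ≫ pullback.snd B.s (B.T.map a.hom) = pullback.snd _ _ ≫ B.T.map t.left :=
      pullback.lift_snd _ _ _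
    apply pullback.hom_ext
    · simp only [Category.assoc, h1]
      exact B.map_q t
    · simp only [Category.assoc, h2]
      simpa [p] using B.map_p t
  have : IsAffineHom (B.map t ≫ ModPair.mprodι B.s (B.T.map a.hom) B.K (B.J a.left)) := by
    rw [e]; infer_instance
  exact IsAffineHom.of_comp _ (ModPair.mprodι B.s (B.T.map a.hom) B.K (B.J a.left))

theorem minimal {a b : Over B.i} (t : b ⟶ a) : B.M b = (B.M a).comap (B.map t) := by
  show (B.J b.left).comap (B.p b) = ((B.J a.left).comap (B.p a)).comap (B.map t)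
  rw [← Scheme.IdealSheafData.comap_comp, B.map_p, Scheme.IdealSheafData.comap_comp,
    ← B.hmin _ _ t.left]

theorem dominant {a b : Over B.i} (t : b ⟶ a) [IsSchemeTheoreticallyDominant (B.T.map t.left)] :
    IsSchemeTheoreticallyDominant (B.map t) := by
  let V := ModPair.interior (B.J a.left)
  let Wa := B.p a ⁻¹ᵁ V
  let Vb := B.T.map t.left ⁻¹ᵁ V
  have hb : ModPair.interior (B.J b.left) = Vb := by
    rw [B.hmin _ _ t.left, interior_comap]
  have hisoa : IsIso (B.p a ∣_ V) := (B.adm a).2.2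
  have hisob : IsIso (B.p b ∣_ Vb) := hb ▸ (B.adm b).2.2
  have := isAffineHom_interior (B.hJ a.left)
  have := B.affine _ _ t.left
  have hd : IsSchemeTheoreticallyDominant (B.T.map t.left ∣_ V) :=
    IsSchemeTheoreticallyDominant.of_isPullback
      (isPullback_morphismRestrict (B.T.map t.left) V).flip
  have := dominant_interior (B.isEffCartier_M a)
  have : IsSchemeTheoreticallyDominant Wa.ι :=
    dominant_mono (interior_comap (B.p a) (B.J a.left)).le
  let γ : (Vb : Scheme.{u}) ⟶ B.Z b := inv (B.p b ∣_ Vb) ≫ (B.p b ⁻¹ᵁ Vb).ι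
  have hγ : γ ≫ B.p b = Vb.ι := by
    simp only [γ, Category.assoc]
    rw [← morphismRestrict_ι, IsIso.inv_hom_id_assoc]
  have key : γ ≫ B.map t = (B.T.map t.left ∣_ V) ≫ inv (B.p a ∣_ V) ≫ Wa.ι := by
    refine eq_of_restrict_iso (B.p a) V ?_ fun x => ?_
    · rw [Category.assoc, B.map_p, ← Category.assoc, hγ, Category.assoc, Category.assoc,
        ← morphismRestrict_ι (B.p a) V, IsIso.inv_hom_id_assoc, morphismRestrict_ι]
    · rw [← Scheme.Hom.comp_apply, Category.assoc, B.map_p, ← Category.assoc, hγ,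
        Scheme.Hom.comp_apply]
      exact x.2
  refine ⟨eq_bot_iff.mpr ?_⟩
  have h1 := Scheme.Hom.le_ker_comp γ (B.map t)
  rw [key] at h1
  exact h1.trans_eq (Scheme.Hom.ker_eq_bot _)

theorem compactSpace_Z (a : Over B.i) [CompactSpace (B.T.obj a.left)] : CompactSpace (B.Z a) :=
  have := B.proper a
  QuasiCompact.compactSpace_of_compactSpace (B.p a)

theorem quasiSeparatedSpace_Z (a : Over B.i) [QuasiSeparatedSpace (B.T.obj a.left)] :
    QuasiSeparatedSpace (B.Z a) :=
  have := B.proper a
  quasiSeparatedSpace_of_quasiSeparated (B.p a)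

section limit

variable (c : Cone B.T) (hc : IsLimit c) (IX : c.pt.IdealSheafData)
  (hIX : ∀ j, IX = (B.J j).comap (c.π.app j)) {X' : Scheme.{u}} (s : X' ⟶ c.pt)
  (hX' : IsEffCartierIdeal (IX.comap s)) (q' : X' ⟶ B.Y) (w : q' ≫ B.s = s ≫ c.π.app B.i)

include hIX hX' w in
theorem exists_proj (a : Over B.i) :
    ∃ m : X' ⟶ B.Z a, m ≫ B.p a = s ≫ c.π.app a.left ∧ m ≫ B.q a = q' := by
  obtain ⟨m, hm, -⟩ := exists_lift (f := B.s) (g := B.T.map a.hom) B.hK (B.hJ a.left)
    hX' q' (s ≫ c.π.app a.left)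
    (by
      show _ ≤ _
      rw [show B.K = (B.J B.i).comap B.s from B.hs.1, ← Scheme.IdealSheafData.comap_comp, w,
        Scheme.IdealSheafData.comap_comp, ← hIX B.i])
    (by
      show _ ≤ _
      rw [Scheme.IdealSheafData.comap_comp, ← hIX a.left])
    (by rw [w, Category.assoc, c.w])
  refine ⟨m, ?_, ?_⟩
  · simp only [p, reassoc_of% hm, pullback.lift_snd]
  · simp only [BlowUpStage.q, reassoc_of% hm, pullback.lift_fst]

/-- The projections from the blown-up limit. -/
noncomputable def cone : Cone B.functor where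
  pt := X'
  π :=
  { app := fun a => (B.exists_proj c IX hIX s hX' q' w a).choose
    naturality := fun a b t => by
      obtain ⟨h1, h2⟩ := (B.exists_proj c IX hIX s hX' q' w a).choose_spec
      obtain ⟨h3, h4⟩ := (B.exists_proj c IX hIX s hX' q' w b).choose_spec
      refine B.hom_ext b ?_ ?_
      · simp only [Functor.const_obj_map]
        erw [Category.id_comp, h3]
        show _ = (_ ≫ B.map t) ≫ B.p b
        rw [Category.assoc, B.map_p, reassoc_of% h1, c.w]
      · simp only [Functor.const_obj_map]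
        erw [Category.id_comp, h4]
        show _ = (_ ≫ B.map t) ≫ B.q b
        rw [Category.assoc, B.map_q, h2] }

theorem cone_p (a : Over B.i) :
    (B.cone c IX hIX s hX' q' w).π.app a ≫ B.p a = s ≫ c.π.app a.left :=
  (B.exists_proj c IX hIX s hX' q' w a).choose_spec.1

theorem cone_q (a : Over B.i) : (B.cone c IX hIX s hX' q' w).π.app a ≫ B.q a = q' :=
  (B.exists_proj c IX hIX s hX' q' w a).choose_spec.2

set_option backward.isDefEq.respectTransparency false in
include hc in
theorem nonempty_isLimit_cone [IsProper s] [IsIso (s ∣_ ModPair.interior IX)]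
    (hmono : Mono (pullback.lift q' s w)) :
    Nonempty (IsLimit (B.cone c IX hIX s hX' q' w)) := by
  have := B.affine
  have : ∀ (a b : Over B.i) (t : a ⟶ b), IsAffineHom (B.functor.map t) :=
    fun a b t => B.isAffineHom_map t
  have : HasLimit B.functor := Limits.hasLimit_of_isAffineHom B.functor
  let cz := limit.cone B.functor
  let hz : IsLimit cz := limit.isLimit B.functor
  let cX : Cone (Over.forget B.i ⋙ B.T) := c.whisker (Over.forget B.i)
  let hX : IsLimit cX := (Functor.Initial.isLimitWhiskerEquiv (Over.forget B.i) c).symm hc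
  let P : cz.pt ⟶ c.pt := hX.lift
    { pt := cz.pt
      π :=
      { app := fun a => cz.π.app a ≫ B.p a
        naturality := fun a b t => by
          simp only [Functor.const_obj_map, Category.id_comp, Functor.comp_map, Over.forget_map,
            Category.assoc]
          rw [← B.map_p t, ← Category.assoc]
          exact congrArg (· ≫ B.p b) (cz.w t).symm } }
  have hP : ∀ a : Over B.i, P ≫ c.π.app a.left = cz.π.app a ≫ B.p a := fun a => hX.fac _ a
  let θ : X' ⟶ cz.pt := hz.lift (B.cone c IX hIX s hX' q' w)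
  have hθ : ∀ a, θ ≫ cz.π.app a = (B.cone c IX hIX s hX' q' w).π.app a := fun a => hz.fac _ a
  have hθP : θ ≫ P = s := hX.hom_ext fun a => by
    show (θ ≫ P) ≫ c.π.app a.left = s ≫ c.π.app a.left
    rw [Category.assoc, hP, reassoc_of% (hθ a), B.cone_p]
  let a₀ : Over B.i := Over.mk (𝟙 B.i)
  have : IsAffineHom (cz.π.app a₀) := isAffineHom_π_app B.functor cz hz a₀
  have : IsProper (B.p a₀) := B.proper a₀
  have : IsSeparated P := by
    have : IsSeparated (P ≫ c.π.app B.i) := by
      rw [show c.π.app B.i = c.π.app a₀.left from rfl, hP a₀]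
      infer_instance
    exact IsSeparated.of_comp P (c.π.app B.i)
  have : IsProper (θ ≫ P) := by rw [hθP]; infer_instance
  have : IsProper θ := IsProper.of_comp θ P
  have : Mono θ := ⟨fun {W} f g h => by
    rw [← cancel_mono (pullback.lift q' s w)]
    apply pullback.hom_ext
    · simp only [Category.assoc, pullback.lift_fst, ← B.cone_q c IX hIX s hX' q' w a₀, ← hθ a₀]
      rw [reassoc_of% h]
    · simp only [Category.assoc, pullback.lift_snd, ← hθP]
      rw [reassoc_of% h]⟩
  have : IsClosedImmersion θ := (IsClosedImmersion.iff_isProper_and_mono θ).mpr ⟨inferInstance, inferInstance⟩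
  -- the interior of the limit lifts
  let O := ModPair.interior IX
  have hIL : IX.comap P = (B.M a₀).comap (cz.π.app a₀) := by
    rw [hIX a₀.left, ← Scheme.IdealSheafData.comap_comp, hP, Scheme.IdealSheafData.comap_comp]
  have heff : IsEffCartierIdeal (IX.comap P) := by
    rw [hIL]
    exact isEffCartierIdeal_comap_π B.functor cz hz B.M B.isEffCartier_M
      (fun a b t => B.minimal t) a₀
  have := dominant_interior heff
  have : IsSchemeTheoreticallyDominant (P ⁻¹ᵁ O).ι := dominant_mono (interior_comap P IX).le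
  let γ : (P ⁻¹ᵁ O : Scheme.{u}) ⟶ X' := (P ∣_ O) ≫ inv (s ∣_ O) ≫ (s ⁻¹ᵁ O).ι
  have hγs : γ ≫ s = (P ⁻¹ᵁ O).ι ≫ P := by
    simp only [γ, Category.assoc]
    rw [← morphismRestrict_ι, IsIso.inv_hom_id_assoc, morphismRestrict_ι]
  have hγθ : γ ≫ θ = (P ⁻¹ᵁ O).ι := hz.hom_ext fun a => by
    rw [Category.assoc, hθ]
    refine B.hom_ext a ?_ ?_
    · rw [Category.assoc, B.cone_p, reassoc_of% hγs, Category.assoc, hP]
    · have hiso := B.hs.2.2
      refine eq_of_restrict_iso B.s (ModPair.interior (B.J B.i)) ?_ fun x => ?_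
      · simp only [Category.assoc]
        rw [reassoc_of% (B.cone_q c IX hIX s hX' q' w a), w, B.q_s, ← reassoc_of% (hP a), c.w,
          reassoc_of% hγs]
      · rw [← Scheme.Hom.comp_apply, Category.assoc, Category.assoc,
          reassoc_of% (B.cone_q c IX hIX s hX' q' w a), w, reassoc_of% hγs, Scheme.Hom.comp_apply,
          Scheme.Hom.comp_apply]
        have hx : P ((P ⁻¹ᵁ O).ι x) ∈ O := x.2
        have e : O ≤ c.π.app B.i ⁻¹ᵁ ModPair.interior (B.J B.i) := by
          rw [← interior_comap, ← hIX B.i]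
        exact e hx
  have hker : θ.ker = ⊥ := eq_bot_iff.mpr
    (((Scheme.Hom.le_ker_comp γ θ).trans_eq (congrArg _ hγθ)).trans_eq (Scheme.Hom.ker_eq_bot _))
  have : IsIso θ := IsClosedImmersion.isIso_of_ker_eq θ (𝟙 _) θ (Category.comp_id _)
    (by rw [hker, Scheme.Hom.ker_eq_bot_of_isIso])
  exact ⟨hz.ofIsoLimit (Cone.ext (asIso θ).symm fun a => by
    show cz.π.app a = inv θ ≫ _
    rw [← hθ a, IsIso.inv_hom_id_assoc])⟩

end limit

end BlowUpStage

end Groth.ModPairs
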