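import Groth.Prelude.Def_W4c6modpairsegaMP
import Groth.Agent.Divisors.EffCartierMore
import Groth.Agent.BlowUpBasics.Universal
import Groth.Agent.BlowUpBasics.CartierDiv
import Groth.Agent.Flatmor4.ImageDom
import Mathlib.AlgebraicGeometry.Morphisms.SchemeTheoreticallyDominant
import Mathlib.AlgebraicGeometry.Morphisms.Affine

/-!
# Modulus pairs: interiors, scheme-theoretic density and effective Cartier pull-backs
-/

set_option autoImplicit false
universe u

open CategoryTheory CategoryTheory.Limits AlgebraicGeometry TopologicalSpace BlowUp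

namespace Groth.ModPairs

variable {X Y Z S T W : Scheme.{u}}

theorem mem_interior {I : X.IdealSheafData} {x : X} : x ∈ ModPair.interior I ↔ x ∉ I.support :=
  Iff.rfl

theorem interior_comap (f : X ⟶ Y) (J : Y.IdealSheafData) :
    ModPair.interior (J.comap f) = f ⁻¹ᵁ ModPair.interior J := by
  ext x
  simp [ModPair.interior, Scheme.IdealSheafData.support_comap]

theorem interior_mono {I J : X.IdealSheafData} (h : I ≤ J) : ModPair.interior I ≤ ModPair.interior J :=
  fun _ hx hxJ => hx (Scheme.IdealSheafData.support_antitone h hxJ)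

theorem interior_le_of_isAmbient {I : X.IdealSheafData} {J : Y.IdealSheafData} {f : X ⟶ Y}
    (h : ModPair.IsAmbient I J f) : ModPair.interior I ≤ f ⁻¹ᵁ ModPair.interior J :=
  (interior_mono h).trans_eq (interior_comap f J)

theorem isAffineHom_interior {I : X.IdealSheafData} (h : IsEffCartierIdeal I) :
    IsAffineHom (ModPair.interior I).ι :=
  Divisors.isAffineHom_compl (Divisors.isLocPrincipal_of_isEffCartier h)

theorem dominant_interior {I : X.IdealSheafData} (h : IsEffCartierIdeal I) :
    IsSchemeTheoreticallyDominant (ModPair.interior I).ι :=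
  Divisors.compl_dominant h

theorem isAffineHom_preimage (f : X ⟶ Y) (U : Y.Opens) [IsAffineHom U.ι] :
    IsAffineHom (f ⁻¹ᵁ U).ι :=
  MorphismProperty.of_isPullback (P := @IsAffineHom) (isPullback_morphismRestrict f U) inferInstance

theorem isAffineHom_inf (U V : X.Opens) [IsAffineHom U.ι] [IsAffineHom V.ι] :
    IsAffineHom (U ⊓ V).ι := by
  have := isAffineHom_preimage U.ι V
  have he : U.ι ''ᵁ (U.ι ⁻¹ᵁ V) = U ⊓ V := by
    rw [Scheme.Hom.image_preimage_eq_opensRange_inf, Scheme.Opens.opensRange_ι]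
  rw [← he, ← Scheme.Hom.isoImage_inv_ι U.ι (U.ι ⁻¹ᵁ V)]
  infer_instance

theorem dominant_mono {U V : X.Opens} (h : U ≤ V) [IsSchemeTheoreticallyDominant U.ι] :
    IsSchemeTheoreticallyDominant V.ι := by
  refine ⟨eq_bot_iff.mpr ?_⟩
  have := Scheme.Hom.le_ker_comp (X.homOfLE h) V.ι
  rwa [Scheme.homOfLE_ι, U.ι.ker_eq_bot] at this

theorem eq_zero_of_dominant (U : X.Opens) [IsSchemeTheoreticallyDominant U.ι] [QuasiCompact U.ι]
    {V : X.Opens} (s : Γ(X, V))
    (h : ∀ (x : X) (hx : x ∈ V), x ∈ U → X.presheaf.germ V x hx s = 0) : s = 0 := by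
  refine Scheme.Hom.app_injective U.ι V ?_
  rw [map_zero]
  refine Divisors.section_ext fun x hx => ?_
  have hiso : IsIso (U.ι.stalkMap x) := (IsOpenImmersion.iff_isIso_stalkMap.mp inferInstance).2 _
  rw [map_zero]
  have h2 := h x.1 hx x.2
  have h3 : U.ι.stalkMap x (X.presheaf.germ V (U.ι x) hx s) = 0 := by
    have : X.presheaf.germ V (U.ι x) hx s = 0 := h2
    rw [this, map_zero]
  erw [Scheme.Hom.germ_stalkMap_apply] at h3
  exact h3

/-- An effective Cartier divisor pulls back to one if the preimage of its complement is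
scheme-theoretically dense. -/
theorem isEffCartierIdeal_comap_of_dominant {I : Y.IdealSheafData} (hI : IsEffCartierIdeal I)
    (f : X ⟶ Y) [IsSchemeTheoreticallyDominant (f ⁻¹ᵁ ModPair.interior I).ι] :
    IsEffCartierIdeal (I.comap f) := by
  have := isAffineHom_interior hI
  have := isAffineHom_preimage f (ModPair.interior I)
  refine Divisors.isEffCartierIdeal_comap_of_nzd hI f fun W g _ hgI x hx => ?_
  rw [mem_nonZeroDivisors_iff_right]
  intro a ha
  obtain ⟨V, hxV, t, rfl⟩ := TopCat.Presheaf.exists_germ_eq X.presheaf a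
  erw [Scheme.Hom.germ_stalkMap_apply] at ha
  set g' := f.app W.1 g
  rw [← TopCat.Presheaf.germ_res_apply X.presheaf (homOfLE (inf_le_left : V ⊓ f ⁻¹ᵁ W.1 ≤ V)) x ⟨hxV, hx⟩ t,
    ← TopCat.Presheaf.germ_res_apply X.presheaf (homOfLE (inf_le_right : V ⊓ f ⁻¹ᵁ W.1 ≤ f ⁻¹ᵁ W.1)) x
      ⟨hxV, hx⟩ g', ← map_mul, ← map_zero (X.presheaf.germ (V ⊓ f ⁻¹ᵁ W.1) x ⟨hxV, hx⟩).hom] at ha
  obtain ⟨O, hxO, i, j, he⟩ := X.presheaf.germ_eq x _ _ _ _ ha
  rw [map_zero, map_mul] at he
  have key : X.presheaf.map i.op (X.presheaf.map (homOfLE (inf_le_left : V ⊓ f ⁻¹ᵁ W.1 ≤ V)).op t) = 0 := by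
    refine eq_zero_of_dominant (f ⁻¹ᵁ ModPair.interior I) _ fun y hy hyU => ?_
    have hyW : f y ∈ W.1 := (i.le hy).2
    have hu := (Divisors.not_mem_support_iff hgI hyW).mp hyU
    have hu' : IsUnit (X.presheaf.germ (f ⁻¹ᵁ W.1) y hyW g') := by
      have := hu.map (f.stalkMap y).hom
      erw [Scheme.Hom.germ_stalkMap_apply] at this
      exact this
    have h2 := congrArg (X.presheaf.germ O y hy).hom he
    rw [map_mul, map_zero] at h2
    simp only [TopCat.Presheaf.germ_res_apply] at h2 ⊢
    exact hu'.mul_left_eq_zero.mp h2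
  have h2 := congrArg (X.presheaf.germ O x hxO).hom key
  rw [map_zero] at h2
  simp only [TopCat.Presheaf.germ_res_apply] at h2 ⊢
  exact h2

theorem dominant_restrict (U W : X.Opens) [IsSchemeTheoreticallyDominant U.ι] [QuasiCompact U.ι] :
    IsSchemeTheoreticallyDominant (X.homOfLE (inf_le_right : U ⊓ W ≤ W)) := by
  have h := (isPullback_morphismRestrict U.ι W).flip
  have := IsSchemeTheoreticallyDominant.of_isPullback h
  have he : U.ι ''ᵁ (U.ι ⁻¹ᵁ W) = U ⊓ W := by
    rw [Scheme.Hom.image_preimage_eq_opensRange_inf, Scheme.Opens.opensRange_ι]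
  have e : X.homOfLE (inf_le_right : U ⊓ W ≤ W) =
      (X.isoOfEq he).inv ≫ (U.ι.isoImage (U.ι ⁻¹ᵁ W)).inv ≫ (U.ι ∣_ W) := by
    rw [← cancel_mono W.ι]
    simp [morphismRestrict_ι]
  rw [e]
  infer_instance

/-- The modulus condition makes the pulled-back divisor effective Cartier. -/
theorem isEffCartierIdeal_comap_of_ambient {I : X.IdealSheafData} {J : Y.IdealSheafData}
    (hI : IsEffCartierIdeal I) (hJ : IsEffCartierIdeal J) {f : X ⟶ Y}
    (hf : ModPair.IsAmbient I J f) : IsEffCartierIdeal (J.comap f) := by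
  have := dominant_interior hI
  have := dominant_mono (interior_le_of_isAmbient hf)
  exact isEffCartierIdeal_comap_of_dominant hJ f

/-- Morphisms into a separated scheme over a base agreeing on a scheme-theoretically dominant
scheme are equal. -/
theorem ext_of_dominant {f g : X ⟶ Y} (s : Y ⟶ Z) [IsSeparated s] (h : f ≫ s = g ≫ s)
    (ι : W ⟶ X) [IsSchemeTheoreticallyDominant ι] (hι : ι ≫ f = ι ≫ g) : f = g := by
  let d : Y ⟶ pullback s s := pullback.diagonal s
  let k : X ⟶ pullback s s := pullback.lift f g h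
  have hcond : ι ≫ k = (ι ≫ f) ≫ d := by
    apply pullback.hom_ext
    · erw [Category.assoc, Category.assoc, pullback.lift_fst, pullback.lift_fst, Category.comp_id]
    · erw [Category.assoc, Category.assoc, pullback.lift_snd, pullback.lift_snd, Category.comp_id]
      exact hι.symm
  have hker : (pullback.fst k d).ker = ⊥ := by
    have h1 := Scheme.Hom.le_ker_comp (pullback.lift ι (ι ≫ f) hcond) (pullback.fst k d)
    rw [pullback.lift_fst] at h1
    exact eq_bot_iff.mpr (h1.trans_eq ι.ker_eq_bot)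
  have : IsIso (pullback.fst k d) :=
    IsClosedImmersion.isIso_of_ker_eq (pullback.fst k d) (𝟙 X) (pullback.fst k d) (Category.comp_id _)
      (by rw [hker, Scheme.Hom.ker_eq_bot_of_isIso])
  have hk : k = inv (pullback.fst k d) ≫ pullback.snd k d ≫ d := by
    rw [← pullback.condition, IsIso.inv_hom_id_assoc]
  have h1 := congrArg (· ≫ pullback.fst s s) hk
  have h2 := congrArg (· ≫ pullback.snd s s) hk
  simp only [k, d, pullback.lift_fst, pullback.lift_snd, Category.assoc, pullback.diagonal_fst,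
    pullback.diagonal_snd, Category.comp_id] at h1 h2
  exact h1.trans h2.symm

end Groth.ModPairs
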