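import Groth.Agent.ModPairs.Mprod
import Mathlib.CategoryTheory.Localization.CalculusOfFractions

/-!
# The category of modulus pairs: admissible blow-ups admit a calculus of right fractions
-/

set_option autoImplicit false
universe u

open CategoryTheory CategoryTheory.Limits AlgebraicGeometry TopologicalSpace BlowUp

namespace Groth.ModPairs

open _root_.ModPair (Pair)

theorem isAdmBlowup_id {X : Scheme.{u}} (I : X.IdealSheafData) : ModPair.IsAdmBlowup I I (𝟙 X) :=
  ⟨(Scheme.IdealSheafData.comap_id I).symm, inferInstance, inferInstance⟩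

theorem isAdmBlowup_comp {X Y Z : Scheme.{u}} {I : X.IdealSheafData} {J : Y.IdealSheafData}
    {K : Z.IdealSheafData} {f : X ⟶ Y} {g : Y ⟶ Z} (hf : ModPair.IsAdmBlowup I J f)
    (hg : ModPair.IsAdmBlowup J K g) : ModPair.IsAdmBlowup I K (f ≫ g) := by
  obtain ⟨h1, h2, h3⟩ := hf
  obtain ⟨k1, k2, k3⟩ := hg
  refine ⟨h1.trans ?_, inferInstance, ?_⟩
  · rw [Scheme.IdealSheafData.comap_comp, ← show J = K.comap g from k1]
  · rw [morphismRestrict_comp]
    have e : ModPair.interior J = g ⁻¹ᵁ ModPair.interior K := by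
      rw [show J = K.comap g from k1, interior_comap]
    rw [e] at h3
    exact IsIso.comp_isIso' h3 k3

theorem isAdmBlowup_of_isIso {X Y : Scheme.{u}} {I : X.IdealSheafData} {J : Y.IdealSheafData}
    (f : X ⟶ Y) [IsIso f] (h : I = J.comap f) : ModPair.IsAdmBlowup I J f :=
  ⟨h, inferInstance, inferInstance⟩

instance : (Pair.admBlowup.{u}).ContainsIdentities := ⟨fun P => isAdmBlowup_id P.mod⟩

instance : (Pair.admBlowup.{u}).IsStableUnderComposition := ⟨fun _ _ hf hg => isAdmBlowup_comp hf hg⟩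

instance : (Pair.admBlowup.{u}).IsMultiplicative where

/-- Two morphisms equalised by an admissible blow-up are equal. -/
theorem eq_of_comp_admBlowup {P Q R : Pair.{u}} (f g : P ⟶ Q) (s : Q ⟶ R) (hs : Pair.admBlowup s)
    (h : f ≫ s = g ≫ s) : f = g := by
  obtain ⟨hmin, hprop, hiso⟩ := hs
  have h' : f.hom ≫ s.hom = g.hom ≫ s.hom := congrArg Pair.Hom.hom h
  have hQ : ModPair.interior Q.mod = s.hom ⁻¹ᵁ ModPair.interior R.mod := by
    rw [show Q.mod = R.mod.comap s.hom from hmin, interior_comap]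
  have hf := (interior_le_of_isAmbient f.cond).trans_eq (congrArg (f.hom ⁻¹ᵁ ·) hQ)
  have hg := (interior_le_of_isAmbient g.cond).trans_eq (congrArg (g.hom ⁻¹ᵁ ·) hQ)
  have := dominant_interior P.isEffCartier
  refine Pair.Hom.ext (ext_of_dominant s.hom h' (ModPair.interior P.mod).ι ?_)
  have := hiso
  have key : P.total.homOfLE hf ≫ (f.hom ∣_ (s.hom ⁻¹ᵁ ModPair.interior R.mod)) =
      P.total.homOfLE hg ≫ (g.hom ∣_ (s.hom ⁻¹ᵁ ModPair.interior R.mod)) := by
    rw [← cancel_mono (s.hom ∣_ ModPair.interior R.mod), ← cancel_mono (ModPair.interior R.mod).ι]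
    simp [morphismRestrict_ι, morphismRestrict_ι_assoc, h']
  have := congrArg (· ≫ (s.hom ⁻¹ᵁ ModPair.interior R.mod).ι) key
  simpa [morphismRestrict_ι] using this

/-- The fibre product of an admissible blow-up with a morphism. -/
theorem exists_square {S T X : Pair.{u}} (s : X ⟶ S) (hs : Pair.admBlowup s) (g : T ⟶ S) :
    ∃ (Y : Pair.{u}) (q : Y ⟶ T) (r : Y ⟶ X), Pair.admBlowup q ∧ q ≫ g = r ≫ s := by
  obtain ⟨hadm, hamb⟩ := isAdmBlowup_base_change (f := s.hom) (g := g.hom) (IS := S.mod)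
    T.isEffCartier X.isEffCartier g.cond hs
  let Y : Pair.{u} := ⟨ModPair.mprod s.hom g.hom X.mod T.mod, _,
    isEffCartierIdeal_comap_snd (f := s.hom) (g := g.hom) X.isEffCartier T.isEffCartier⟩
  refine ⟨Y, ⟨ModPair.mprodι s.hom g.hom X.mod T.mod ≫ pullback.snd s.hom g.hom, le_rfl⟩,
    ⟨ModPair.mprodι s.hom g.hom X.mod T.mod ≫ pullback.fst s.hom g.hom, hamb⟩, hadm, ?_⟩
  refine Pair.Hom.ext ?_
  show (_ ≫ _) ≫ g.hom = (_ ≫ _) ≫ s.hom
  rw [Category.assoc, Category.assoc, pullback.condition]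

instance : (Pair.admBlowup.{u}).HasRightCalculusOfFractions where
  exists_rightFraction X Y φ := by
    obtain ⟨Z, q, r, hq, h⟩ := exists_square φ.s φ.hs φ.f
    exact ⟨⟨q, hq, r⟩, h⟩
  ext X Y Y' f₁ f₂ s hs h :=
    ⟨X, 𝟙 X, isAdmBlowup_id X.mod, by rw [Category.id_comp, Category.id_comp, eq_of_comp_admBlowup f₁ f₂ s hs h]⟩

end Groth.ModPairs
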