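import Groth.Agent.ModPairs.Loc
import Groth.Agent.ModPairs.Mprod

/-!
# Admissible blow-ups are epimorphisms of modulus pairs
-/

set_option autoImplicit false
universe u v w

open CategoryTheory CategoryTheory.Limits AlgebraicGeometry TopologicalSpace BlowUp

namespace Groth.ModPairs

/-- Morphisms agreeing after a surjective scheme-theoretically dominant quasi-compact morphism are
equal. -/
theorem hom_ext_of_dominant_surjective {X' X Y : Scheme.{u}} (ρ : X' ⟶ X) [Surjective ρ]
    [QuasiCompact ρ] [IsSchemeTheoreticallyDominant ρ] {f g : X ⟶ Y} (h : ρ ≫ f = ρ ≫ g) : f = g := by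
  have hpt : ∀ x, f x = g x := fun x => by
    obtain ⟨z, rfl⟩ := ρ.surjective x
    rw [← Scheme.Hom.comp_apply, h, Scheme.Hom.comp_apply]
  refine Scheme.hom_ext_of_forall f g fun x => ?_
  obtain ⟨_, ⟨W, hW, rfl⟩, hxW, -⟩ := Y.isBasis_affineOpens.exists_subset_of_mem_open
    (Set.mem_univ (f x)) isOpen_univ
  obtain ⟨_, ⟨V, hV, rfl⟩, hxV, hVW⟩ := X.isBasis_affineOpens.exists_subset_of_mem_open
    (show x ∈ f ⁻¹ᵁ W from hxW) (f ⁻¹ᵁ W).isOpen
  have hf : V ≤ f ⁻¹ᵁ W := hVW
  have hg : V ≤ g ⁻¹ᵁ W := fun y hy => by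
    show g y ∈ W
    rw [← hpt]; exact hVW hy
  have hsec : f.appLE W V hf = g.appLE W V hg := by
    refine CommRingCat.hom_ext (RingHom.ext fun a => ?_)
    refine Scheme.Hom.app_injective ρ V ?_
    rw [Scheme.Hom.app_eq_appLE, ← ConcreteCategory.comp_apply, ← ConcreteCategory.comp_apply,
      Scheme.Hom.appLE_comp_appLE, Scheme.Hom.appLE_comp_appLE]
    simp only [h]
  refine ⟨V, hxV, ?_⟩
  have key : hV.fromSpec ≫ f = hV.fromSpec ≫ g := by
    rw [← IsAffineOpen.SpecMap_appLE_fromSpec f hW hV hf,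
      ← IsAffineOpen.SpecMap_appLE_fromSpec g hW hV hg, hsec]
  rw [IsAffineOpen.fromSpec, Category.assoc, Category.assoc] at key
  exact (cancel_epi _).mp key

/-- An admissible blow-up is scheme-theoretically dominant and surjective. -/
theorem admBlowup_dominant {X' X : Scheme.{u}} {I' : X'.IdealSheafData} {I : X.IdealSheafData}
    (hI : IsEffCartierIdeal I) {ρ : X' ⟶ X} (h : ModPair.IsAdmBlowup I' I ρ) :
    IsSchemeTheoreticallyDominant ρ ∧ Surjective ρ := by
  obtain ⟨-, hp, hiso⟩ := h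
  have := dominant_interior hI
  have := isAffineHom_interior hI
  let O := ModPair.interior I
  have hd : IsSchemeTheoreticallyDominant ρ := ⟨eq_bot_iff.mpr (by
    have h1 := Scheme.Hom.le_ker_comp (inv (ρ ∣_ O) ≫ (ρ ⁻¹ᵁ O).ι) ρ
    have e : (inv (ρ ∣_ O) ≫ (ρ ⁻¹ᵁ O).ι) ≫ ρ = O.ι := by
      rw [Category.assoc, ← morphismRestrict_ι, IsIso.inv_hom_id_assoc]
    rw [e] at h1
    exact h1.trans_eq O.ι.ker_eq_bot)⟩
  refine ⟨hd, ⟨fun x => ?_⟩⟩
  have hclosed : IsClosed (Set.range ρ) := ρ.isClosedMap.isClosed_range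
  have hden : IsDominant ρ := inferInstance
  have := hclosed.closure_eq.symm.trans hden.denseRange.closure_range
  exact (this.symm ▸ Set.mem_univ x : x ∈ Set.range ρ)

theorem admBlowup_epi {P' P Q : ModPair.Pair.{u}} {r : P' ⟶ P} (hr : ModPair.Pair.admBlowup r)
    {f g : P ⟶ Q} (h : r ≫ f = r ≫ g) : f = g := by
  obtain ⟨hd, hs⟩ := admBlowup_dominant P.isEffCartier hr
  have : IsProper r.hom := hr.2.1
  exact ModPair.Pair.Hom.ext (hom_ext_of_dominant_surjective r.hom
    (congrArg ModPair.Pair.Hom.hom h))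

/-- The localisation at admissible blow-ups is faithful. -/
theorem map_injective {D : Type w} [Category.{v} D] (L : ModPair.Pair.{u} ⥤ D)
    [L.IsLocalization ModPair.Pair.admBlowup.{u}] {P Q : ModPair.Pair.{u}} {f g : P ⟶ Q}
    (h : L.map f = L.map g) : f = g := by
  obtain ⟨P', r, hr, h'⟩ := exists_eq L h
  exact admBlowup_epi hr h'

end Groth.ModPairs
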