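import Groth.Agent.ModPairs.LocGenDescend
import Groth.Agent.Flatmor4.ImageDom
import Groth.Agent.Limits.RelApprox
import Groth.Agent.Limits.DescentStage

/-!
A quasi-compact separated modulus pair over a quasi-compact quasi-separated one is a limit of pairs
of finite type along affine minimal scheme-theoretically dominant transitions.
-/

set_option autoImplicit false
set_option backward.isDefEq.respectTransparency false

universe u

open CategoryTheory CategoryTheory.Limits AlgebraicGeometry TopologicalSpace Opposite

namespace Groth.ModPairs.FiniteTypeLimit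

variable {X S : Scheme.{u}} {f : X ⟶ S} (R : Groth.Limits.RelSystem f)

theorem map_ker_le {a b : R.Iᵒᵖ} (m : a ⟶ b) :
    (R.π.app b).left.ker ≤ (R.π.app a).left.ker.map (R.D.map m).left := by
  rw [Scheme.IdealSheafData.map_ker]
  exact le_of_eq (congrArg (fun q => Scheme.Hom.ker q) (congrArg CommaMorphism.left (R.cone.w m)).symm)

/-- The scheme-theoretic images of the projections. -/
noncomputable def images : R.Iᵒᵖ ⥤ Over S where
  obj b := Over.mk ((R.π.app b).left.ker.subschemeι ≫ (R.D.obj b).hom)
  map {_ b} m := Over.homMk (Scheme.IdealSheafData.subschemeMap _ _ (R.D.map m).left (map_ker_le R m)) (by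
    show Scheme.IdealSheafData.subschemeMap _ _ _ _ ≫ (R.π.app b).left.ker.subschemeι ≫ (R.D.obj b).hom = _
    rw [Scheme.IdealSheafData.subschemeMap_subschemeι_assoc, Over.w (R.D.map m)]
    rfl)
  map_id b := by
    apply Over.OverMorphism.ext
    rw [← cancel_mono (R.π.app b).left.ker.subschemeι]
    simp
  map_comp {a b c} m n := by
    apply Over.OverMorphism.ext
    rw [← cancel_mono (R.π.app c).left.ker.subschemeι]
    simp

/-- The inclusion of the images. -/
noncomputable def imagesι : images R ⟶ R.D where
  app b := Over.homMk (R.π.app b).left.ker.subschemeι rfl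
  naturality a b m := Over.OverMorphism.ext
    (Scheme.IdealSheafData.subschemeMap_subschemeι _ _ _ (map_ker_le R m))

instance (b : R.Iᵒᵖ) : IsClosedImmersion ((imagesι R).app b).left :=
  inferInstanceAs (IsClosedImmersion (R.π.app b).left.ker.subschemeι)

theorem mono_imagesι (b : R.Iᵒᵖ) : Mono ((imagesι R).app b) :=
  (Over.forget S).mono_of_mono_map (f := (imagesι R).app b) (inferInstanceAs (Mono ((imagesι R).app b).left))

theorem toImage_w {a b : R.Iᵒᵖ} (m : a ⟶ b) :
    (R.π.app a).left.toImage ≫ Scheme.IdealSheafData.subschemeMap _ _ (R.D.map m).left (map_ker_le R m) =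
      (R.π.app b).left.toImage := by
  rw [← cancel_mono (R.π.app b).left.ker.subschemeι, Category.assoc,
    Scheme.IdealSheafData.subschemeMap_subschemeι]
  exact (Scheme.Hom.toImage_imageι_assoc _ _).trans
    ((congrArg CommaMorphism.left (R.cone.w m)).trans (R.π.app b).left.toImage_imageι.symm)

/-- The cone of the images. -/
noncomputable def imagesCone : Cone (images R) where
  pt := Over.mk f
  π :=
    { app := fun b => Over.homMk (R.π.app b).left.toImage (by
        show (R.π.app b).left.toImage ≫ (R.π.app b).left.imageι ≫ (R.D.obj b).hom = _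
        rw [Scheme.Hom.toImage_imageι_assoc]
        exact Over.w (R.π.app b))
      naturality := fun a b m => Over.OverMorphism.ext ((Category.id_comp _).trans (toImage_w R m).symm) }

theorem imagesCone_ι (b : R.Iᵒᵖ) : (imagesCone R).π.app b ≫ (imagesι R).app b = R.π.app b :=
  Over.OverMorphism.ext (R.π.app b).left.toImage_imageι

/-- The images have the same limit. -/
noncomputable def isLimitImages : IsLimit (imagesCone R) where
  lift s := R.isLimit.lift ((Cone.postcompose (imagesι R)).obj s)
  fac s b := by
    have := mono_imagesι R b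
    rw [← cancel_mono ((imagesι R).app b), Category.assoc, imagesCone_ι]
    exact R.isLimit.fac ((Cone.postcompose (imagesι R)).obj s) b
  uniq s u hu := R.isLimit.hom_ext fun b => by
    show u ≫ R.π.app b = _
    refine (congrArg (u ≫ ·) (imagesCone_ι R b)).symm.trans ?_
    rw [← Category.assoc, hu]
    exact (R.isLimit.fac ((Cone.postcompose (imagesι R)).obj s) b).symm

theorem isAffineHom_images_map {a b : R.Iᵒᵖ} (m : a ⟶ b) : IsAffineHom ((images R).map m).left := by
  have := R.affine _ _ m
  have : IsAffineHom (((images R).map m).left ≫ ((imagesι R).app b).left) := by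
    rw [← Over.comp_left, (imagesι R).naturality, Over.comp_left]
    infer_instance
  exact IsAffineHom.of_comp _ ((imagesι R).app b).left

theorem dominant_cone (b : R.Iᵒᵖ) : IsSchemeTheoreticallyDominant ((imagesCone R).π.app b).left :=
  have := R.isAffineHom_π b
  Groth.Flatmor4.isSchemeTheoreticallyDominant_toImage (R.π.app b).left

theorem dominant_map {a b : R.Iᵒᵖ} (m : a ⟶ b) :
    IsSchemeTheoreticallyDominant ((images R).map m).left := by
  refine ⟨eq_bot_iff.2 ?_⟩
  have h := Scheme.Hom.le_ker_comp ((imagesCone R).π.app a).left ((images R).map m).left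
  rw [← Over.comp_left, (imagesCone R).w m, (dominant_cone R b).ker_eq_bot] at h
  exact h

/-- A locally principal ideal pulling back to an effective Cartier one along an affine dominant
morphism is effective Cartier. -/
theorem isEffCartierIdeal_of_dominant {A B : Scheme.{u}} (p : A ⟶ B) [IsAffineHom p]
    [IsSchemeTheoreticallyDominant p] {J : B.IdealSheafData} (hJ : LocGen J)
    (h : BlowUp.IsEffCartierIdeal (J.comap p)) : BlowUp.IsEffCartierIdeal J := by
  intro x
  obtain ⟨W, hxW, -, g, hg⟩ := hJ x ⊤ trivial
  refine ⟨W, hxW, g, mem_nonZeroDivisors_iff_right.2 fun a ha => ?_, hg⟩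
  have hp : (J.comap p).ideal ⟨p ⁻¹ᵁ W.1, W.2.preimage p⟩ = Ideal.span {p.app W.1 g} := by
    rw [Divisors.ideal_comap_affine J p W ⟨p ⁻¹ᵁ W.1, W.2.preimage p⟩ le_rfl, hg, Ideal.map_span,
      Set.image_singleton, ← Scheme.Hom.app_eq_appLE]
  refine Scheme.Hom.app_injective p W.1 ?_
  rw [map_zero]
  refine Divisors.eq_zero_of_off_support h _ fun y hy hyn => ?_
  have h1 := congrArg (A.presheaf.germ _ y hy).hom (congrArg (p.app W.1).hom ha)
  rw [map_mul, map_mul, map_zero, map_zero] at h1
  exact ((Divisors.not_mem_support_iff hp hy).mp hyn).mul_left_eq_zero.mp h1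

theorem exists_isLimit_finiteType_pairs [CompactSpace S] [QuasiSeparatedSpace S]
    (IS : S.IdealSheafData) (hS : BlowUp.IsEffCartierIdeal IS)
    (IX : X.IdealSheafData) (hX : BlowUp.IsEffCartierIdeal IX)
    (f : X ⟶ S) [QuasiCompact f] [IsSeparated f] (hf : ModPair.IsAmbient IX IS f) :
    ∃ (I : Type u) (_ : SmallCategory I) (_ : IsCofiltered I) (D : I ⥤ Over S) (c : Cone D)
      (_ : IsLimit c) (e : c.pt ≅ Over.mk f) (J : ∀ i, (D.obj i).left.IdealSheafData),
      (∀ i, BlowUp.IsEffCartierIdeal (J i)) ∧
      (∀ i, LocallyOfFiniteType (D.obj i).hom ∧ QuasiCompact (D.obj i).hom ∧ IsSeparated (D.obj i).hom) ∧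
      (∀ i, ModPair.IsAmbient (J i) IS (D.obj i).hom) ∧
      (∀ (i j : I) (t : i ⟶ j), IsAffineHom (D.map t).left ∧ ModPair.IsMinimal (J i) (J j) (D.map t).left ∧
          IsSchemeTheoreticallyDominant (D.map t).left) ∧
      (∀ i, IX = (J i).comap (e.inv.left ≫ (c.π.app i).left)) := by
  have : CompactSpace X := QuasiCompact.compactSpace_of_compactSpace f
  have : QuasiSeparatedSpace X := quasiSeparatedSpace_of_quasiSeparated f
  obtain ⟨R₀⟩ := Groth.Limits.exists_relSystem f
  obtain ⟨i₀⟩ : Nonempty R₀.Iᵒᵖ := inferInstance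
  have hsep : ∃ i₁ : R₀.Iᵒᵖ, ∀ (i : R₀.Iᵒᵖ) (_ : i ⟶ i₁), IsSeparated (R₀.D.obj i).hom := by
    have : CompactSpace (R₀.left.obj i₀) := R₀.compact i₀
    have : ∀ i, QuasiCompact (R₀.structureMap.app i) := R₀.quasiCompact
    have : ∀ i, QuasiSeparated (R₀.structureMap.app i) := R₀.quasiSeparated
    have : ∀ (i j : R₀.Iᵒᵖ) (m : i ⟶ j), IsAffineHom (R₀.left.map m) := R₀.affine
    have : IsSeparated (R₀.leftCone.π.app i₀ ≫ R₀.structureMap.app i₀) := by
      rw [R₀.π_structureMap i₀]; infer_instance
    exact Groth.Limits.exists_isSeparated_app R₀.structureMap R₀.isLimitLeftCone i₀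
  obtain ⟨i₁, hi₁⟩ := hsep
  let R := R₀.above i₁.unop
  have hsepR : ∀ i, IsSeparated (R.D.obj i).hom := fun i =>
    hi₁ _ (homOfLE (R₀.above_le i₁.unop i)).op
  let L : R.Iᵒᵖ ⥤ Scheme.{u} := images R ⋙ Over.forget S
  let cL : Cone L := (Over.forget S).mapCone (imagesCone R)
  have : IsConnected R.Iᵒᵖ := IsCofiltered.isConnected _
  let hcL : IsLimit cL := isLimitOfPreserves (Over.forget S) (isLimitImages R)
  have : ∀ {i j : R.Iᵒᵖ} (t : i ⟶ j), IsAffineHom (L.map t) := fun t => isAffineHom_images_map R t
  have hcpt : ∀ i, CompactSpace (L.obj i) := fun i =>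
    have := R.compact i
    QuasiCompact.compactSpace_of_compactSpace ((imagesι R).app i).left
  have hlft : ∀ i, LocallyOfFiniteType ((images R).obj i).hom ∧ QuasiCompact ((images R).obj i).hom ∧
      IsSeparated ((images R).obj i).hom := fun i => by
    have := R.locallyOfFinitePresentation i
    have := R.quasiCompact i
    have := hsepR i
    exact ⟨inferInstanceAs (LocallyOfFiniteType ((R.π.app i).left.ker.subschemeι ≫ (R.D.obj i).hom)),
      inferInstanceAs (QuasiCompact ((R.π.app i).left.ker.subschemeι ≫ (R.D.obj i).hom)),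
      inferInstanceAs (IsSeparated ((R.π.app i).left.ker.subschemeι ≫ (R.D.obj i).hom))⟩
  have : ∀ i, QuasiSeparatedSpace (L.obj i) := fun i => by
    have := (hlft i).2.2
    exact quasiSeparatedSpace_of_quasiSeparated ((images R).obj i).hom
  obtain ⟨l, J₀, hJ₀, hcomap⟩ := Groth.ModPairs.LocGenDescend.exists_locGen_descend L cL hcL
    (K₀ := (IX : cL.pt.IdealSheafData)) (locGen_of_effCartier hX)
  obtain ⟨m, t, hle⟩ := exists_comap_le L cL hcL (i := l) hJ₀
    ((locGen_of_effCartier hS).comap ((images R).obj l).hom) (by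
      rw [hcomap, ← Scheme.IdealSheafData.comap_comp]
      exact hf.trans_eq (congrArg IS.comap (Over.w ((imagesCone R).π.app l))).symm)
  let F : Over m ⥤ R.Iᵒᵖ := Over.forget m
  let J : ∀ i : Over m, ((F ⋙ images R).obj i).left.IdealSheafData := fun i =>
    J₀.comap ((images R).map (i.hom ≫ t)).left
  have hπ : ∀ i, (J i).comap ((imagesCone R).π.app i.left).left = IX := fun i => by
    rw [← Scheme.IdealSheafData.comap_comp, ← Over.comp_left, (imagesCone R).w]
    exact hcomap
  refine ⟨Over m, inferInstance, inferInstance, F ⋙ images R, (imagesCone R).whisker F,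
    (Functor.Initial.isLimitWhiskerEquiv F (imagesCone R)).symm (isLimitImages R), Iso.refl _, J,
    fun i => ?_, fun i => hlft i.left, fun i => ?_, fun i j a => ?_, fun i => ?_⟩
  · have := dominant_cone R i.left
    have : IsAffineHom ((imagesCone R).π.app i.left).left := isAffineHom_π_app L cL hcL i.left
    refine isEffCartierIdeal_of_dominant ((imagesCone R).π.app i.left).left
      (hJ₀.comap _) ?_
    rw [hπ i]; exact hX
  · show J₀.comap ((images R).map (i.hom ≫ t)).left ≤ IS.comap ((images R).obj i.left).hom
    rw [Functor.map_comp, Over.comp_left, Scheme.IdealSheafData.comap_comp]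
    refine ((Scheme.IdealSheafData.map_gc _).monotone_l hle).trans_eq ?_
    rw [← Scheme.IdealSheafData.comap_comp, ← Scheme.IdealSheafData.comap_comp]
    refine congrArg IS.comap ?_
    rw [Category.assoc]
    exact (congrArg (((images R).map i.hom).left ≫ ·) (Over.w ((images R).map t))).trans
      (Over.w ((images R).map i.hom))
  · refine ⟨isAffineHom_images_map R _, ?_, dominant_map R _⟩
    show J₀.comap ((images R).map (i.hom ≫ t)).left =
      (J₀.comap ((images R).map (j.hom ≫ t)).left).comap ((images R).map a.left).left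
    rw [← Scheme.IdealSheafData.comap_comp, ← Over.comp_left, ← Functor.map_comp, ← Category.assoc, Over.w a]
  · show IX = (J i).comap (𝟙 X ≫ ((imagesCone R).π.app i.left).left)
    rw [Category.id_comp, hπ i]

end Groth.ModPairs.FiniteTypeLimit
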