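import Groth.Agent.ModPairs.Limit
import Groth.Agent.ModPairs.Divisor

/-!
# Descent of inclusions of locally principal ideal sheaves along affine limits
-/

set_option autoImplicit false
universe u

open CategoryTheory CategoryTheory.Limits AlgebraicGeometry TopologicalSpace

namespace Groth.ModPairs

/-- Locally generated by one section, on arbitrarily small affine opens. -/
def LocGen {X : Scheme.{u}} (K : X.IdealSheafData) : Prop :=
  ∀ (x : X) (O : X.Opens), x ∈ O → ∃ W : X.affineOpens, x ∈ W.1 ∧ W.1 ≤ O ∧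
    ∃ g : Γ(X, W.1), K.ideal W = Ideal.span {g}

theorem locGen_of_effCartier {X : Scheme.{u}} {K : X.IdealSheafData}
    (h : BlowUp.IsEffCartierIdeal K) : LocGen K := fun x O hx => by
  obtain ⟨W, hW, hle, g, -, hg⟩ := Divisors.exists_generator h x O hx
  exact ⟨W, hW, hle, g, hg⟩

theorem LocGen.comap {X Y : Scheme.{u}} {K : Y.IdealSheafData} (h : LocGen K) (f : X ⟶ Y) :
    LocGen (K.comap f) := fun x O hx => by
  obtain ⟨W, hW, -, g, hg⟩ := h (f x) ⊤ trivial
  obtain ⟨_, ⟨V, hV, rfl⟩, hxV, hVW⟩ := X.isBasis_affineOpens.exists_subset_of_mem_open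
    (show x ∈ f ⁻¹ᵁ W.1 ⊓ O from ⟨hW, hx⟩) (f ⁻¹ᵁ W.1 ⊓ O).isOpen
  refine ⟨⟨V, hV⟩, hxV, fun y hy => (hVW hy).2, f.appLE W.1 V (fun y hy => (hVW hy).1) g, ?_⟩
  rw [Divisors.ideal_comap_affine K f W ⟨V, hV⟩ (fun y hy => (hVW hy).1), hg, Ideal.map_span,
    Set.image_singleton]

theorem exists_common {I : Type u} [Category.{u} I] [IsCofiltered I] {i : I} {κ : Type*}
    (s : Finset κ) (j : κ → I) (a : ∀ x, j x ⟶ i) :
    ∃ (l : I) (t : l ⟶ i), ∀ x ∈ s, ∃ b : l ⟶ j x, b ≫ a x = t := by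
  classical
  induction s using Finset.induction_on with
  | empty => exact ⟨i, 𝟙 _, by simp⟩
  | insert x s hx ih =>
    obtain ⟨l, t, h⟩ := ih
    obtain ⟨k, f, g, hfg⟩ := IsCofiltered.cospan t (a x)
    refine ⟨k, f ≫ t, fun y hy => ?_⟩
    rcases Finset.mem_insert.mp hy with rfl | hy
    · exact ⟨g, hfg.symm⟩
    · obtain ⟨b, hb⟩ := h y hy
      exact ⟨f ≫ b, by rw [Category.assoc, hb]⟩

variable {I : Type u} [SmallCategory I] [IsCofiltered I] (D : I ⥤ Scheme.{u}) (c : Cone D)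
  (hc : IsLimit c) [∀ {i j : I} (t : i ⟶ j), IsAffineHom (D.map t)]

/-- The preimage of an affine open of a stage. -/
abbrev pre {i l : I} (t : l ⟶ i) (W : (D.obj i).affineOpens) : (D.obj l).affineOpens :=
  ⟨D.map t ⁻¹ᵁ W.1, W.2.preimage (D.map t)⟩

include hc in
theorem exists_le_local {i : I} {J K : (D.obj i).IdealSheafData} (W : (D.obj i).affineOpens)
    {g h : Γ(D.obj i, W.1)} (hJ : J.ideal W = Ideal.span {g}) (hK : K.ideal W = Ideal.span {h})
    (hle : J.comap (c.π.app i) ≤ K.comap (c.π.app i)) :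
    ∃ (j : I) (a : j ⟶ i), (J.comap (D.map a)).ideal (pre D a W) ≤
      (K.comap (D.map a)).ideal (pre D a W) := by
  have := isAffineHom_π_app D c hc i
  let U : c.pt.affineOpens := ⟨c.π.app i ⁻¹ᵁ W.1, W.2.preimage _⟩
  have h1 := hle U
  rw [Divisors.ideal_comap_affine J _ W U le_rfl, Divisors.ideal_comap_affine K _ W U le_rfl, hJ, hK,
    Ideal.map_span, Ideal.map_span, Set.image_singleton, Set.image_singleton,
    Ideal.span_singleton_le_span_singleton] at h1
  obtain ⟨t, ht⟩ := h1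
  obtain ⟨k, a, e, z, rfl⟩ := exists_section D c hc W.1 W.2 t
  have hcomp : ∀ s : Γ(D.obj i, W.1), (c.π.app k).appLE _ U.1 e ((D.map a).app W.1 s) =
      (c.π.app i).appLE W.1 U.1 le_rfl s := fun s => by
    rw [Scheme.Hom.app_eq_appLE, ← ConcreteCategory.comp_apply, Scheme.Hom.appLE_comp_appLE]
    congr 2
    simp only [c.w]
  have h0 : (c.π.app k).appLE _ U.1 e ((D.map a).app W.1 g) =
      (c.π.app k).appLE _ U.1 e ((D.map a).app W.1 h * z) := by
    rw [map_mul, hcomp, hcomp]; exact ht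
  have h0' : (c.π.app k).app _ ((D.map a).app W.1 g) =
      (c.π.app k).app _ ((D.map a).app W.1 h * z) := by
    rw [Scheme.Hom.app_eq_appLE]
    have : ∀ (U' : c.pt.Opens) (_ : U' = U.1) (e' : U' ≤ c.π.app k ⁻¹ᵁ (D.map a ⁻¹ᵁ W.1)),
        (c.π.app k).appLE _ U' e' ((D.map a).app W.1 g) =
          (c.π.app k).appLE _ U' e' ((D.map a).app W.1 h * z) := by
      rintro _ rfl e'; exact h0
    exact this _ (by rw [← Scheme.Hom.comp_preimage, c.w]) _
  obtain ⟨j, b, hj⟩ := exists_app_map_eq_map_of_isLimit D c hc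
    ((W.2.preimage (D.map a)).isCompact) _ _ h0'
  refine ⟨j, b ≫ a, ?_⟩
  rw [D.map_comp, Scheme.IdealSheafData.comap_comp, Scheme.IdealSheafData.comap_comp]
  have e₂ : (pre D (b ≫ a) W).1 ≤ D.map b ⁻¹ᵁ (pre D a W).1 := by
    show D.map (b ≫ a) ⁻¹ᵁ W.1 ≤ _
    rw [D.map_comp]; exact le_rfl
  rw [Divisors.ideal_comap_affine _ (D.map b) (pre D a W) (pre D (b ≫ a) W) e₂,
    Divisors.ideal_comap_affine _ (D.map b) (pre D a W) (pre D (b ≫ a) W) e₂,
    Divisors.ideal_comap_affine J (D.map a) W (pre D a W) le_rfl,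
    Divisors.ideal_comap_affine K (D.map a) W (pre D a W) le_rfl, hJ, hK,
    Ideal.map_span, Ideal.map_span, Ideal.map_span, Ideal.map_span, Set.image_singleton,
    Set.image_singleton, Set.image_singleton, Set.image_singleton,
    Ideal.span_singleton_le_span_singleton]
  refine ⟨(D.map b).appLE _ _ e₂ z, ?_⟩
  rw [← map_mul, Scheme.Hom.appLE, CommRingCat.comp_apply, CommRingCat.comp_apply]
  simp only [← Scheme.Hom.app_eq_appLE]
  rw [hj]

include hc in
theorem exists_comap_le {i : I} [CompactSpace (D.obj i)] {J K : (D.obj i).IdealSheafData}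
    (hJ : LocGen J) (hK : LocGen K) (hle : J.comap (c.π.app i) ≤ K.comap (c.π.app i)) :
    ∃ (l : I) (t : l ⟶ i), J.comap (D.map t) ≤ K.comap (D.map t) := by
  have hloc : ∀ x : D.obj i, ∃ W : (D.obj i).affineOpens, x ∈ W.1 ∧ ∃ (j : I) (a : j ⟶ i),
      (J.comap (D.map a)).ideal (pre D a W) ≤ (K.comap (D.map a)).ideal (pre D a W) := fun x => by
    obtain ⟨W₁, hx₁, -, g, hg⟩ := hJ x ⊤ trivial
    obtain ⟨W, hx, hle', h, hh⟩ := hK x W₁.1 hx₁
    refine ⟨W, hx, exists_le_local D c hc W (g := (D.obj i).presheaf.map (homOfLE hle').op g) ?_ hh hle⟩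
    rw [← J.map_ideal (U := W) (V := W₁) hle', hg, Ideal.map_span, Set.image_singleton]
    rfl
  choose W hxW j a hja using hloc
  obtain ⟨s, hs⟩ := isCompact_univ.elim_finite_subcover (fun x => ((W x).1 : Set (D.obj i)))
    (fun x => (W x).1.isOpen) (fun x _ => Set.mem_iUnion.mpr ⟨x, hxW x⟩)
  obtain ⟨l, t, ht⟩ := exists_common s j a
  refine ⟨l, t, le_of_cover fun y => ?_⟩
  obtain ⟨x, hxs, hx⟩ := Set.mem_iUnion₂.mp (hs (Set.mem_univ (D.map t y)))
  refine ⟨pre D t (W x), hx, ?_⟩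
  obtain ⟨b, rfl⟩ := ht x hxs
  rw [D.map_comp, Scheme.IdealSheafData.comap_comp, Scheme.IdealSheafData.comap_comp]
  have e₂ : (pre D (b ≫ a x) (W x)).1 ≤ D.map b ⁻¹ᵁ (pre D (a x) (W x)).1 := by
    show D.map (b ≫ a x) ⁻¹ᵁ (W x).1 ≤ _
    rw [D.map_comp]; exact le_rfl
  rw [Divisors.ideal_comap_affine _ (D.map b) (pre D (a x) (W x)) (pre D (b ≫ a x) (W x)) e₂,
    Divisors.ideal_comap_affine _ (D.map b) (pre D (a x) (W x)) (pre D (b ≫ a x) (W x)) e₂]
  exact Ideal.map_mono (hja x)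

end Groth.ModPairs
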