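import Groth.Agent.ModPairs.Mprod
import Groth.Agent.ModPairs.Divisor
import Groth.Agent.BlowUpBasics.Global
import Groth.Agent.HTopHyper.BlowUpProper

/-!
# Ambient products of modulus pairs
-/

set_option autoImplicit false
universe u

open CategoryTheory CategoryTheory.Limits AlgebraicGeometry TopologicalSpace BlowUp

namespace Groth.ModPairs

variable {X Y Z S T W : Scheme.{u}} {f : X ⟶ S} {g : T ⟶ S} {I : X.IdealSheafData} {J : T.IdealSheafData}
  {π : Y ⟶ ModPair.mprod f g I J} {K : Y.IdealSheafData}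

theorem fg_prodCentre (hI : IsEffCartierIdeal I) (hJ : IsEffCartierIdeal J)
    (U : (ModPair.mprod f g I J).affineOpens) : ((ModPair.prodCentre f g I J).ideal U).FG :=
  Submodule.FG.sup (BlowUpBasics.fg_of_isEffCartierIdeal (isEffCartierIdeal_comap_fst hI hJ) U)
    (BlowUpBasics.fg_of_isEffCartierIdeal (isEffCartierIdeal_comap_snd hI hJ) U)

/-- The structure of the ambient product. -/
theorem ambProd_split (hI : IsEffCartierIdeal I) (hJ : IsEffCartierIdeal J)
    (hY : ModPair.IsAmbProd f g I J π K) :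
    ∃ L₁ L₂ : Y.IdealSheafData, IsEffCartierIdeal L₁ ∧ IsEffCartierIdeal L₂ ∧ L₁ ⊔ L₂ = ⊤ ∧
      I.comap (π ≫ ModPair.mprodι f g I J ≫ pullback.fst f g) = L₁ * (ModPair.prodCentre f g I J).comap π ∧
      J.comap (π ≫ ModPair.mprodι f g I J ≫ pullback.snd f g) = L₂ * (ModPair.prodCentre f g I J).comap π ∧
      K = L₁ * L₂ * (ModPair.prodCentre f g I J).comap π := by
  obtain ⟨hb, hK⟩ := hY
  have := isAffineHom_prodInterior (f := f) (g := g) hI hJ
  have := isAffineHom_preimage (ModPair.mprodι f g I J) (ModPair.prodInterior f g I J)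
  have := dominant_mprod (f := f) (g := g) hI hJ
  have hd : IsSchemeTheoreticallyDominant
      (π ⁻¹ᵁ (ModPair.mprodι f g I J ⁻¹ᵁ ModPair.prodInterior f g I J)).ι := by
    refine BlowUpBasics.isSchemeTheoreticallyDominant_preimage hb _ ?_
    rw [Set.disjoint_left]
    intro x hx hxU
    have h1 := Scheme.IdealSheafData.support_antitone
      (le_sup_left : I.comap (ModPair.mprodι f g I J ≫ pullback.fst f g) ≤ ModPair.prodCentre f g I J) hx
    rw [Scheme.IdealSheafData.support_comap] at h1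
    exact hxU.1 h1
  have h₁ : IsEffCartierIdeal (I.comap (π ≫ ModPair.mprodι f g I J ≫ pullback.fst f g)) := by
    have : IsSchemeTheoreticallyDominant
        ((π ≫ ModPair.mprodι f g I J ≫ pullback.fst f g) ⁻¹ᵁ ModPair.interior I).ι :=
      dominant_mono (U := π ⁻¹ᵁ (ModPair.mprodι f g I J ⁻¹ᵁ ModPair.prodInterior f g I J)) fun x hx => hx.1
    exact isEffCartierIdeal_comap_of_dominant hI _
  have h₂ : IsEffCartierIdeal (J.comap (π ≫ ModPair.mprodι f g I J ≫ pullback.snd f g)) := by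
    have : IsSchemeTheoreticallyDominant
        ((π ≫ ModPair.mprodι f g I J ≫ pullback.snd f g) ⁻¹ᵁ ModPair.interior J).ι :=
      dominant_mono (U := π ⁻¹ᵁ (ModPair.mprodι f g I J ⁻¹ᵁ ModPair.prodInterior f g I J)) fun x hx => hx.2
    exact isEffCartierIdeal_comap_of_dominant hJ _
  have hE : (ModPair.prodCentre f g I J).comap π =
      I.comap (π ≫ ModPair.mprodι f g I J ≫ pullback.fst f g) ⊔
        J.comap (π ≫ ModPair.mprodι f g I J ≫ pullback.snd f g) := by
    rw [ModPair.prodCentre, Scheme.IdealSheafData.comap_sup, ← Scheme.IdealSheafData.comap_comp,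
      ← Scheme.IdealSheafData.comap_comp]
  rw [← Scheme.IdealSheafData.comap_comp, ← Scheme.IdealSheafData.comap_comp] at hK
  obtain ⟨L₁, L₂, hL₁, hL₂, e₁, e₂, hco⟩ := exists_split h₁ h₂ (hE ▸ hb.1)
  rw [← hE] at e₁ e₂
  refine ⟨L₁, L₂, hL₁, hL₂, hco, e₁, e₂, mul_cancel hb.1 (hK.trans ?_)⟩
  generalize (ModPair.prodCentre f g I J).comap π = E at e₁ e₂ ⊢
  rw [e₁, e₂]
  ac_rfl

theorem ambProd_props (hI : IsEffCartierIdeal I) (hJ : IsEffCartierIdeal J)
    (hY : ModPair.IsAmbProd f g I J π K) :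
    IsEffCartierIdeal K ∧ ModPair.IsAmbient K I (π ≫ ModPair.mprodι f g I J ≫ pullback.fst f g) ∧
      ModPair.IsAmbient K J (π ≫ ModPair.mprodι f g I J ≫ pullback.snd f g) ∧
      ModPair.interior K = (π ≫ ModPair.mprodι f g I J) ⁻¹ᵁ ModPair.prodInterior f g I J := by
  obtain ⟨L₁, L₂, hL₁, hL₂, hco, e₁, e₂, rfl⟩ := ambProd_split hI hJ hY
  refine ⟨Divisors.isEffCartierIdeal_mul (Divisors.isEffCartierIdeal_mul hL₁ hL₂) hY.1.1, ?_, ?_, ?_⟩
  · show _ ≤ _
    rw [e₁, mul_assoc L₁, mul_left_comm]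
    exact mul_le_left _ _
  · show _ ≤ _
    rw [e₂, mul_assoc L₁]
    exact mul_le_left _ _
  · have h1 := congrArg ModPair.interior e₁
    have h2 := congrArg ModPair.interior e₂
    rw [interior_comap, interior_mul] at h1 h2
    show _ = (π ≫ ModPair.mprodι f g I J) ⁻¹ᵁ (pullback.fst f g ⁻¹ᵁ _ ⊓ pullback.snd f g ⁻¹ᵁ _)
    rw [interior_mul, interior_mul, inf_inf_distrib_right, ← h1, ← h2]
    rfl

theorem exists_ambProd (f : X ⟶ S) (g : T ⟶ S) (hI : IsEffCartierIdeal I) (hJ : IsEffCartierIdeal J) :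
    ∃ (Y : Scheme.{u}) (π : Y ⟶ ModPair.mprod f g I J) (K : Y.IdealSheafData),
      ModPair.IsAmbProd f g I J π K := by
  obtain ⟨Y, π, hb⟩ := BlowUpBasics.exists_isBlowUp _ (ModPair.prodCentre f g I J)
  set E := (ModPair.prodCentre f g I J).comap π with hEdef
  obtain ⟨L₁, hL₁⟩ := BlowUpBasics.exists_eq_mul_of_le hb.1
    (Scheme.IdealSheafData.comap_mono π (le_sup_left : I.comap (ModPair.mprodι f g I J ≫ pullback.fst f g) ≤
      ModPair.prodCentre f g I J))
  obtain ⟨L₂, hL₂⟩ := BlowUpBasics.exists_eq_mul_of_le hb.1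
    (Scheme.IdealSheafData.comap_mono π (le_sup_right : J.comap (ModPair.mprodι f g I J ≫ pullback.snd f g) ≤
      ModPair.prodCentre f g I J))
  refine ⟨Y, π, L₁ * L₂ * E, hb, ?_⟩
  beta_reduce at hL₁ hL₂
  rw [hL₁, hL₂, ← hEdef]
  ac_rfl

theorem ambProd_isProper (hI : IsEffCartierIdeal I) (hJ : IsEffCartierIdeal J)
    (hY : ModPair.IsAmbProd f g I J π K) : IsProper π :=
  HTopHyper.isProper_of_isBlowUp hY.1 (fg_prodCentre hI hJ)

/-- Morphisms into an ambient product are determined by the two projections. -/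
theorem ambProd_hom_ext (hI : IsEffCartierIdeal I) (hJ : IsEffCartierIdeal J)
    (hY : ModPair.IsAmbProd f g I J π K) {IW : W.IdealSheafData} (hW : IsEffCartierIdeal IW)
    {c d : W ⟶ Y} (hc : ModPair.IsAmbient IW K c)
    (h₁ : c ≫ π ≫ ModPair.mprodι f g I J ≫ pullback.fst f g = d ≫ π ≫ ModPair.mprodι f g I J ≫ pullback.fst f g)
    (h₂ : c ≫ π ≫ ModPair.mprodι f g I J ≫ pullback.snd f g = d ≫ π ≫ ModPair.mprodι f g I J ≫ pullback.snd f g) :
    c = d := by
  have h : c ≫ π = d ≫ π := by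
    rw [← cancel_mono (ModPair.mprodι f g I J)]
    apply pullback.hom_ext <;> simpa using by assumption
  refine BlowUpBasics.hom_ext_isBlowUp hY.1 h ?_
  obtain ⟨L₁, L₂, hL₁, hL₂, hco, e₁, e₂, rfl⟩ := ambProd_split hI hJ hY
  rw [Scheme.IdealSheafData.comap_comp]
  refine isEffCartierIdeal_comap_of_ambient hW hY.1.1 (I := IW) ?_
  exact hc.trans (Scheme.IdealSheafData.comap_mono c (mul_le_left _ _))

/-- Lifting to an ambient product. -/
theorem ambProd_lift (hI : IsEffCartierIdeal I) (hJ : IsEffCartierIdeal J)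
    (hY : ModPair.IsAmbProd f g I J π K) {IW : W.IdealSheafData} (hW : IsEffCartierIdeal IW)
    (b : W ⟶ X) (a : W ⟶ T) (hb : ModPair.IsAmbient IW I b) (ha : ModPair.IsAmbient IW J a)
    (h : b ≫ f = a ≫ g) (hC : IsEffCartierIdeal (I.comap b ⊔ J.comap a)) :
    ∃ c : W ⟶ Y, ModPair.IsAmbient IW K c ∧ c ≫ π ≫ ModPair.mprodι f g I J ≫ pullback.fst f g = b ∧
      c ≫ π ≫ ModPair.mprodι f g I J ≫ pullback.snd f g = a := by
  obtain ⟨c₀, hc₀, -⟩ := exists_lift hI hJ hW b a hb ha h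
  have hb0 : c₀ ≫ ModPair.mprodι f g I J ≫ pullback.fst f g = b := by
    rw [← Category.assoc, hc₀, pullback.lift_fst]
  have ha0 : c₀ ≫ ModPair.mprodι f g I J ≫ pullback.snd f g = a := by
    rw [← Category.assoc, hc₀, pullback.lift_snd]
  have hcen : (ModPair.prodCentre f g I J).comap c₀ = I.comap b ⊔ J.comap a := by
    rw [ModPair.prodCentre, Scheme.IdealSheafData.comap_sup, ← Scheme.IdealSheafData.comap_comp,
      ← Scheme.IdealSheafData.comap_comp, hb0, ha0]
  obtain ⟨c, hc, -⟩ := hY.1.2 W c₀ (hcen ▸ hC)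
  have hb1 : c ≫ π ≫ ModPair.mprodι f g I J ≫ pullback.fst f g = b := by rw [← Category.assoc, hc, hb0]
  have ha1 : c ≫ π ≫ ModPair.mprodι f g I J ≫ pullback.snd f g = a := by rw [← Category.assoc, hc, ha0]
  refine ⟨c, ?_, hb1, ha1⟩
  obtain ⟨L₁, L₂, hL₁, hL₂, hco, e₁, e₂, rfl⟩ := ambProd_split hI hJ hY
  have hE : ((ModPair.prodCentre f g I J).comap π).comap c = I.comap b ⊔ J.comap a := by
    rw [← Scheme.IdealSheafData.comap_comp, hc, hcen]
  show IW ≤ _
  rw [Divisors.comap_mul, Divisors.comap_mul]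
  refine le_mul_mul (hE.symm ▸ hC) ?_ ?_ ?_
  · rw [← Scheme.IdealSheafData.comap_sup, hco, Scheme.IdealSheafData.comap_top]
  · rw [← Divisors.comap_mul, ← e₁, ← Scheme.IdealSheafData.comap_comp, hb1]; exact hb
  · rw [← Divisors.comap_mul, ← e₂, ← Scheme.IdealSheafData.comap_comp, ha1]; exact ha

/-- Making the sum of two pulled-back moduli invertible by an admissible blow-up. -/
theorem exists_refine {IW : W.IdealSheafData} (hW : IsEffCartierIdeal IW) {A B : W.IdealSheafData}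
    (hA : IsEffCartierIdeal A) (hB : IsEffCartierIdeal B) (hWA : IW ≤ A) :
    ∃ (W' : Scheme.{u}) (w : W' ⟶ W), IsEffCartierIdeal (IW.comap w) ∧
      ModPair.IsAdmBlowup (IW.comap w) IW w ∧ IsEffCartierIdeal (A.comap w ⊔ B.comap w) := by
  obtain ⟨W', w, hb⟩ := BlowUpBasics.exists_isBlowUp W (A ⊔ B)
  have hdis : Disjoint ((A ⊔ B).support : Set W) (ModPair.interior IW : Set W) := by
    rw [Set.disjoint_left]
    intro x hx hxW
    exact hxW (Scheme.IdealSheafData.support_antitone (hWA.trans le_sup_left) hx)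
  have := isAffineHom_interior hW
  have := dominant_interior hW
  have := BlowUpBasics.isSchemeTheoreticallyDominant_preimage hb (ModPair.interior IW) hdis
  refine ⟨W', w, isEffCartierIdeal_comap_of_dominant hW w, ⟨rfl, ?_, ?_⟩, ?_⟩
  · exact HTopHyper.isProper_of_isBlowUp hb fun U =>
      Submodule.FG.sup (BlowUpBasics.fg_of_isEffCartierIdeal hA U) (BlowUpBasics.fg_of_isEffCartierIdeal hB U)
  · exact BlowUpBasics.isIso_morphismRestrict hb _ hdis
  · rw [← Scheme.IdealSheafData.comap_sup]; exact hb.1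

end Groth.ModPairs
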