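import Groth.Agent.ModPairs.Cat
import Groth.Agent.ModPairs.Prod
import Mathlib.CategoryTheory.Limits.Constructions.LimitsOfProductsAndEqualizers
import Mathlib.CategoryTheory.Limits.Shapes.Pullback.IsPullback.Defs

/-!
# Finite limits of modulus pairs up to admissible blow-ups
-/

set_option autoImplicit false
universe u v w

open CategoryTheory CategoryTheory.Limits AlgebraicGeometry TopologicalSpace BlowUp

namespace Groth.ModPairs

open _root_.ModPair (Pair)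

variable {D : Type w} [Category.{v} D] (L : Pair.{u} ⥤ D) [L.IsLocalization Pair.admBlowup.{u}]

theorem isIso_map {P P' : Pair.{u}} {s : P' ⟶ P} (hs : Pair.admBlowup s) : IsIso (L.map s) :=
  Localization.inverts L Pair.admBlowup s hs

theorem exists_fraction {P Q : Pair.{u}} (a : L.obj P ⟶ L.obj Q) :
    ∃ (P' : Pair.{u}) (r : P' ⟶ P) (f : P' ⟶ Q), Pair.admBlowup r ∧ L.map r ≫ a = L.map f := by
  obtain ⟨φ, rfl⟩ := Localization.exists_rightFraction L Pair.admBlowup a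
  exact ⟨φ.X', φ.s, φ.f, φ.hs, φ.map_s_comp_map L (Localization.inverts L Pair.admBlowup)⟩

theorem exists_fraction₂ {P Q Q' : Pair.{u}} (a : L.obj P ⟶ L.obj Q) (b : L.obj P ⟶ L.obj Q') :
    ∃ (P' : Pair.{u}) (r : P' ⟶ P) (f : P' ⟶ Q) (g : P' ⟶ Q'), Pair.admBlowup r ∧
      L.map r ≫ a = L.map f ∧ L.map r ≫ b = L.map g := by
  obtain ⟨P₁, r₁, f, hr₁, hf⟩ := exists_fraction L a
  obtain ⟨P₂, r₂, g, hr₂, hg⟩ := exists_fraction L (L.map r₁ ≫ b)
  refine ⟨P₂, r₂ ≫ r₁, r₂ ≫ f, g, (Pair.admBlowup).comp_mem _ _ hr₂ hr₁, ?_, ?_⟩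
  · rw [Functor.map_comp, Functor.map_comp, Category.assoc, hf]
  · rw [Functor.map_comp, Category.assoc, hg]

theorem exists_eq {P Q : Pair.{u}} {f g : P ⟶ Q} (h : L.map f = L.map g) :
    ∃ (P' : Pair.{u}) (r : P' ⟶ P), Pair.admBlowup r ∧ r ≫ f = r ≫ g := by
  obtain ⟨P', r, hr, h'⟩ := (MorphismProperty.map_eq_iff_precomp L Pair.admBlowup f g).mp h
  exact ⟨P', r, hr, h'⟩

theorem cancel_map {P P' : Pair.{u}} {r : P' ⟶ P} (hr : Pair.admBlowup r) {Z : D}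
    {a b : L.obj P ⟶ Z} (h : L.map r ≫ a = L.map r ≫ b) : a = b := by
  have := isIso_map L hr
  exact (cancel_epi (L.map r)).mp h

variable {P T X : Pair.{u}} (f : X ⟶ P) (g : T ⟶ P) {Y : Scheme.{u}}
  (π : Y ⟶ ModPair.mprod f.hom g.hom X.mod T.mod) (K : Y.IdealSheafData)

theorem isPullback_ambProd (hY : ModPair.IsAmbProd f.hom g.hom X.mod T.mod π K) (hK : IsEffCartierIdeal K)
    (hX : ModPair.IsAmbient K X.mod (π ≫ ModPair.mprodι f.hom g.hom X.mod T.mod ≫ pullback.fst f.hom g.hom))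
    (hT : ModPair.IsAmbient K T.mod (π ≫ ModPair.mprodι f.hom g.hom X.mod T.mod ≫ pullback.snd f.hom g.hom)) :
    IsPullback
      (L.map (Pair.Hom.mk (P := Pair.mk Y K hK) (Q := T)
          (π ≫ ModPair.mprodι f.hom g.hom X.mod T.mod ≫ pullback.snd f.hom g.hom) hT))
      (L.map (Pair.Hom.mk (P := Pair.mk Y K hK) (Q := X)
          (π ≫ ModPair.mprodι f.hom g.hom X.mod T.mod ≫ pullback.fst f.hom g.hom) hX))
      (L.map g) (L.map f) := by
  let pT : Pair.mk Y K hK ⟶ T :=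
    Pair.Hom.mk (π ≫ ModPair.mprodι f.hom g.hom X.mod T.mod ≫ pullback.snd f.hom g.hom) hT
  let pX : Pair.mk Y K hK ⟶ X :=
    Pair.Hom.mk (π ≫ ModPair.mprodι f.hom g.hom X.mod T.mod ≫ pullback.fst f.hom g.hom) hX
  show IsPullback (L.map pT) (L.map pX) (L.map g) (L.map f)
  have hw : pT ≫ g = pX ≫ f := Pair.Hom.ext (by
    show (_ ≫ _) ≫ g.hom = (_ ≫ _) ≫ f.hom
    simp only [Category.assoc, pullback.condition])
  have huniq : ∀ (Z : D) (m m' : Z ⟶ L.obj (Pair.mk Y K hK)),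
      m ≫ L.map pT = m' ≫ L.map pT → m ≫ L.map pX = m' ≫ L.map pX → m = m' := by
    intro Z m m' h₁ h₂
    have := Localization.essSurj L Pair.admBlowup.{u}
    let e := L.objObjPreimageIso Z
    rw [← cancel_epi e.hom]
    obtain ⟨P₁, r₁, c, d, hr₁, hc, hd⟩ := exists_fraction₂ L (e.hom ≫ m) (e.hom ≫ m')
    have k₁ : L.map (c ≫ pT) = L.map (d ≫ pT) := by
      rw [Functor.map_comp, Functor.map_comp, ← hc, ← hd]; simp only [Category.assoc, h₁]
    have k₂ : L.map (c ≫ pX) = L.map (d ≫ pX) := by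
      rw [Functor.map_comp, Functor.map_comp, ← hc, ← hd]; simp only [Category.assoc, h₂]
    obtain ⟨P₂, r₂, hr₂, l₁⟩ := exists_eq L k₁
    have k₃ : L.map (r₂ ≫ c ≫ pX) = L.map (r₂ ≫ d ≫ pX) := by
      rw [Functor.map_comp L r₂ (c ≫ pX), Functor.map_comp L r₂ (d ≫ pX), k₂]
    obtain ⟨P₃, r₃, hr₃, l₂⟩ := exists_eq L k₃
    have hcd : r₃ ≫ r₂ ≫ c = r₃ ≫ r₂ ≫ d := by
      refine Pair.Hom.ext (ambProd_hom_ext X.isEffCartier T.isEffCartier hY P₃.isEffCartier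
        (r₃ ≫ r₂ ≫ c).cond ?_ ?_)
      · exact congrArg Pair.Hom.hom (show (r₃ ≫ r₂ ≫ c) ≫ pX = (r₃ ≫ r₂ ≫ d) ≫ pX by
          simp only [Category.assoc]; exact l₂)
      · exact congrArg Pair.Hom.hom (show (r₃ ≫ r₂ ≫ c) ≫ pT = (r₃ ≫ r₂ ≫ d) ≫ pT by
          simp only [Category.assoc, l₁])
    refine cancel_map L hr₁ (cancel_map L hr₂ (cancel_map L hr₃ ?_))
    rw [hc, hd, ← Functor.map_comp, ← Functor.map_comp, ← Functor.map_comp, ← Functor.map_comp, hcd]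
  have hex : ∀ s : PullbackCone (L.map g) (L.map f), ∃ m : s.pt ⟶ L.obj (Pair.mk Y K hK),
      m ≫ L.map pT = s.fst ∧ m ≫ L.map pX = s.snd := by
    intro s
    have := Localization.essSurj L Pair.admBlowup.{u}
    let e := L.objObjPreimageIso s.pt
    obtain ⟨P₁, r₁, a, b, hr₁, ha, hb⟩ := exists_fraction₂ L (e.hom ≫ s.fst) (e.hom ≫ s.snd)
    have k : L.map (a ≫ g) = L.map (b ≫ f) := by
      rw [Functor.map_comp, Functor.map_comp, ← ha, ← hb]; simp only [Category.assoc, s.condition]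
    obtain ⟨P₂, r₂, hr₂, l⟩ := exists_eq L k
    have hA := isEffCartierIdeal_comap_of_ambient P₂.isEffCartier X.isEffCartier (r₂ ≫ b).cond
    have hB := isEffCartierIdeal_comap_of_ambient P₂.isEffCartier T.isEffCartier (r₂ ≫ a).cond
    obtain ⟨W', w, hw', hadm, hC⟩ := exists_refine P₂.isEffCartier hA hB (r₂ ≫ b).cond
    let P₃ : Pair.{u} := ⟨W', _, hw'⟩
    let r₃ : P₃ ⟶ P₂ := ⟨w, le_rfl⟩
    have hr₃ : Pair.admBlowup r₃ := hadm
    rw [← Scheme.IdealSheafData.comap_comp, ← Scheme.IdealSheafData.comap_comp] at hC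
    obtain ⟨c, hcK, hcX, hcT⟩ := ambProd_lift X.isEffCartier T.isEffCartier hY P₃.isEffCartier
      (r₃ ≫ r₂ ≫ b).hom (r₃ ≫ r₂ ≫ a).hom (r₃ ≫ r₂ ≫ b).cond (r₃ ≫ r₂ ≫ a).cond
      (congrArg Pair.Hom.hom (show (r₃ ≫ r₂ ≫ b) ≫ f = (r₃ ≫ r₂ ≫ a) ≫ g by
        simp only [Category.assoc, l])) hC
    let c' : P₃ ⟶ Pair.mk Y K hK := ⟨c, hcK⟩
    have eT : c' ≫ pT = r₃ ≫ r₂ ≫ a := Pair.Hom.ext hcT
    have eX : c' ≫ pX = r₃ ≫ r₂ ≫ b := Pair.Hom.ext hcX
    have hrr : Pair.admBlowup (r₃ ≫ r₂ ≫ r₁) :=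
      (Pair.admBlowup).comp_mem _ _ hr₃ ((Pair.admBlowup).comp_mem _ _ hr₂ hr₁)
    have := isIso_map L hrr
    refine ⟨e.inv ≫ inv (L.map (r₃ ≫ r₂ ≫ r₁)) ≫ L.map c', ?_, ?_⟩
    · rw [Category.assoc, Category.assoc, ← Functor.map_comp, eT, Iso.inv_comp_eq, IsIso.inv_comp_eq]
      simp only [Functor.map_comp, Category.assoc, ← ha]
    · rw [Category.assoc, Category.assoc, ← Functor.map_comp, eX, Iso.inv_comp_eq, IsIso.inv_comp_eq]
      simp only [Functor.map_comp, Category.assoc, ← hb]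
  choose m hm₁ hm₂ using hex
  exact ⟨⟨by rw [← Functor.map_comp, ← Functor.map_comp, hw]⟩,
    ⟨PullbackCone.IsLimit.mk _ m hm₁ hm₂ fun s m' h₁ h₂ =>
      huniq _ m' (m s) (h₁.trans (hm₁ s).symm) (h₂.trans (hm₂ s).symm)⟩⟩

/-- The final modulus pair. -/
noncomputable def finalPair : Pair.{u} :=
  ⟨⊤_ Scheme.{u}, ⊤, Divisors.isEffCartierIdeal_top⟩

include L in
theorem hasTerminal : HasTerminal D := by
  have := Localization.essSurj L Pair.admBlowup.{u}
  have hex : ∀ Z : D, Nonempty (Unique (Z ⟶ L.obj finalPair.{u})) := by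
    intro Z
    let e := L.objObjPreimageIso Z
    let t : L.objPreimage Z ⟶ finalPair.{u} :=
      ⟨terminal.from _, by show _ ≤ _; rw [show finalPair.{u}.mod = ⊤ from rfl, Scheme.IdealSheafData.comap_top]; exact le_top⟩
    refine ⟨⟨⟨e.inv ≫ L.map t⟩, fun m => ?_⟩⟩
    rw [← cancel_epi e.hom]
    obtain ⟨P₁, r, c, d, hr, hc, hd⟩ := exists_fraction₂ L (e.hom ≫ m) (e.hom ≫ e.inv ≫ L.map t)
    refine cancel_map L hr ?_
    rw [hc]
    refine Eq.trans ?_ hd.symm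
    exact congrArg L.map (Pair.Hom.ext (terminal.hom_ext _ _))
  have := fun Z => (hex Z).some
  exact hasTerminal_of_unique (L.obj finalPair.{u})

theorem hasPullback_map {P T X : Pair.{u}} (f : X ⟶ P) (g : T ⟶ P) : HasPullback (L.map g) (L.map f) := by
  obtain ⟨Y, π, K, hY⟩ := exists_ambProd f.hom g.hom X.isEffCartier T.isEffCartier
  obtain ⟨hK, hX, hT, -⟩ := ambProd_props X.isEffCartier T.isEffCartier hY
  exact (isPullback_ambProd L f g π K hY hK hX hT).hasPullback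

include L in
theorem hasPullback {Z A B : D} (a : A ⟶ Z) (b : B ⟶ Z) : HasPullback a b := by
  have := Localization.essSurj L Pair.admBlowup.{u}
  let eZ := L.objObjPreimageIso Z
  let eA := L.objObjPreimageIso A
  let eB := L.objObjPreimageIso B
  obtain ⟨A', r, g, hr, hg⟩ := exists_fraction L (eA.hom ≫ a ≫ eZ.inv)
  obtain ⟨B', t, f, ht, hf⟩ := exists_fraction L (eB.hom ≫ b ≫ eZ.inv)
  have := isIso_map L hr
  have := isIso_map L ht
  have := hasPullback_map L f g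
  have H := IsPullback.of_hasPullback (L.map g) (L.map f)
  refine (H.of_iso (Iso.refl _) (asIso (L.map r) ≪≫ eA) (asIso (L.map t) ≪≫ eB) eZ (fst' := pullback.fst (L.map g) (L.map f) ≫ L.map r ≫ eA.hom)
    (snd' := pullback.snd (L.map g) (L.map f) ≫ L.map t ≫ eB.hom) (f' := a) (g' := b) ?_ ?_ ?_ ?_).hasPullback
  · simp
  · simp
  · simp [← hg]
  · simp [← hf]

include L in
theorem hasFiniteLimits : HasFiniteLimits D := by
  have := hasTerminal L
  have : HasPullbacks D :=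
    have : ∀ {X Y Z : D} {f : X ⟶ Z} {g : Y ⟶ Z}, HasLimit (cospan f g) := fun {_ _ _ f g} => hasPullback L f g
    hasPullbacks_of_hasLimit_cospan D
  exact hasFiniteLimits_of_hasTerminal_and_pullbacks

end Groth.ModPairs
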