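import Groth.Agent.ModPairs.Approx
import Groth.Agent.ModPairs.Limit
import Groth.Agent.ModPairs.Divisor

/-!
Descent of locally principal ideal sheaves along affine limits.
-/

set_option autoImplicit false
set_option backward.isDefEq.respectTransparency false

universe u

open CategoryTheory CategoryTheory.Limits AlgebraicGeometry TopologicalSpace

namespace Groth.ModPairs.LocGenDescend

variable {I : Type u} [SmallCategory I] [IsCofiltered I] (D : I ⥤ Scheme.{u}) (c : Cone D)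
  (hc : IsLimit c) [∀ {i j : I} (t : i ⟶ j), IsAffineHom (D.map t)]

omit [IsCofiltered I] [∀ {i j : I} (t : i ⟶ j), IsAffineHom (D.map t)] in
theorem appLE_π {i k : I} (a : k ⟶ i) {W : (D.obj i).Opens} {O : (D.obj k).Opens}
    (e : O ≤ D.map a ⁻¹ᵁ W) {U : c.pt.Opens} (e' : U ≤ c.π.app k ⁻¹ᵁ O) (e'' : U ≤ c.π.app i ⁻¹ᵁ W)
    (s : Γ(D.obj i, W)) :
    (c.π.app k).appLE O U e' ((D.map a).appLE W O e s) = (c.π.app i).appLE W U e'' s := by
  rw [← ConcreteCategory.comp_apply, Scheme.Hom.appLE_comp_appLE]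
  congr 2
  simp only [c.w]

omit [IsCofiltered I] [∀ {i j : I} (t : i ⟶ j), IsAffineHom (D.map t)] in
theorem pre_π {i k : I} (a : k ⟶ i) (W : (D.obj i).Opens) :
    c.π.app k ⁻¹ᵁ (D.map a ⁻¹ᵁ W) = c.π.app i ⁻¹ᵁ W := by
  rw [← Scheme.Hom.comp_preimage, c.w]

include hc in
/-- A divisibility of sections at the limit holds at a finite stage. -/
theorem exists_mem_span_stage {i : I} (W : (D.obj i).affineOpens) (g h : Γ(D.obj i, W.1))
    (hm : (c.π.app i).app W.1 g ∈ Ideal.span {(c.π.app i).app W.1 h}) :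
    ∃ (j : I) (a : j ⟶ i), (D.map a).app W.1 g ∈ Ideal.span {(D.map a).app W.1 h} := by
  obtain ⟨t, ht⟩ := Ideal.mem_span_singleton.1 hm
  obtain ⟨k, a, e, z, rfl⟩ := exists_section D c hc W.1 W.2 t
  have key : ∀ (U : c.pt.Opens) (_ : U = c.π.app i ⁻¹ᵁ W.1)
      (e' : U ≤ c.π.app k ⁻¹ᵁ (D.map a ⁻¹ᵁ W.1)),
      (c.π.app k).appLE _ U e' ((D.map a).app W.1 g) =
        (c.π.app k).appLE _ U e' ((D.map a).app W.1 h * z) := by
    rintro _ rfl e'
    rw [map_mul, Scheme.Hom.app_eq_appLE, appLE_π D c a le_rfl e' le_rfl g,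
      appLE_π D c a le_rfl e' le_rfl h, ← Scheme.Hom.app_eq_appLE]
    exact ht
  have h0' : (c.π.app k).app _ ((D.map a).app W.1 g) =
      (c.π.app k).app _ ((D.map a).app W.1 h * z) := by
    rw [Scheme.Hom.app_eq_appLE (c.π.app k)]
    exact key _ (pre_π D c a W.1) _
  obtain ⟨j, b, hj⟩ := exists_app_map_eq_map_of_isLimit D c hc
    ((W.2.preimage (D.map a)).isCompact) _ _ h0'
  refine ⟨j, b ≫ a, ?_⟩
  have hcomp : ∀ x, (D.map (b ≫ a)).app W.1 x =
      (D.obj j).presheaf.map (eqToHom (by rw [D.map_comp]; rfl)).op ((D.map b).app _ ((D.map a).app W.1 x)) :=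
    fun x => by
      rw [Scheme.Hom.congr_app (D.map_comp b a)]
      rfl
  rw [hcomp, hcomp, hj, map_mul, map_mul]
  exact Ideal.mul_mem_right _ _ (Ideal.mem_span_singleton_self _)

/-- `K` has a generator coming from the stage `k` over the affine open `W`. -/
def GenAt (K : c.pt.IdealSheafData) (k : I) (W : (D.obj k).affineOpens) : Prop :=
  ∃ g : Γ(D.obj k, W.1), ∀ (U : c.pt.affineOpens) (e : U.1 = c.π.app k ⁻¹ᵁ W.1),
    K.ideal U = Ideal.span {(c.π.app k).appLE W.1 U.1 e.le g}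

omit [IsCofiltered I] in
theorem GenAt.pre {K : c.pt.IdealSheafData} {k : I} {W : (D.obj k).affineOpens} (h : GenAt D c K k W)
    {l : I} (b : l ⟶ k) : GenAt D c K l (pre D b W) := by
  obtain ⟨g, hg⟩ := h
  refine ⟨(D.map b).appLE W.1 _ le_rfl g, fun U e => ?_⟩
  rw [hg U (e.trans (pre_π D c b W.1))]
  exact congrArg (fun v => Ideal.span {v}) (appLE_π D c b le_rfl e.le (e.trans (pre_π D c b W.1)).le g).symm

include hc in
/-- A locally principal ideal on the limit has generators coming from an affine cover of a stage. -/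
theorem exists_genAt_cover [∀ i, CompactSpace (D.obj i)] [∀ i, QuasiSeparatedSpace (D.obj i)]
    {K : c.pt.IdealSheafData} (hK : LocGen K) :
    ∃ (l : I) (s : Finset (D.obj l).affineOpens),
      (∀ y : D.obj l, ∃ W ∈ s, y ∈ W.1) ∧ ∀ W ∈ s, GenAt D c K l W := by
  classical
  have : CompactSpace c.pt := Scheme.compactSpace_of_isLimit D c hc
  choose W hxW _ g hg using fun x : c.pt => hK x ⊤ trivial
  obtain ⟨s, hs⟩ := isCompact_univ.elim_finite_subcover (fun x => ((W x).1 : Set c.pt))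
    (fun x => (W x).1.isOpen) (fun x _ => Set.mem_iUnion.mpr ⟨x, hxW x⟩)
  have hcov : IsOpenCover fun x : s => (W x.1).1 :=
    top_le_iff.1 fun y _ => by
      obtain ⟨x, hxs, hx⟩ := Set.mem_iUnion₂.mp (hs (Set.mem_univ y))
      exact Opens.mem_iSup.2 ⟨⟨x, hxs⟩, hx⟩
  obtain ⟨i, V, hV, hVW⟩ := Scheme.exists_isOpenCover_and_isAffine_of_finite D c hc _ hcov
    fun x : s => (W x.1).2
  have hloc : ∀ x : s, ∃ (k : I) (a : k ⟶ i), GenAt D c K k (Groth.ModPairs.pre D a ⟨V x, (hVW x).1⟩) := by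
    intro x
    obtain ⟨k, a, e, z, hz⟩ := exists_section D c hc (V x) (hVW x).1
      (c.pt.presheaf.map (eqToHom (hVW x).2.symm).op (g x.1))
    refine ⟨k, a, z, fun U eU => ?_⟩
    obtain ⟨U, hU⟩ := U
    obtain rfl : U = c.π.app i ⁻¹ᵁ V x := eU.trans (pre_π D c a _)
    rw [hz, ← K.map_ideal (U := ⟨_, hU⟩) (V := W x.1) (hVW x).2.ge, hg, Ideal.map_span, Set.image_singleton]
    rfl
  choose k a hgen using hloc
  obtain ⟨l, t, ht⟩ := exists_common (Finset.univ : Finset s) k a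
  choose b hb using fun x : s => ht x (Finset.mem_univ x)
  refine ⟨l, Finset.univ.image fun x : s => Groth.ModPairs.pre D (b x) (Groth.ModPairs.pre D (a x) ⟨V x, (hVW x).1⟩),
    fun y => ?_, fun U hU => ?_⟩
  · obtain ⟨x, hx⟩ : ∃ x, D.map t y ∈ V x := by
      have : D.map t y ∈ iSup V := hV.symm ▸ trivial
      exact Opens.mem_iSup.1 this
    refine ⟨_, Finset.mem_image_of_mem _ (Finset.mem_univ x), ?_⟩
    show D.map (a x) (D.map (b x) y) ∈ V x
    rw [← Scheme.Hom.comp_apply, ← D.map_comp, hb x]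
    exact hx
  · obtain ⟨x, -, rfl⟩ := Finset.mem_image.1 hU
    exact (hgen x).pre D c (b x)

include hc in
/-- A locally principal ideal sheaf on the limit comes from one at a finite stage. -/
theorem exists_locGen_descend [∀ i, CompactSpace (D.obj i)] [∀ i, QuasiSeparatedSpace (D.obj i)]
    {K₀ : c.pt.IdealSheafData} (hK₀ : LocGen K₀) :
    ∃ (i : I) (J : (D.obj i).IdealSheafData), LocGen J ∧ J.comap (c.π.app i) = K₀ := by
  classical
  obtain ⟨l, s, hcov, hgen⟩ := exists_genAt_cover D c hc hK₀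
  choose g hg using fun W : s => hgen W.1 W.2
  have := isAffineHom_π_app D c hc l
  let p := c.π.app l
  have hgs : ∀ W : s, K₀.ideal ⟨p ⁻¹ᵁ W.1.1, W.1.2.preimage p⟩ = Ideal.span {p.app W.1.1 (g W)} :=
    fun W => by rw [hg W _ rfl, Scheme.Hom.app_eq_appLE]
  have hmem : ∀ W : s, g W ∈ (K₀.map p).ideal W.1 := fun W => by
    rw [Scheme.IdealSheafData.ideal_map (H := W.1.2.preimage p), Ideal.mem_comap, hgs W]
    exact Ideal.mem_span_singleton_self _
  obtain ⟨K, hle, hfg, hK⟩ : ∃ K ≤ K₀.map p, (∀ V ∈ s, (K.ideal V).FG) ∧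
      ∀ W ∈ (Finset.univ : Finset s), g W ∈ K.ideal W.1 := by
    refine Finset.induction_on (motive := fun t => ∃ K ≤ K₀.map p, (∀ V ∈ s, (K.ideal V).FG) ∧
      ∀ W ∈ t, g W ∈ K.ideal W.1) _ ⟨⊥, bot_le, fun V _ => by
        rw [Scheme.IdealSheafData.ideal_bot]; exact Submodule.fg_bot, by simp⟩ fun W t _ ih => ?_
    obtain ⟨K, hle, hfg, hK⟩ := ih
    obtain ⟨K', hle', hmem', hfg'⟩ := FlatMor2.exists_le_fg (K₀.map p) W.1 (g W) (hmem W) s
    refine ⟨K ⊔ K', sup_le hle hle', fun U hU => ?_, fun U hU => ?_⟩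
    · rw [Scheme.IdealSheafData.ideal_sup, Pi.sup_apply]
      exact Submodule.FG.sup (hfg U hU) (hfg' U hU)
    · rw [Scheme.IdealSheafData.ideal_sup, Pi.sup_apply]
      rcases Finset.mem_insert.mp hU with rfl | hU
      · exact Ideal.mem_sup_right hmem'
      · exact Ideal.mem_sup_left (hK U hU)
  have hcomap : K.comap p = K₀ := by
    refine le_antisymm (Scheme.IdealSheafData.le_map_iff_comap_le.mp hle) (le_of_cover fun x => ?_)
    obtain ⟨V, hV, hxV⟩ := hcov (p x)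
    refine ⟨⟨p ⁻¹ᵁ V.1, V.2.preimage p⟩, hxV, ?_⟩
    rw [Divisors.ideal_comap_affine K p V ⟨p ⁻¹ᵁ V.1, V.2.preimage p⟩ le_rfl, hgs ⟨V, hV⟩,
      ← Scheme.Hom.app_eq_appLE, Ideal.span_singleton_le_iff_mem]
    exact Ideal.mem_map_of_mem _ (hK ⟨V, hV⟩ (Finset.mem_univ _))
  have hG : ∀ W : s, ∃ G : Finset Γ(D.obj l, W.1.1), Ideal.span (G : Set _) = K.ideal W.1 :=
    fun W => hfg W.1 W.2
  choose G hG using hG
  have hstep : ∀ m : Σ W : s, {h // h ∈ G W}, ∃ (j : I) (a : j ⟶ l),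
      (D.map a).app m.1.1.1 m.2.1 ∈ Ideal.span {(D.map a).app m.1.1.1 (g m.1)} := fun m => by
    refine exists_mem_span_stage D c hc m.1.1 _ _ ?_
    rw [← hgs m.1, ← hcomap, Divisors.ideal_comap_affine K p m.1.1
      ⟨p ⁻¹ᵁ m.1.1.1, m.1.1.2.preimage _⟩ le_rfl, ← Scheme.Hom.app_eq_appLE]
    exact Ideal.mem_map_of_mem _ (hG m.1 ▸ Ideal.subset_span m.2.2)
  choose j a hz using hstep
  obtain ⟨i, t, ht⟩ := exists_common (Finset.univ : Finset (Σ W : s, {h // h ∈ G W})) j a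
  refine ⟨i, K.comap (D.map t), locGen_of_cover fun y => ?_, ?_⟩
  · obtain ⟨W, hW, hy⟩ := hcov (D.map t y)
    refine ⟨Groth.ModPairs.pre D t W, hy, (D.map t).app W.1 (g ⟨W, hW⟩), ?_⟩
    rw [Divisors.ideal_comap_affine K (D.map t) W (Groth.ModPairs.pre D t W) le_rfl,
      ← Scheme.Hom.app_eq_appLE]
    refine le_antisymm ?_ ?_
    · rw [← hG ⟨W, hW⟩, Ideal.map_span, Ideal.span_le]
      rintro _ ⟨h, hh, rfl⟩
      obtain ⟨b, hb⟩ := ht ⟨⟨W, hW⟩, ⟨h, hh⟩⟩ (Finset.mem_univ _)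
      subst hb
      obtain ⟨r, hr⟩ := Ideal.mem_span_singleton.1 (hz ⟨⟨W, hW⟩, ⟨h, hh⟩⟩)
      rw [Scheme.Hom.congr_app (D.map_comp _ _), Scheme.Hom.comp_app]
      simp only [CommRingCat.comp_apply, SetLike.mem_coe, Ideal.mem_span_singleton]
      rw [hr]
      simp only [map_mul]
      exact dvd_mul_right _ _
    · rw [Ideal.span_singleton_le_iff_mem]
      exact Ideal.mem_map_of_mem _ (hK ⟨W, hW⟩ (Finset.mem_univ _))
  · rw [← Scheme.IdealSheafData.comap_comp, c.w, hcomap]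

end Groth.ModPairs.LocGenDescend
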