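import Groth.Agent.ModPairs.Basic
import Groth.Agent.RaynaudGruson.ContentBlowUpScheme
import Groth.Agent.BlowUpBasics.Global
import Groth.Agent.HTopHyper.BlowUpProper
import Groth.Agent.Divisors.BlowUpBasic
import Mathlib.AlgebraicGeometry.ValuativeCriterion

/-!
# Modulus pairs local for admissible blow-ups and Zariski coverings (helper92)
-/

set_option autoImplicit false
set_option linter.style.haveILetI false
universe u

open CategoryTheory AlgebraicGeometry TopologicalSpace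

namespace Groth.ModPairs

open _root_.ModPair (Pair)

/-- An affine scheme all of whose points specialise to one point has a local ring of global sections. -/
theorem isLocalRing_of_forall_specializes {Z : Scheme.{u}} [IsAffine Z] (z : Z) (hz : ∀ w : Z, w ⤳ z) :
    IsLocalRing Γ(Z, ⊤) := by
  let e : Spec Γ(Z, ⊤) ⟶ Z := Z.isoSpec.inv
  obtain ⟨m, hm⟩ := e.surjective z
  have hall : ∀ v : PrimeSpectrum Γ(Z, ⊤), v.asIdeal ≤ m.asIdeal := fun v => by
    refine (PrimeSpectrum.le_iff_specializes v m).mpr ?_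
    refine e.isOpenEmbedding.isEmbedding.isInducing.specializes_iff.mp ?_
    show e v ⤳ e m
    rw [hm]; exact hz _
  haveI : Nontrivial Γ(Z, ⊤) := PrimeSpectrum.nontrivial m
  obtain ⟨M, hM⟩ := Ideal.exists_maximal Γ(Z, ⊤)
  have hMm : M = m.asIdeal := hM.eq_of_le m.2.ne_top (hall ⟨M, hM.isPrime⟩)
  exact IsLocalRing.of_unique_max_ideal ⟨M, hM, fun N hN =>
    (hN.eq_of_le m.2.ne_top (hall ⟨N, hN.isPrime⟩)).trans hMm.symm⟩

/-- All points of an affine scheme with local ring of sections specialise to one point. -/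
theorem exists_forall_specializes {Z : Scheme.{u}} [IsAffine Z] [IsLocalRing Γ(Z, ⊤)] :
    ∃ z : Z, ∀ w : Z, w ⤳ z := by
  let e : Spec Γ(Z, ⊤) ⟶ Z := Z.isoSpec.inv
  refine ⟨e (IsLocalRing.closedPoint Γ(Z, ⊤)), fun w => ?_⟩
  obtain ⟨v, rfl⟩ := e.surjective w
  exact (IsLocalRing.specializes_closedPoint v).map e.continuous

theorem toSpecΓ_isoSpec_inv_apply {Z : Scheme.{u}} [IsAffine Z] (v : PrimeSpectrum Γ(Z, ⊤)) :
    Z.toSpecΓ (Z.isoSpec.inv v) = v := by
  rw [← Scheme.Hom.comp_apply, Scheme.isoSpec_inv_toSpecΓ]; rfl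

theorem isoSpec_inv_toSpecΓ_apply {Z : Scheme.{u}} [IsAffine Z] (z : Z) :
    Z.isoSpec.inv (Z.toSpecΓ z) = z := by
  rw [← Scheme.Hom.comp_apply, Scheme.toSpecΓ_isoSpec_inv]; rfl

/-- Every open containing the closed point of a local scheme is everything. -/
theorem eq_top_of_mem {Z : Scheme.{u}} {z : Z} (hz : ∀ w : Z, w ⤳ z) {U : Z.Opens} (h : z ∈ U) : U = ⊤ :=
  top_le_iff.mp fun w _ => (hz w).mem_open U.2 h

set_option maxHeartbeats 1000000 in
/-- **Valuation rings glued to the interior lift along admissible blow-ups.** -/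
theorem exists_lift_admBlowup (P : Pair.{u}) [IsAffine P.total] [IsLocalRing Γ(P.total, ⊤)] (x : P.total)
    (hx : x ∈ _root_.ModPair.interior P.mod)
    (hV : ValuationRing (Γ(P.total, ⊤) ⧸ (P.total.toSpecΓ x).asIdeal))
    (hB : Set.BijOn (algebraMap Γ(P.total, ⊤) (Localization.AtPrime (P.total.toSpecΓ x).asIdeal))
      ((P.total.toSpecΓ x).asIdeal : Set Γ(P.total, ⊤))
      (IsLocalRing.maximalIdeal (Localization.AtPrime (P.total.toSpecΓ x).asIdeal) :
        Set (Localization.AtPrime (P.total.toSpecΓ x).asIdeal)))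
    {Q X : Pair.{u}} (q : Q ⟶ X) (hq : Pair.admBlowup q) (g : P ⟶ X) :
    ∃ h : P ⟶ Q, h ≫ q = g := by
  obtain ⟨hmin, hproper, hiso⟩ := hq
  haveI : IsProper q.hom := hproper
  let U := _root_.ModPair.interior X.mod
  haveI : IsIso (q.hom ∣_ U) := hiso
  let A : Type u := Γ(P.total, ⊤)
  let 𝔮 : Ideal A := (P.total.toSpecΓ x).asIdeal
  haveI : 𝔮.IsPrime := (P.total.toSpecΓ x).2
  haveI : ValuationRing (A ⧸ 𝔮) := hV
  let Aq : Type u := Localization.AtPrime 𝔮
  have hinj : Function.Injective (algebraMap A Aq) := by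
    refine (injective_iff_map_eq_zero _).mpr fun z hz => ?_
    have hzq : z ∈ 𝔮 := by
      by_contra hzn
      exact (IsLocalization.map_units Aq (⟨z, hzn⟩ : 𝔮.primeCompl)).ne_zero hz
    exact hB.injOn hzq 𝔮.zero_mem (hz.trans (map_zero _).symm)
  let G : Spec (.of A) ⟶ X.total := P.total.isoSpec.inv ≫ g.hom
  let j : Spec (.of Aq) ⟶ Spec (.of A) := Spec.map (CommRingCat.ofHom (algebraMap A Aq))
  have hjU : Set.range (j ≫ G) ⊆ Set.range U.ι := by
    rw [Scheme.Opens.range_ι]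
    rintro _ ⟨z, rfl⟩
    have hle : (j z).asIdeal ≤ 𝔮 := by
      intro t ht
      by_contra htn
      exact (show (z : PrimeSpectrum Aq).asIdeal.IsPrime from z.2).ne_top
        (Ideal.eq_top_of_isUnit_mem _ ht (IsLocalization.map_units Aq (⟨t, htn⟩ : 𝔮.primeCompl)))
    have hsp : P.total.isoSpec.inv (j z) ⤳ x := by
      conv_rhs => rw [← isoSpec_inv_toSpecΓ_apply x]
      exact ((PrimeSpectrum.le_iff_specializes _ _).mp hle).map P.total.isoSpec.inv.continuous
    exact interior_le_of_isAmbient g.cond (hsp.mem_open (_root_.ModPair.interior P.mod).2 hx)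
  let g' : Spec (.of Aq) ⟶ Q.total :=
    IsOpenImmersion.lift U.ι (j ≫ G) hjU ≫ inv (q.hom ∣_ U) ≫ (q.hom ⁻¹ᵁ U).ι
  have hg' : g' ≫ q.hom = j ≫ G := by
    simp only [g', Category.assoc]
    rw [← morphismRestrict_ι, IsIso.inv_hom_id_assoc, IsOpenImmersion.lift_fac]
  -- the valuative criterion
  let K : Type u := 𝔮.ResidueField
  let rA : Spec (.of K) ⟶ Spec (.of Aq) := Spec.map (CommRingCat.ofHom (algebraMap Aq K))
  let mkq : Spec (.of (A ⧸ 𝔮)) ⟶ Spec (.of A) := Spec.map (CommRingCat.ofHom (Ideal.Quotient.mk 𝔮))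
  have hsq : rA ≫ j = Spec.map (CommRingCat.ofHom (algebraMap (A ⧸ 𝔮) K)) ≫ mkq := by
    simp only [rA, j, mkq, ← Spec.map_comp]
    congr 1
  let sq : ValuativeCommSq q.hom :=
    { R := A ⧸ 𝔮
      K := K
      i₁ := rA ≫ g'
      i₂ := mkq ≫ G
      commSq := ⟨by rw [Category.assoc, hg', ← Category.assoc, hsq, Category.assoc]⟩ }
  haveI : sq.commSq.HasLift := by
    have h : ValuativeCriterion q.hom := by
      have hp : IsProper q.hom := hproper
      rw [IsProper.eq_valuativeCriterion] at hp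
      exact hp.1.1.1
    exact h.existence sq
  let l : Spec (.of (A ⧸ 𝔮)) ⟶ Q.total := sq.commSq.lift
  have hl₁ : Spec.map (CommRingCat.ofHom (algebraMap (A ⧸ 𝔮) K)) ≫ l = rA ≫ g' := sq.commSq.fac_left
  have hl₂ : l ≫ q.hom = mkq ≫ G := sq.commSq.fac_right
  let y := l (IsLocalRing.closedPoint (A ⧸ 𝔮))
  obtain ⟨WX, hWX, hyX, -⟩ := exists_isAffineOpen_mem_and_subset (U := (⊤ : X.total.Opens)) (x := q.hom y) trivial
  obtain ⟨W, hW, hyW, hWle⟩ := exists_isAffineOpen_mem_and_subset (U := q.hom ⁻¹ᵁ WX) (x := y) hyX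
  have hlW : Set.range l ⊆ Set.range hW.fromSpec := by
    rw [hW.range_fromSpec]
    rintro _ ⟨v, rfl⟩
    exact ((IsLocalRing.specializes_closedPoint v).map l.continuous).mem_open W.2 hyW
  have hgW : Set.range g' ⊆ Set.range hW.fromSpec := by
    rw [hW.range_fromSpec]
    rintro _ ⟨v, rfl⟩
    let o : Spec (.of K) := IsLocalRing.closedPoint K
    haveI : IsLocalHom (algebraMap Aq K) := IsLocalHom.of_surjective _ IsLocalRing.residue_surjective
    have ho : rA o = IsLocalRing.closedPoint Aq :=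
      IsLocalRing.comap_closedPoint (algebraMap Aq K)
    have h1 : g' (IsLocalRing.closedPoint Aq) ∈ W := by
      rw [← ho, ← Scheme.Hom.comp_apply, ← hl₁, Scheme.Hom.comp_apply]
      exact hlW.trans hW.range_fromSpec.subset ⟨_, rfl⟩
    exact ((IsLocalRing.specializes_closedPoint (R := Aq) v).map g'.continuous).mem_open W.2 h1
  obtain ⟨β₁, hβ₁⟩ := Spec.map_surjective (IsOpenImmersion.lift hW.fromSpec g' hgW)
  obtain ⟨β₂, hβ₂⟩ := Spec.map_surjective (IsOpenImmersion.lift hW.fromSpec l hlW)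
  have hagree : β₁ ≫ CommRingCat.ofHom (algebraMap Aq K) =
      β₂ ≫ CommRingCat.ofHom (algebraMap (A ⧸ 𝔮) K) := by
    apply Spec.map_injective
    rw [Spec.map_comp, Spec.map_comp, hβ₁, hβ₂, ← cancel_mono hW.fromSpec, Category.assoc, Category.assoc,
      IsOpenImmersion.lift_fac, IsOpenImmersion.lift_fac, hl₁]
  have hrange : ∀ b, ∃ a : A, algebraMap A Aq a = β₁.hom b := by
    intro b
    obtain ⟨v, hv⟩ := Ideal.Quotient.mk_surjective (β₂.hom b)
    have h0 : β₁.hom b - algebraMap A Aq v ∈ IsLocalRing.maximalIdeal Aq := by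
      rw [← IsLocalRing.residue_eq_zero_iff, map_sub, sub_eq_zero]
      refine (DFunLike.congr_fun (congrArg CommRingCat.Hom.hom hagree) b).trans ?_
      show algebraMap (A ⧸ 𝔮) K (β₂.hom b) = _
      rw [← hv]
      rfl
    obtain ⟨a, -, ha⟩ := hB.surjOn h0
    exact ⟨v + a, by rw [map_add, ha, add_sub_cancel]⟩
  choose β hβ using hrange
  let βh : Γ(Q.total, W) →+* A :=
    { toFun := β
      map_one' := hinj (by rw [hβ, map_one, map_one])
      map_mul' := fun a b => hinj (by rw [map_mul, hβ, hβ, hβ, map_mul])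
      map_zero' := hinj (by rw [hβ, map_zero, map_zero])
      map_add' := fun a b => hinj (by rw [map_add, hβ, hβ, hβ, map_add]) }
  let h₀ : Spec (.of A) ⟶ Q.total := Spec.map (CommRingCat.ofHom βh) ≫ hW.fromSpec
  have hjh : j ≫ h₀ = g' := by
    rw [← IsOpenImmersion.lift_fac hW.fromSpec g' hgW, ← hβ₁]
    simp only [j, h₀, ← Spec.map_comp_assoc]
    congr 2
    ext b
    exact hβ b
  -- compare on an affine neighbourhood in `X`
  have hGW : Set.range G ⊆ Set.range hWX.fromSpec := by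
    rw [hWX.range_fromSpec]
    rintro _ ⟨v, rfl⟩
    have hc : mkq (IsLocalRing.closedPoint (A ⧸ 𝔮)) = IsLocalRing.closedPoint A :=
      haveI := IsLocalHom.of_surjective (Ideal.Quotient.mk 𝔮) Ideal.Quotient.mk_surjective
      IsLocalRing.comap_closedPoint (Ideal.Quotient.mk 𝔮)
    have h1 : G (IsLocalRing.closedPoint A) ∈ WX := by
      rw [← hc, ← Scheme.Hom.comp_apply, ← hl₂, Scheme.Hom.comp_apply]
      exact hyX
    exact ((IsLocalRing.specializes_closedPoint (R := A) v).map G.continuous).mem_open WX.2 h1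
  have hhW : Set.range (h₀ ≫ q.hom) ⊆ Set.range hWX.fromSpec := by
    rw [hWX.range_fromSpec]
    rintro _ ⟨v, rfl⟩
    have h1 : h₀ v ∈ W := by
      rw [← SetLike.mem_coe, ← hW.range_fromSpec]
      exact ⟨_, (Scheme.Hom.comp_apply (Spec.map (CommRingCat.ofHom βh)) hW.fromSpec v).symm⟩
    exact hWle h1
  have heq : h₀ ≫ q.hom = G := by
    obtain ⟨γ₁, hγ₁⟩ := Spec.map_surjective (IsOpenImmersion.lift hWX.fromSpec G hGW)
    obtain ⟨γ₂, hγ₂⟩ := Spec.map_surjective (IsOpenImmersion.lift hWX.fromSpec (h₀ ≫ q.hom) hhW)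
    have h2 : γ₂ ≫ CommRingCat.ofHom (algebraMap A Aq) = γ₁ ≫ CommRingCat.ofHom (algebraMap A Aq) := by
      apply Spec.map_injective
      rw [Spec.map_comp, Spec.map_comp, hγ₁, hγ₂, ← cancel_mono hWX.fromSpec]
      simp only [Category.assoc, IsOpenImmersion.lift_fac]
      show j ≫ h₀ ≫ q.hom = j ≫ G
      rw [← Category.assoc, hjh, hg']
    have h3 : γ₂ = γ₁ := by
      ext c
      exact hinj (DFunLike.congr_fun (congrArg CommRingCat.Hom.hom h2) c)
    rw [← IsOpenImmersion.lift_fac hWX.fromSpec (h₀ ≫ q.hom) hhW, ← hγ₂, h3, hγ₁, IsOpenImmersion.lift_fac]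
  let h : P.total ⟶ Q.total := P.total.isoSpec.hom ≫ h₀
  have hh : h ≫ q.hom = g.hom := by
    simp only [h, Category.assoc, heq, G, Iso.hom_inv_id_assoc]
  refine ⟨⟨h, ?_⟩, Pair.Hom.ext hh⟩
  show P.mod ≤ Q.mod.comap h
  rw [show Q.mod = X.mod.comap q.hom from hmin, ← Scheme.IdealSheafData.comap_comp, hh]
  exact g.cond

/-- The pair given by an open subscheme. -/
noncomputable def Pair.restrict (P : Pair.{u}) (U : P.total.Opens) : Pair.{u} :=
  ⟨U, P.mod.comap U.ι, Groth.Divisors.isEffCartierIdeal_comap_flat P.isEffCartier U.ι⟩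

/-- Lifting along admissible blow-ups makes admissible ideals principal: a divisibility dichotomy. -/
theorem dvd_or_dvd_of_lift (P : Pair.{u}) [IsAffine P.total] [IsLocalRing Γ(P.total, ⊤)]
    (hlift : ∀ (Q X : Pair.{u}) (q : Q ⟶ X), Pair.admBlowup q → ∀ g : P ⟶ X, ∃ h : P ⟶ Q, h ≫ q = g)
    {τ : Γ(P.total, ⊤)} (hτ : τ ∈ nonZeroDivisors Γ(P.total, ⊤))
    (hI : P.mod.ideal ⟨⊤, isAffineOpen_top P.total⟩ = Ideal.span {τ})
    (x y : Γ(P.total, ⊤)) (hxy : τ ∈ (Ideal.span {x, y}).radical) : x ∣ y ∨ y ∣ x := by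
  obtain ⟨c, hc⟩ := exists_forall_specializes (Z := P.total)
  let T : P.total.affineOpens := ⟨⊤, isAffineOpen_top P.total⟩
  let U := _root_.ModPair.interior P.mod
  haveI := isAffineHom_interior P.isEffCartier
  have hUc : IsCompact (U : Set P.total) := by
    exact (isCompact_iff_compactSpace (s := (U : Set P.total))).mpr
      (QuasiCompact.compactSpace_of_compactSpace U.ι)
  obtain ⟨𝓘, hadm, h𝓘⟩ := Groth.RaynaudGruson.ContentBlowUp.exists_admissible hUc T (Ideal.span {x, y})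
    (Submodule.fg_span ((Set.finite_singleton _).insert _)) fun z _ hzU => by
      by_contra hcon
      push Not at hcon
      refine hzU ?_
      show z ∈ P.mod.support
      rw [Scheme.IdealSheafData.mem_support_iff_of_mem (U := T) (Set.mem_univ _), Scheme.mem_zeroLocus_iff]
      intro t ht htz
      rw [SetLike.mem_coe, hI] at ht
      obtain ⟨d, rfl⟩ := Ideal.mem_span_singleton'.mp ht
      obtain ⟨n, hn⟩ := hxy
      refine hcon ((d * τ) ^ (n + 1)) ?_ ?_
      · rw [mul_pow, pow_succ τ, ← mul_assoc]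
        exact Ideal.mul_mem_right _ _ (Ideal.mul_mem_left _ _ hn)
      · rwa [P.total.basicOpen_pow _ (Nat.succ_pos n)]
  obtain ⟨Y, b, hb⟩ := Groth.BlowUpBasics.exists_isBlowUp P.total 𝓘
  haveI : IsProper b := Groth.HTopHyper.isProper_of_isBlowUp hb hadm.1
  let Q : Pair.{u} := ⟨Y, P.mod.comap b, Groth.Divisors.isEffCartierIdeal_comap_blowUp hb P.isEffCartier⟩
  let q : Q ⟶ P := ⟨b, le_refl _⟩
  have hU : U ≤ Groth.Divisors.complOpens 𝓘 := fun z hz hzs => Set.disjoint_left.mp hadm.2 hzs hz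
  have hiso : IsIso (b ∣_ U) := by
    haveI := Groth.Divisors.isIso_morphismRestrict_compl hb
    let V := Groth.Divisors.complOpens 𝓘
    have e : V.ι ''ᵁ (V.ι ⁻¹ᵁ U) = U := by
      rw [Scheme.Hom.image_preimage_eq_opensRange_inf, Scheme.Opens.opensRange_ι]
      exact inf_eq_right.mpr hU
    have h1 : (MorphismProperty.isomorphisms Scheme.{u}) (b ∣_ (V.ι ''ᵁ (V.ι ⁻¹ᵁ U))) :=
      ((MorphismProperty.isomorphisms Scheme.{u}).arrow_mk_iso_iff (morphismRestrictRestrict b V (V.ι ⁻¹ᵁ U))).mp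
        ((MorphismProperty.isomorphisms.iff _).mpr inferInstance)
    rw [e] at h1
    exact (MorphismProperty.isomorphisms.iff _).mp h1
  obtain ⟨h, hh⟩ := hlift Q P q ⟨rfl, inferInstance, hiso⟩ (𝟙 P)
  have hh' : h.hom ≫ b = 𝟙 P.total := congrArg Pair.Hom.hom hh
  obtain ⟨W, hcW, e, -, hE⟩ := hb.1 (h.hom c)
  have htop : (⊤ : P.total.Opens) ≤ h.hom ⁻¹ᵁ W.1 :=
    (eq_top_of_mem hc (show c ∈ h.hom ⁻¹ᵁ W.1 from hcW)).ge
  have hprin : Ideal.span {x, y} = Ideal.span {(h.hom.appLE W.1 ⊤ htop).hom e} := by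
    rw [← h𝓘, show 𝓘 = (𝓘.comap b).comap h.hom by
        rw [← Scheme.IdealSheafData.comap_comp, hh', Scheme.IdealSheafData.comap_id],
      Groth.Divisors.ideal_comap_affine _ h.hom W T htop, hE, Ideal.map_span, Set.image_singleton]
  generalize (h.hom.appLE W.1 ⊤ htop).hom e = e₀ at hprin
  have he : e₀ ∈ Ideal.span ({x, y} : Set Γ(P.total, ⊤)) := hprin ▸ Ideal.mem_span_singleton_self e₀
  obtain ⟨α, β, hαβ⟩ := Ideal.mem_span_pair.mp he
  obtain ⟨s, hs⟩ := Ideal.mem_span_singleton'.mp (hprin ▸ Ideal.subset_span (by simp : x ∈ ({x, y} : Set Γ(P.total, ⊤))))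
  obtain ⟨t, ht⟩ := Ideal.mem_span_singleton'.mp (hprin ▸ Ideal.subset_span (by simp : y ∈ ({x, y} : Set Γ(P.total, ⊤))))
  have henz : e₀ ∈ nonZeroDivisors Γ(P.total, ⊤) := by
    rw [hprin] at hxy
    obtain ⟨n, hn⟩ := hxy
    obtain ⟨k, hk⟩ := Ideal.mem_span_singleton'.mp hn
    exact (mul_mem_nonZeroDivisors.mp (hk ▸ pow_mem hτ n)).2
  have h1 : α * s + β * t = 1 := by
    have h0 : e₀ * (α * s + β * t - 1) = 0 := by
      linear_combination hαβ + α * hs + β * ht
    exact sub_eq_zero.mp ((mem_nonZeroDivisors_iff_left.mp henz) _ h0)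
  rcases IsLocalRing.isUnit_or_isUnit_of_add_one h1 with hu | hu
  · refine Or.inl ?_
    obtain ⟨v, hv⟩ := (isUnit_of_mul_isUnit_right hu).exists_left_inv
    exact ⟨t * v, by rw [← ht, ← hs]; linear_combination (-(t * e₀)) * hv⟩
  · refine Or.inr ?_
    obtain ⟨v, hv⟩ := (isUnit_of_mul_isUnit_right hu).exists_left_inv
    exact ⟨s * v, by rw [← ht, ← hs]; linear_combination (-(s * e₀)) * hv⟩

set_option maxHeartbeats 1000000 in
/-- Necessity: affine interior with local sections and the gluing conditions. -/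
theorem gluing_of_lift (P : Pair.{u}) [IsAffine P.total] [IsLocalRing Γ(P.total, ⊤)]
    (hlift : ∀ (Q X : Pair.{u}) (q : Q ⟶ X), Pair.admBlowup q → ∀ g : P ⟶ X, ∃ h : P ⟶ Q, h ≫ q = g) :
    IsAffine (_root_.ModPair.interior P.mod : Scheme.{u}) ∧
      IsLocalRing Γ((_root_.ModPair.interior P.mod : Scheme.{u}), ⊤) ∧
      ∀ p : (_root_.ModPair.interior P.mod : Scheme.{u}),
        IsClosed ({p} : Set (_root_.ModPair.interior P.mod : Scheme.{u})) →
          ValuationRing (Γ(P.total, ⊤) ⧸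
            (P.total.toSpecΓ.base ((_root_.ModPair.interior P.mod).ι.base p)).asIdeal) ∧
          Set.BijOn (algebraMap Γ(P.total, ⊤) (Localization.AtPrime
              (P.total.toSpecΓ.base ((_root_.ModPair.interior P.mod).ι.base p)).asIdeal))
            ((P.total.toSpecΓ.base ((_root_.ModPair.interior P.mod).ι.base p)).asIdeal : Set Γ(P.total, ⊤))
            (IsLocalRing.maximalIdeal (Localization.AtPrime
              (P.total.toSpecΓ.base ((_root_.ModPair.interior P.mod).ι.base p)).asIdeal) :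
              Set (Localization.AtPrime
                (P.total.toSpecΓ.base ((_root_.ModPair.interior P.mod).ι.base p)).asIdeal)) := by
  obtain ⟨c, hc⟩ := exists_forall_specializes (Z := P.total)
  obtain ⟨W, hcW, τ₀, hτ₀, hI₀⟩ := P.isEffCartier c
  obtain rfl : W = ⟨⊤, isAffineOpen_top P.total⟩ := Subtype.ext (eq_top_of_mem hc hcW)
  have dich := dvd_or_dvd_of_lift P hlift hτ₀ hI₀
  let A : Type u := Γ(P.total, ⊤)
  let τ : A := τ₀
  let 𝔮 : Ideal A :=
    { carrier := {x | τ ∉ (Ideal.span {x}).radical}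
      zero_mem' := fun h => by
        obtain ⟨n, hn⟩ := h
        rw [Ideal.mem_span_singleton, zero_dvd_iff] at hn
        exact nonZeroDivisors.ne_zero (pow_mem hτ₀ n) hn
      add_mem' := fun {x y} hx hy hxy => by
        have h2 : τ ∈ (Ideal.span {x, y}).radical := Ideal.radical_mono
          ((Ideal.span_singleton_le_iff_mem _).mpr (add_mem (Ideal.subset_span (by simp))
            (Ideal.subset_span (by simp)))) hxy
        rcases dich x y h2 with ⟨d, rfl⟩ | ⟨d, rfl⟩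
        · exact hx (Ideal.radical_mono (Ideal.span_singleton_le_span_singleton.mpr ⟨1 + d, by ring⟩) hxy)
        · exact hy (Ideal.radical_mono (Ideal.span_singleton_le_span_singleton.mpr ⟨1 + d, by ring⟩) hxy)
      smul_mem' := fun r x hx h => hx (Ideal.radical_mono
        (Ideal.span_singleton_le_span_singleton.mpr ⟨r, by rw [smul_eq_mul, mul_comm]⟩) h) }
  have hq : ∀ x, x ∉ 𝔮 ↔ τ ∈ (Ideal.span {x}).radical := fun x => not_not
  haveI : 𝔮.IsPrime := by
    refine ⟨fun h => ((Ideal.eq_top_iff_one 𝔮).mp h) (by rw [Ideal.span_singleton_one]; exact Ideal.le_radical trivial),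
      fun {x y} hxy => ?_⟩
    by_contra hcon
    rw [not_or, hq, hq] at hcon
    obtain ⟨⟨m, hm⟩, n, hn⟩ := hcon
    exact hxy ⟨m + n, by
      rw [pow_add, ← Ideal.span_singleton_mul_span_singleton]; exact Ideal.mul_mem_mul hm hn⟩
  have hτq : τ ∉ 𝔮 := (hq τ).mpr (Ideal.le_radical (Ideal.mem_span_singleton_self τ))
  let U := _root_.ModPair.interior P.mod
  have hUb : U = P.total.basicOpen τ := by
    ext z
    show z ∉ P.mod.support ↔ z ∈ P.total.basicOpen τ
    rw [Scheme.IdealSheafData.mem_support_iff_of_mem (U := ⟨⊤, isAffineOpen_top P.total⟩) (Set.mem_univ z),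
      Scheme.mem_zeroLocus_iff]
    refine ⟨fun h => ?_, fun h h' => h' τ (hI₀.ge (Ideal.mem_span_singleton_self τ)) h⟩
    by_contra hz
    refine h fun t ht htz => hz ?_
    rw [SetLike.mem_coe, hI₀] at ht
    obtain ⟨d, rfl⟩ := Ideal.mem_span_singleton'.mp ht
    rw [Scheme.basicOpen_mul] at htz
    exact htz.2
  have hmemU : ∀ z : P.total, z ∈ U ↔ τ ∉ (P.total.toSpecΓ z).asIdeal := fun z => by
    rw [hUb, ← Scheme.toSpecΓ_preimage_basicOpen]
    rfl
  let xq : P.total := P.total.isoSpec.inv ⟨𝔮, inferInstance⟩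
  have hxq : (P.total.toSpecΓ xq).asIdeal = 𝔮 := by
    rw [toSpecΓ_isoSpec_inv_apply]
  have hxU : xq ∈ U := by rw [hmemU, hxq]; exact hτq
  have hgen : ∀ z ∈ U, z ⤳ xq := by
    intro z hz
    rw [← isoSpec_inv_toSpecΓ_apply z]
    refine Specializes.map ?_ P.total.isoSpec.inv.continuous
    refine (PrimeSpectrum.le_iff_specializes _ ⟨𝔮, inferInstance⟩).mp fun t ht htq => ?_
    obtain ⟨n, hn⟩ := htq
    refine (hmemU z).mp hz ((P.total.toSpecΓ z).2.mem_of_pow_mem n ?_)
    exact (Ideal.span_singleton_le_iff_mem _).mpr ht hn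
  haveI : IsAffine (U : Scheme.{u}) := by
    rw [hUb]; exact (isAffineOpen_top P.total).basicOpen τ
  refine ⟨inferInstance, isLocalRing_of_forall_specializes (⟨xq, hxU⟩ : U) fun w =>
    (Topology.IsInducing.subtypeVal.specializes_iff).mp (hgen w.1 w.2), fun p hp => ?_⟩
  have hpx : U.ι p = xq := by
    have h1 : p ⤳ (⟨xq, hxU⟩ : U) := Topology.IsInducing.subtypeVal.specializes_iff.mp (hgen p.1 p.2)
    have h2 : (⟨xq, hxU⟩ : U) = p := h1.mem_closed hp rfl
    rw [← h2]; rfl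
  rw [hpx]
  have hval : ValuationRing (A ⧸ 𝔮) := by
    refine ValuationRing.iff_dvd_total.mpr ⟨fun X Y => ?_⟩
    obtain ⟨x, rfl⟩ := Ideal.Quotient.mk_surjective X
    obtain ⟨y, rfl⟩ := Ideal.Quotient.mk_surjective Y
    by_cases hy : y ∈ 𝔮
    · exact Or.inl ⟨0, by rw [mul_zero]; exact Ideal.Quotient.eq_zero_iff_mem.mpr hy⟩
    · have h2 : τ ∈ (Ideal.span {x, y}).radical :=
        Ideal.radical_mono (Ideal.span_mono (by simp)) ((hq y).mp hy)
      exact (dich x y h2).imp (map_dvd _) (map_dvd _)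
  have hbij : Set.BijOn (algebraMap A (Localization.AtPrime 𝔮)) (𝔮 : Set A)
      (IsLocalRing.maximalIdeal (Localization.AtPrime 𝔮) : Set (Localization.AtPrime 𝔮)) := by
    refine ⟨fun z hz => (IsLocalization.AtPrime.to_map_mem_maximal_iff (Localization.AtPrime 𝔮) 𝔮 z).mpr hz,
      fun z _ z' _ h => ?_, fun w hw => ?_⟩
    · obtain ⟨⟨s, hs⟩, hsz⟩ := (IsLocalization.eq_iff_exists 𝔮.primeCompl (Localization.AtPrime 𝔮)).mp h
      obtain ⟨n, hn⟩ := (hq s).mp hs
      obtain ⟨d, hd⟩ := Ideal.mem_span_singleton'.mp hn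
      refine sub_eq_zero.mp ((mem_nonZeroDivisors_iff_left.mp (pow_mem hτ₀ n)) _ ?_)
      show (τ : A) ^ n * (z - z') = 0
      rw [← hd]
      have hsz' : s * z = s * z' := hsz
      linear_combination d * hsz'
    · obtain ⟨x, ⟨s, hs⟩, rfl⟩ := IsLocalization.exists_mk'_eq 𝔮.primeCompl w
      have hx : x ∈ 𝔮 := (IsLocalization.AtPrime.mk'_mem_maximal_iff (Localization.AtPrime 𝔮) 𝔮 x ⟨s, hs⟩).mp hw
      obtain ⟨n, hn⟩ := (hq s).mp hs
      obtain ⟨d, hd⟩ := Ideal.mem_span_singleton'.mp hn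
      have hrad : τ ∈ (Ideal.span {x * d, τ ^ (n + 1)}).radical :=
        ⟨n + 1, Ideal.subset_span (by simp)⟩
      have hτn : ∃ z, τ ^ n * z = x * d := by
        have hrad' : τ ∈ (Ideal.span {x * d, τ ^ n}).radical := ⟨n, Ideal.subset_span (by simp)⟩
        rcases dich (x * d) (τ ^ n) hrad' with ⟨k, hk⟩ | ⟨k, hk⟩
        · exact absurd (𝔮.mul_mem_right (d * k) hx) (fun hmem => hτq
            (Ideal.IsPrime.mem_of_pow_mem ‹_› n (by rw [hk, mul_assoc]; exact hmem)))
        · exact ⟨k, hk.symm⟩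
      obtain ⟨z, hz⟩ := hτn
      refine ⟨z, ?_, ?_⟩
      · exact (Ideal.IsPrime.mem_or_mem ‹_› (hz ▸ 𝔮.mul_mem_right d hx : τ ^ n * z ∈ 𝔮)).resolve_left
          fun h => hτq (Ideal.IsPrime.mem_of_pow_mem ‹_› n h)
      · rw [eq_comm, IsLocalization.mk'_eq_iff_eq_mul, ← map_mul, IsLocalization.eq_iff_exists 𝔮.primeCompl]
        refine ⟨⟨τ ^ n, fun h => hτq (Ideal.IsPrime.mem_of_pow_mem ‹_› n h)⟩, ?_⟩
        show τ ^ n * x = τ ^ n * (z * s)
        linear_combination -s * hz - x * hd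
  have key : ∀ (I : Ideal A) (_ : I.IsPrime), I = 𝔮 → ValuationRing (A ⧸ I) ∧
      Set.BijOn (algebraMap A (Localization.AtPrime I)) (I : Set A)
        (IsLocalRing.maximalIdeal (Localization.AtPrime I) : Set (Localization.AtPrime I)) := by
    rintro I _ rfl
    exact ⟨hval, hbij⟩
  exact key _ _ hxq

/-- Locality for Zariski coverings makes the total space affine with local sections. -/
theorem isAffine_isLocalRing_of_zariski (P : Pair.{u}) [QuasiSeparatedSpace P.total]
    (hz : ∀ (X : Pair.{u}) (ι : Type u) (U : ι → Pair.{u}) (v : ∀ i, U i ⟶ X),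
        (∀ i, _root_.ModPair.IsMinimal (U i).mod X.mod (v i).hom ∧ IsOpenImmersion (v i).hom ∧
          QuasiCompact (v i).hom) →
        (∀ x : X.total, ∃ (i : ι) (y : (U i).total), (v i).hom.base y = x) →
        ∀ g : P ⟶ X, ∃ (i : ι) (h : P ⟶ U i), h ≫ v i = g) :
    IsAffine P.total ∧ IsLocalRing Γ(P.total, ⊤) := by
  have hcov : ∀ (ι : Type u) (W : ι → P.total.Opens), (∀ i, IsAffineOpen (W i)) →
      (∀ x, ∃ i, x ∈ W i) → ∃ i, W i = ⊤ := by
    intro ι W hW hWc
    obtain ⟨i, h, hh⟩ := hz P ι (fun i => Pair.restrict P (W i)) (fun i => ⟨(W i).ι, le_refl _⟩)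
      (fun i => ⟨rfl, inferInstanceAs (IsOpenImmersion (W i).ι), by
        haveI : IsAffine (W i : Scheme.{u}) := hW i
        exact quasiCompact_of_compactSpace (W i).ι⟩)
      (fun x => by
        obtain ⟨i, hi⟩ := hWc x
        exact ⟨i, ⟨x, hi⟩, rfl⟩) (𝟙 P)
    refine ⟨i, top_le_iff.mp fun x _ => ?_⟩
    have hh' : h.hom ≫ (W i).ι = 𝟙 P.total := congrArg Pair.Hom.hom hh
    have : (h.hom x).1 = x := by
      conv_rhs => rw [← show (h.hom ≫ (W i).ι) x = x by rw [hh']; rfl]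
      rfl
    rw [← this]
    exact (h.hom x).2
  obtain ⟨W, hW⟩ := hcov P.total.affineOpens (fun W => W.1) (fun W => W.2) fun x => by
    obtain ⟨W, hW, hxW, -⟩ := exists_isAffineOpen_mem_and_subset (U := (⊤ : P.total.Opens)) (x := x) trivial
    exact ⟨⟨W, hW⟩, hxW⟩
  have hP : IsAffine P.total := by
    have h2 : IsAffineOpen (⊤ : P.total.Opens) := hW ▸ W.2
    haveI : IsAffine ((⊤ : P.total.Opens) : Scheme.{u}) := h2
    exact IsAffine.of_isIso P.total.topIso.inv
  refine ⟨hP, ?_⟩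
  haveI := hP
  haveI : Nontrivial Γ(P.total, ⊤) := by
    by_contra hn
    rw [not_nontrivial_iff_subsingleton] at hn
    obtain ⟨i, -⟩ := hz P PEmpty (fun i => i.elim) (fun i => i.elim) (fun i => i.elim)
      (fun x => (IsEmpty.false (α := PrimeSpectrum Γ(P.total, ⊤)) (P.total.toSpecΓ x)).elim) (𝟙 P)
    exact i.elim
  refine IsLocalRing.of_isUnit_or_isUnit_one_sub_self fun f => ?_
  obtain ⟨i, hi⟩ := hcov (ULift.{u} Bool) (fun i => P.total.basicOpen (cond i.down f (1 - f)))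
    (fun i => (isAffineOpen_top P.total).basicOpen _) fun x => by
      by_contra hcon
      push Not at hcon
      have h1 : f ∈ (P.total.toSpecΓ x).asIdeal := by
        by_contra h
        exact hcon ⟨true⟩ (by rw [← Scheme.toSpecΓ_preimage_basicOpen]; exact h)
      have h2 : 1 - f ∈ (P.total.toSpecΓ x).asIdeal := by
        by_contra h
        exact hcon ⟨false⟩ (by rw [← Scheme.toSpecΓ_preimage_basicOpen]; exact h)
      exact (P.total.toSpecΓ x).2.ne_top ((Ideal.eq_top_iff_one _).mpr (by simpa using add_mem h1 h2))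
  have hu : ∀ g : Γ(P.total, ⊤), P.total.basicOpen g = ⊤ → IsUnit g := fun g hg => by
    by_contra h
    obtain ⟨M, hM, hgM⟩ := exists_max_ideal_of_mem_nonunits (show g ∈ nonunits Γ(P.total, ⊤) from h)
    have h3 : P.total.isoSpec.inv ⟨M, hM.isPrime⟩ ∈ P.total.basicOpen g := by rw [hg]; trivial
    rw [← Scheme.toSpecΓ_preimage_basicOpen] at h3
    have h4 : P.total.toSpecΓ (P.total.isoSpec.inv ⟨M, hM.isPrime⟩) ∈ PrimeSpectrum.basicOpen g := h3
    rw [toSpecΓ_isoSpec_inv_apply] at h4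
    exact h4 hgM
  rcases i with ⟨_ | _⟩
  · exact Or.inr (hu _ hi)
  · exact Or.inl (hu _ hi)

/-- A local scheme is local for Zariski coverings of pairs. -/
theorem exists_factor_of_local (P : Pair.{u}) [IsAffine P.total] [IsLocalRing Γ(P.total, ⊤)]
    (X : Pair.{u}) (ι : Type u) (U : ι → Pair.{u}) (v : ∀ i, U i ⟶ X)
    (hv : ∀ i, _root_.ModPair.IsMinimal (U i).mod X.mod (v i).hom ∧ IsOpenImmersion (v i).hom)
    (hcov : ∀ x : X.total, ∃ (i : ι) (y : (U i).total), (v i).hom.base y = x) (g : P ⟶ X) :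
    ∃ (i : ι) (h : P ⟶ U i), h ≫ v i = g := by
  obtain ⟨c, hc⟩ := exists_forall_specializes (Z := P.total)
  obtain ⟨i, y, hy⟩ := hcov (g.hom c)
  haveI := (hv i).2
  have hr : Set.range g.hom ⊆ Set.range (v i).hom := by
    rintro _ ⟨z, rfl⟩
    exact ((hc z).map g.hom.continuous).mem_open (v i).hom.opensRange.2 ⟨y, hy⟩
  let h := IsOpenImmersion.lift (v i).hom g.hom hr
  refine ⟨i, ⟨h, ?_⟩, Pair.Hom.ext (IsOpenImmersion.lift_fac _ _ _)⟩
  show P.mod ≤ (U i).mod.comap h
  rw [show (U i).mod = X.mod.comap (v i).hom from (hv i).1, ← Scheme.IdealSheafData.comap_comp,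
    IsOpenImmersion.lift_fac]
  exact g.cond

end Groth.ModPairs
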