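import Groth.Agent.ModPairs.Limit
import Groth.Agent.Limits.Existence
import Groth.Agent.ModPairs.Basic

/-!
# Limits of minimal affine systems of modulus pairs over a pair
-/

set_option autoImplicit false
universe u

open CategoryTheory CategoryTheory.Limits AlgebraicGeometry TopologicalSpace BlowUp

namespace Groth.ModPairs

open _root_.ModPair (Pair)

variable {S : Pair.{u}} {I : Type u} [SmallCategory I] [IsCofiltered I] (D : I ⥤ Over S)

/-- The underlying system of schemes. -/
noncomputable abbrev totalFunctor : I ⥤ Scheme.{u} := D ⋙ Over.forget S ⋙ Pair.forget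

/-- The underlying cone of schemes. -/
noncomputable abbrev totalCone (c : Cone D) : Cone (totalFunctor D) :=
  (Over.forget S ⋙ Pair.forget).mapCone c

set_option backward.isDefEq.respectTransparency false in
theorem totalCone_isLimit (c : Cone D) (hc : IsLimit c)
    [∀ (i j : I) (t : i ⟶ j), IsAffineHom (D.map t).left.hom]
    (hmin : ∀ (i j : I) (t : i ⟶ j),
      ModPair.IsMinimal (D.obj i).left.mod (D.obj j).left.mod (D.map t).left.hom) :
    Nonempty (IsLimit (totalCone D c)) ∧
      ∀ i, c.pt.left.mod = (D.obj i).left.mod.comap (c.π.app i).left.hom := by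
  let T := totalFunctor D
  let J : ∀ i, (T.obj i).IdealSheafData := fun i => (D.obj i).left.mod
  have hJ : ∀ i, IsEffCartierIdeal (J i) := fun i => (D.obj i).left.isEffCartier
  have haff : ∀ (i j : I) (t : i ⟶ j), IsAffineHom (T.map t) := fun i j t =>
    inferInstanceAs (IsAffineHom (D.map t).left.hom)
  have : HasLimit T := Limits.hasLimit_of_isAffineHom T
  let cl := limit.cone T
  let hl : IsLimit cl := limit.isLimit T
  obtain ⟨i₀⟩ := IsCofiltered.nonempty (C := I)
  let IL : cl.pt.IdealSheafData := (J i₀).comap (cl.π.app i₀)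
  have hIL : ∀ i, IL = (J i).comap (cl.π.app i) := fun i => by
    let k := IsCofiltered.min i₀ i
    have h : ∀ {j : I} (t : k ⟶ j), (J j).comap (cl.π.app j) = (J k).comap (cl.π.app k) := fun {j} t => by
      rw [show J k = (J j).comap (T.map t) from hmin _ _ t, ← Scheme.IdealSheafData.comap_comp, cl.w]
    exact (h (IsCofiltered.minToLeft i₀ i)).trans (h (IsCofiltered.minToRight i₀ i)).symm
  let LP : Pair.{u} := ⟨cl.pt, IL, isEffCartierIdeal_comap_π T cl hl J hJ hmin i₀⟩
  let pL : ∀ i, LP ⟶ (D.obj i).left := fun i => ⟨cl.π.app i, (hIL i).le⟩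
  have hpL : ∀ {i j : I} (t : i ⟶ j), pL i ≫ (D.map t).left = pL j := fun {i j} t =>
    Pair.Hom.ext (cl.w t)
  have hstr : ∀ i, pL i ≫ (D.obj i).hom = pL i₀ ≫ (D.obj i₀).hom := fun i => by
    rw [← hpL (IsCofiltered.minToLeft i₀ i), ← hpL (IsCofiltered.minToRight i₀ i), Category.assoc,
      Category.assoc, Over.w, Over.w]
  let LO : Cone D :=
    { pt := Over.mk (pL i₀ ≫ (D.obj i₀).hom)
      π :=
      { app := fun i => Over.homMk (pL i) (hstr i)
        naturality := fun i j t => Over.OverMorphism.ext ((Category.id_comp _).trans (hpL t).symm) } }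
  let ℓ : LO.pt ⟶ c.pt := hc.lift LO
  let m : c.pt.left.total ⟶ cl.pt := hl.lift (totalCone D c)
  have hm : ∀ i, m ≫ cl.π.app i = (c.π.app i).left.hom := fun i => hl.fac _ i
  have hℓ : ∀ i, ℓ.left.hom ≫ (c.π.app i).left.hom = cl.π.app i := fun i =>
    congrArg (fun x => Pair.Hom.hom (CommaMorphism.left x)) (hc.fac LO i)
  have h1 : ℓ.left.hom ≫ m = 𝟙 _ := hl.hom_ext fun i => by
    rw [Category.assoc, hm]; exact (hℓ i).trans (Category.id_comp _).symm
  have hamb : ModPair.IsAmbient c.pt.left.mod IL m := by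
    show _ ≤ _
    rw [hIL i₀, ← Scheme.IdealSheafData.comap_comp, hm]
    exact (c.π.app i₀).left.cond
  let mP : c.pt ⟶ LO.pt := Over.homMk ⟨m, hamb⟩ (Pair.Hom.ext (by
    show m ≫ cl.π.app i₀ ≫ (D.obj i₀).hom.hom = _
    rw [← Category.assoc, hm]
    exact congrArg Pair.Hom.hom (Over.w (c.π.app i₀))))
  have h2' : mP ≫ ℓ = 𝟙 _ := hc.hom_ext fun i => by
    rw [Category.assoc, hc.fac LO i]
    refine Over.OverMorphism.ext (Pair.Hom.ext ?_)
    show m ≫ cl.π.app i = 𝟙 c.pt.left.total ≫ (c.π.app i).left.hom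
    rw [Category.id_comp, hm]
  have h2 : m ≫ ℓ.left.hom = 𝟙 _ := congrArg (fun x => Pair.Hom.hom (CommaMorphism.left x)) h2'
  let e : c.pt.left.total ≅ cl.pt := ⟨m, ℓ.left.hom, h2, h1⟩
  refine ⟨⟨hl.ofIsoLimit (Cone.ext e.symm fun i => ?_)⟩, fun i => ?_⟩
  · exact (hℓ i).symm
  · have hIX : c.pt.left.mod = IL.comap m := by
      refine le_antisymm hamb ?_
      have h : IL ≤ c.pt.left.mod.comap ℓ.left.hom := ℓ.left.cond
      refine (Scheme.IdealSheafData.comap_mono m h).trans_eq ?_
      exact (Scheme.IdealSheafData.comap_comp _ _ _).symm.trans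
        ((congrArg c.pt.left.mod.comap h2).trans (Scheme.IdealSheafData.comap_id _))
    rw [hIX, hIL i, ← Scheme.IdealSheafData.comap_comp, hm]

end Groth.ModPairs
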