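import Groth.Agent.ModPairs.QuasiFinite
import Mathlib.AlgebraicGeometry.ZariskisMainTheorem
import Mathlib.AlgebraicGeometry.Morphisms.QuasiFinite

/-!
# Finiteness of proper morphisms from quasi-finiteness on affine pieces
-/

set_option autoImplicit false
universe u

open CategoryTheory CategoryTheory.Limits AlgebraicGeometry TopologicalSpace

namespace Groth.ModPairs

theorem isFinite_of_affine {A : CommRingCat.{u}} {Q : Scheme.{u}} (q : Q ⟶ Spec A) [IsProper q]
    (h : ∀ (B : CommRingCat.{u}) (j : Spec B ⟶ Q) [IsOpenImmersion j] (φ : A ⟶ B),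
      j ≫ q = Spec.map φ → φ.hom.FiniteType → φ.hom.QuasiFinite) : IsFinite q := by
  have : LocallyQuasiFinite q := by
    refine (IsZariskiLocalAtSource.iff_of_openCover (P := @LocallyQuasiFinite) Q.affineOpenCover.openCover).mpr fun i => ?_
    obtain ⟨φ, hφ⟩ := Spec.map_surjective (Q.affineOpenCover.f i ≫ q)
    change LocallyQuasiFinite (Q.affineOpenCover.f i ≫ q)
    rw [← hφ]
    refine HasRingHomProperty.Spec_iff.mpr (h _ (Q.affineOpenCover.f i) φ hφ.symm ?_)
    have : LocallyOfFiniteType (Spec.map φ) := by rw [hφ]; infer_instance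
    exact HasRingHomProperty.Spec_iff.mp this
  exact IsFinite.of_isProper_of_locallyQuasiFinite q

theorem quasiFinite_of_lift {A B S : CommRingCat.{u}} {Q W : Scheme.{u}} (q : Q ⟶ Spec A)
    (j : Spec B ⟶ Q) [IsOpenImmersion j] (φ : A ⟶ B) (hφ : j ≫ q = Spec.map φ) (ψ : B ⟶ S)
    (hψ : ψ.hom.QuasiFinite) (w : W ⟶ Q) [LocallyQuasiFinite (w ≫ q)] (l : Spec S ⟶ W)
    (hl : l ≫ w = Spec.map ψ ≫ j) : (φ ≫ ψ).hom.QuasiFinite := by
  refine (HasRingHomProperty.Spec_iff (P := @LocallyQuasiFinite)).mp ?_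
  have : LocallyQuasiFinite (Spec.map ψ) := HasRingHomProperty.Spec_iff.mpr hψ
  have : LocallyQuasiFinite (l ≫ w) := by rw [hl]; infer_instance
  have : LocallyQuasiFinite l := LocallyQuasiFinite.of_comp l w
  rw [Spec.map_comp, ← hφ, ← Category.assoc, ← hl, Category.assoc]
  infer_instance


end Groth.ModPairs
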