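import Mathlib.RingTheory.QuasiFinite.Basic
import Mathlib.RingTheory.Algebraic.Basic
import Mathlib.RingTheory.Algebraic.Integral
import Mathlib.RingTheory.Ideal.MinimalPrime.Basic

/-!
# A quasi-finiteness criterion over rings with totally ordered divisibility modulo a prime
-/

set_option autoImplicit false
universe u

open Polynomial

namespace Groth.ModPairs

variable {A B : Type u} [CommRing A] [CommRing B] [Algebra A B]

/-- Every element is algebraic modulo `Q` over `A` modulo `Q ∩ A`. -/
def AlgMod (A : Type u) {B : Type u} [CommRing A] [CommRing B] [Algebra A B] (Q : Ideal B) : Prop :=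
  ∀ b : B, ∃ q : A[X], (∃ i, q.coeff i ∉ Q.comap (algebraMap A B)) ∧ aeval b q ∈ Q

omit [CommRing B] [Algebra A B] in
theorem exists_dvd_mod_all {ι : Type*} (p₀ : Ideal A)
    (hval : ∀ a b : A, ∃ c, b - a * c ∈ p₀ ∨ a - b * c ∈ p₀) (g : ι → A) (s : Finset ι)
    (hs : s.Nonempty) : ∃ i ∈ s, ∀ j ∈ s, ∃ c, g j - g i * c ∈ p₀ := by
  classical
  induction hs using Finset.Nonempty.cons_induction with
  | singleton a =>
    refine ⟨a, by simp, fun j hj => ⟨1, ?_⟩⟩
    simp [Finset.mem_singleton.mp hj]
  | cons a s ha hs ih =>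
    obtain ⟨i, hi, h⟩ := ih
    obtain ⟨c, hc | hc⟩ := hval (g i) (g a)
    · refine ⟨i, by simp [hi], fun j hj => ?_⟩
      rcases Finset.mem_cons.mp hj with rfl | hj
      · exact ⟨c, hc⟩
      · exact h j hj
    · refine ⟨a, by simp, fun j hj => ?_⟩
      rcases Finset.mem_cons.mp hj with rfl | hj
      · exact ⟨1, by simp⟩
      · obtain ⟨c', hc'⟩ := h j hj
        refine ⟨c * c', ?_⟩
        have : g j - g a * (c * c') = (g j - g i * c') + c' * (g i - g a * c) := by ring
        rw [this]
        exact add_mem hc' (Ideal.mul_mem_left _ _ hc)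

theorem algMod_mono {p₀ : Ideal A} (hval : ∀ a b : A, ∃ c, b - a * c ∈ p₀ ∨ a - b * c ∈ p₀)
    {Q₀ Q : Ideal B} [Q₀.IsPrime] [Q.IsPrime] (hp₀ : p₀ ≤ Q₀.comap (algebraMap A B)) (hle : Q₀ ≤ Q)
    (h : AlgMod A Q₀) : AlgMod A Q := by
  classical
  intro b
  obtain ⟨q, ⟨i, hi⟩, hq⟩ := h b
  have hne : q.support.Nonempty := ⟨i, mem_support_iff.mpr fun h0 => hi (h0 ▸ zero_mem _)⟩
  obtain ⟨k, hk, hall⟩ := exists_dvd_mod_all p₀ hval q.coeff q.support hne
  choose c hc using hall
  let c' : ℕ → A := fun j => if j = k then 1 else if hj : j ∈ q.support then c j hj else 0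
  have hc' : ∀ j, q.coeff j - q.coeff k * c' j ∈ p₀ := fun j => by
    by_cases hjk : j = k
    · simp [c', hjk]
    · by_cases hj : j ∈ q.support
      · simp only [c', if_neg hjk, dif_pos hj]; exact hc j hj
      · simp only [c', if_neg hjk, dif_neg hj]
        simp [notMem_support_iff.mp hj]
  have hd : algebraMap A B (q.coeff k) ∉ Q₀ := fun hd => hi <| by
    have h1 := hp₀ (hc' i)
    have h2 : q.coeff k * c' i ∈ Q₀.comap (algebraMap A B) := Ideal.mul_mem_right _ _ hd
    simpa using add_mem h1 h2
  let q' : A[X] := ∑ j ∈ q.support, monomial j (c' j)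
  have hcoeff : ∀ j ∈ q.support, q'.coeff j = c' j := fun j hj => by
    simp [q', coeff_monomial, hj]
  have hmem : algebraMap A B (q.coeff k) * aeval b q' ∈ Q₀ := by
    have h1 : aeval b q - algebraMap A B (q.coeff k) * aeval b q' ∈ Q₀ := by
      have : aeval b q = ∑ j ∈ q.support, algebraMap A B (q.coeff j) * b ^ j := by
        conv_lhs => rw [q.as_sum_support]
        simp [aeval_monomial]
      rw [this, map_sum, Finset.mul_sum, ← Finset.sum_sub_distrib]
      refine sum_mem fun j _ => ?_
      rw [aeval_monomial, ← mul_assoc, ← map_mul, ← sub_mul, ← map_sub]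
      exact Ideal.mul_mem_right _ _ (hp₀ (hc' j))
    simpa using sub_mem hq h1
  refine ⟨q', ⟨k, ?_⟩, hle (((Ideal.IsPrime.mem_or_mem inferInstance hmem)).resolve_left hd)⟩
  rw [hcoeff k hk]
  simp only [c', if_true]
  exact fun h1 => (inferInstance : (Q.comap (algebraMap A B)).IsPrime).ne_top
    (Ideal.eq_top_of_isUnit_mem _ h1 isUnit_one)

theorem eq_of_algMod {Q Q' : Ideal B} [Q.IsPrime] [Q'.IsPrime] (h : AlgMod A Q) (hle : Q ≤ Q')
    (hc : Q.comap (algebraMap A B) = Q'.comap (algebraMap A B)) : Q = Q' := by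
  refine le_antisymm hle fun b hb => ?_
  by_contra hbQ
  suffices ∀ (i : ℕ) (q : A[X]), q.coeff i ∉ Q.comap (algebraMap A B) → aeval b q ∉ Q by
    obtain ⟨q, ⟨i, hi⟩, hq⟩ := h b
    exact this i q hi hq
  intro i
  induction i with
  | zero =>
    intro q hi hq
    refine hi (hc ▸ ?_)
    rw [← X_mul_divX_add q, map_add, map_mul, aeval_X, aeval_C] at hq
    exact (Ideal.add_mem_iff_right _ (Ideal.mul_mem_right _ _ hb)).mp (hle hq)
  | succ i ih =>
    intro q hi hq
    rw [← X_mul_divX_add q, map_add, map_mul, aeval_X, aeval_C] at hq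
    have h0 : algebraMap A B (q.coeff 0) ∈ Q := by
      have h1 := (Ideal.add_mem_iff_right _ (Ideal.mul_mem_right _ _ hb)).mp (hle hq)
      show q.coeff 0 ∈ Q.comap (algebraMap A B)
      rw [hc]; exact h1
    have h2 := (Ideal.add_mem_iff_left _ h0).mp hq
    refine ih q.divX ?_ ((Ideal.IsPrime.mem_or_mem inferInstance h2).resolve_left hbQ)
    rwa [coeff_divX]

/-- Finite type algebras without strict inclusions of primes in fibres are quasi-finite. -/
theorem quasiFinite_of_incomparable [Algebra.FiniteType A B]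
    (h : ∀ Q Q' : Ideal B, Q.IsPrime → Q'.IsPrime → Q ≤ Q' →
      Q.comap (algebraMap A B) = Q'.comap (algebraMap A B) → Q = Q') :
    Algebra.QuasiFinite A B := by
  refine Algebra.QuasiFinite.iff_finite_comap_preimage_singleton.mpr fun P => ?_
  let F := P.asIdeal.Fiber B
  have : IsNoetherianRing F := Algebra.FiniteType.isNoetherianRing P.asIdeal.ResidueField _
  let e := PrimeSpectrum.preimageOrderIsoFiber A B P
  have hmin : ∀ x : PrimeSpectrum F, x.asIdeal ∈ minimalPrimes F := by
    intro x
    refine ⟨⟨x.2, bot_le⟩, fun J hJ hle => ?_⟩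
    have h1 : e.symm ⟨J, hJ.1⟩ ≤ e.symm x := e.symm.monotone hle
    have h2 := h _ _ (e.symm ⟨J, hJ.1⟩).1.2 (e.symm x).1.2 h1 <| by
      have a := congr_arg PrimeSpectrum.asIdeal (e.symm ⟨J, hJ.1⟩).2
      have b := congr_arg PrimeSpectrum.asIdeal (e.symm x).2
      exact a.trans b.symm
    have h3 : e.symm ⟨J, hJ.1⟩ = e.symm x := Subtype.ext (PrimeSpectrum.ext h2)
    exact (congr_arg PrimeSpectrum.asIdeal (e.symm.injective h3)).ge
  have : Finite (PrimeSpectrum F) := by
    have hf : (minimalPrimes F).Finite := minimalPrimes.finite_of_isNoetherianRing F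
    have : Finite (minimalPrimes F) := hf.to_subtype
    exact Finite.of_injective (fun x => (⟨x.asIdeal, hmin x⟩ : minimalPrimes F))
      fun x y hxy => PrimeSpectrum.ext (congr_arg Subtype.val hxy)
  exact Set.finite_coe_iff.mp (Finite.of_equiv _ e.symm.toEquiv)

/-- A quasi-finite field over a domain is algebraic. -/
theorem isAlgebraic_of_quasiFinite_field (D L : Type u) [CommRing D] [IsDomain D] [Field L]
    [Algebra D L] [FaithfulSMul D L] [Algebra.QuasiFinite D L] (x : L) : IsAlgebraic D x := by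
  let := FractionRing.liftAlgebra D L
  have : Algebra.QuasiFinite (FractionRing D) L := Algebra.QuasiFinite.of_restrictScalars D _ _
  have : Module.Finite (FractionRing D) L := .of_quasiFinite
  exact (IsFractionRing.isAlgebraic_iff D (FractionRing D) L).mpr (Algebra.IsAlgebraic.isAlgebraic x)

/-- If a localisation of `B` is quasi-finite over `A`, the surviving primes are `AlgMod`. -/
theorem algMod_of_quasiFinite_localization {S : Type u} [CommRing S] [Algebra B S] [Algebra A S]
    [IsScalarTower A B S] (M : Submonoid B) [IsLocalization M S] [Algebra.QuasiFinite A S]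
    (Q : Ideal B) [hQ : Q.IsPrime] (hd : Disjoint (M : Set B) (Q : Set B)) : AlgMod A Q := by
  intro b
  let P : Ideal S := Q.map (algebraMap B S)
  have hP : P.IsPrime := IsLocalization.isPrime_of_isPrime_disjoint M S Q hQ hd
  have hPQ : P.comap (algebraMap B S) = Q :=
    IsLocalization.comap_map_of_isPrime_disjoint M S hQ hd
  let p : Ideal A := Q.comap (algebraMap A B)
  let L := P.ResidueField
  have hker : ∀ a : A, algebraMap A L a = 0 ↔ a ∈ p := fun a => by
    rw [IsScalarTower.algebraMap_apply A S L, Ideal.algebraMap_residueField_eq_zero,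
      IsScalarTower.algebraMap_apply A B S, ← Ideal.mem_comap, hPQ]
    rfl
  let : Algebra (A ⧸ p) L :=
    (Ideal.Quotient.lift p (algebraMap A L) fun a ha => (hker a).mpr ha).toAlgebra
  have : IsScalarTower A (A ⧸ p) L := .of_algebraMap_eq fun a => rfl
  have : FaithfulSMul (A ⧸ p) L := (faithfulSMul_iff_algebraMap_injective _ _).mpr <|
    (injective_iff_map_eq_zero _).mpr fun x hx => by
      obtain ⟨a, rfl⟩ := Ideal.Quotient.mk_surjective x
      exact Ideal.Quotient.eq_zero_iff_mem.mpr ((hker a).mp hx)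
  have : Algebra.QuasiFinite (A ⧸ p) L := Algebra.QuasiFinite.of_restrictScalars A _ _
  let x : L := algebraMap S L (algebraMap B S b)
  obtain ⟨g, hg0, hg⟩ := isAlgebraic_of_quasiFinite_field (A ⧸ p) L x
  obtain ⟨q, rfl⟩ := Polynomial.map_surjective (Ideal.Quotient.mk p) Ideal.Quotient.mk_surjective g
  refine ⟨q, ?_, ?_⟩
  · by_contra! hall
    exact hg0 (Polynomial.ext fun i => by
      rw [coeff_map, coeff_zero, Ideal.Quotient.eq_zero_iff_mem]; exact hall i)
  · have h1 : aeval x q = 0 := by
      rw [← Ideal.Quotient.algebraMap_eq, aeval_map_algebraMap] at hg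
      exact hg
    have h2 : algebraMap S L (algebraMap B S (aeval b q)) = 0 := by
      rw [← aeval_algebraMap_apply, ← aeval_algebraMap_apply]; exact h1
    rw [Ideal.algebraMap_residueField_eq_zero] at h2
    exact hPQ.le h2

end Groth.ModPairs
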