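import Groth.Agent.ModPairs.Basic
import Groth.Agent.RaynaudGruson.Flattening.Subscheme
import Groth.Agent.RaynaudGruson.Flattening.Core
import Groth.Agent.RefRank.AdmBlowUp
import Groth.Agent.HTopHyper.BlowUpProper

/-!
# Admissible refinement of blow-ups of modulus pairs

The strict transform of a scheme with respect to the exceptional ideal is the scheme-theoretic image
of the complement of the exceptional locus.
-/

set_option autoImplicit false
set_option linter.style.haveILetI false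
universe u

open CategoryTheory CategoryTheory.Limits AlgebraicGeometry TopologicalSpace

namespace Groth.ModPairs

variable {P : Scheme.{u}}

/-- The kernel of restriction to the complement of a finite type ideal consists of the functions
killed by a power of the ideal. -/
theorem mem_ker_iff_killedByPowerNear {E : P.IdealSheafData} (hE : BlowUp.IsFiniteTypeIdeal E)
    (D : P.Opens) (hD : (D : Set P) = (E.support : Set P)ᶜ) [QuasiCompact D.ι]
    (V : P.affineOpens) (a : Γ(P, V.1)) :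
    a ∈ D.ι.ker.ideal V ↔ BlowUp.KilledByPowerNear E (Coh.structureModule P) V a := by
  have hmul : ∀ e : Γ(P, V.1), e * a = 0 ↔
      e • (show (Coh.structureModule P).presheaf.obj (Opposite.op V.1) from a) = 0 := fun e => Iff.rfl
  rw [Scheme.Hom.ker_apply, RingHom.mem_ker]
  constructor
  · intro h
    let ann : Ideal Γ(P, V.1) := LinearMap.ker (LinearMap.toSpanSingleton Γ(P, V.1) Γ(P, V.1) a)
    have hrad : E.ideal V ≤ ann.radical := fun e he => by
      haveI := V.2.isLocalization_basicOpen e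
      have hle : P.basicOpen e ≤ D.ι ''ᵁ (D.ι ⁻¹ᵁ V.1) := by
        intro z hz
        rw [Scheme.Hom.image_preimage_eq_opensRange_inf, Scheme.Opens.opensRange_ι]
        refine ⟨?_, P.basicOpen_le e hz⟩
        show z ∈ (D : Set P)
        rw [hD]
        intro hs
        have hs' : z ∈ E.support := hs
        rw [Scheme.IdealSheafData.mem_support_iff_of_mem (P.basicOpen_le e hz),
          Scheme.mem_zeroLocus_iff] at hs'
        exact hs' e he hz
      have h0 : algebraMap Γ(P, V.1) Γ(P, P.basicOpen e) a = 0 := by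
        have h' : (P.presheaf.map (homOfLE (D.ι.image_preimage_le V.1)).op).hom a =
            (0 : Γ(P, D.ι ''ᵁ (D.ι ⁻¹ᵁ V.1))) := h
        have h1 := congrArg (P.presheaf.map (homOfLE hle).op).hom h'
        rw [map_zero, ← CommRingCat.comp_apply, ← Functor.map_comp] at h1
        exact h1
      obtain ⟨⟨_, n, rfl⟩, hn⟩ := (IsLocalization.map_eq_zero_iff (Submonoid.powers e) _ a).mp h0
      exact ⟨n, hn⟩
    obtain ⟨n, hn⟩ := Ideal.exists_pow_le_of_le_radical_of_fg hrad (hE V)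
    refine ⟨n, fun e he => (hmul e).mp ?_⟩
    rw [Scheme.IdealSheafData.ideal_pow, Pi.pow_apply] at he
    exact hn he
  · rintro ⟨n, hn⟩
    show (P.presheaf.map (homOfLE (D.ι.image_preimage_le V.1)).op).hom a =
      (0 : Γ(P, D.ι ''ᵁ (D.ι ⁻¹ᵁ V.1)))
    refine Divisors.section_ext fun z hz => ?_
    rw [map_zero]
    have hz' : z ∈ D ⊓ V.1 := by
      have : z ∈ D.ι ''ᵁ (D.ι ⁻¹ᵁ V.1) := hz
      rwa [Scheme.Hom.image_preimage_eq_opensRange_inf, Scheme.Opens.opensRange_ι] at this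
    obtain ⟨e, he, hze⟩ : ∃ e ∈ E.ideal V, z ∈ P.basicOpen e := by
      by_contra hcon
      push Not at hcon
      have hns : z ∈ (E.support : Set P)ᶜ := hD ▸ hz'.1
      refine hns ?_
      show z ∈ E.support
      rw [Scheme.IdealSheafData.mem_support_iff_of_mem hz'.2, Scheme.mem_zeroLocus_iff]
      exact hcon
    have hkill : e ^ n * a = 0 := (hmul _).mpr (hn _ (by
      rw [Scheme.IdealSheafData.ideal_pow, Pi.pow_apply]
      exact Ideal.pow_mem_pow he n))
    erw [TopCat.Presheaf.germ_res_apply]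
    have h1 := congrArg (P.presheaf.germ V.1 z hz'.2).hom hkill
    rw [map_mul, map_zero, map_pow] at h1
    exact (((Scheme.mem_basicOpen P e z hz'.2).mp hze).pow n).mul_right_eq_zero.1 h1

/-- An open with quasi-compact inclusion maps isomorphically to itself in its scheme-theoretic image. -/
theorem isIso_imageι_restrict (D : P.Opens) [QuasiCompact D.ι] : IsIso (D.ι.ker.subschemeι ∣_ D) := by
  let ι := D.ι.ker.subschemeι
  let t : (D : Scheme.{u}) ⟶ D.ι.ker.subscheme := D.ι.toImage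
  have ht : t ≫ ι = D.ι := D.ι.toImage_imageι
  have hrange : Set.range t ⊆ Set.range (ι ⁻¹ᵁ D).ι := by
    rintro _ ⟨z, rfl⟩
    rw [Scheme.Opens.range_ι]
    show ι (t z) ∈ D
    rw [← Scheme.Hom.comp_apply, ht]
    exact z.2
  let σ := IsOpenImmersion.lift (ι ⁻¹ᵁ D).ι t hrange
  have hσ : σ ≫ (ι ∣_ D) = 𝟙 _ := by
    rw [← cancel_mono D.ι, Category.assoc, morphismRestrict_ι, IsOpenImmersion.lift_fac_assoc, ht,
      Category.id_comp]
  haveI : IsSplitEpi (ι ∣_ D) := IsSplitEpi.mk' ⟨σ, hσ⟩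
  exact isIso_of_mono_of_isSplitEpi _

/-- Base change of an isomorphism over an open. -/
theorem isIso_restrict_of_isPullback {A B X' X : Scheme.{u}} {p : A ⟶ B} {q : A ⟶ X'} {g : B ⟶ X}
    {a : X' ⟶ X} (H : IsPullback p q g a) (U : X.Opens) [IsIso (a ∣_ U)] :
    IsIso (p ∣_ g ⁻¹ᵁ U) := by
  have h2 := (isPullback_morphismRestrict p (g ⁻¹ᵁ U)).flip.paste_horiz H.flip
  rw [← morphismRestrict_ι g U] at h2
  have h3 := (isPullback_morphismRestrict a U).flip
  let l := h3.lift ((p ⁻¹ᵁ (g ⁻¹ᵁ U)).ι ≫ q) ((p ∣_ (g ⁻¹ᵁ U)) ≫ (g ∣_ U)) (by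
    rw [Category.assoc (p ∣_ (g ⁻¹ᵁ U))]; exact h2.w)
  have hl : IsPullback l (p ∣_ (g ⁻¹ᵁ U)) (a ∣_ U) (g ∣_ U) := by
    refine IsPullback.of_right ?_ (h3.lift_snd _ _ _) h3
    rw [h3.lift_fst]
    exact h2
  exact hl.isIso_snd_of_isIso

variable {X Y Y' : Scheme.{u}}

/-- Admissible blow-ups above a flat minimal morphism are refined by base changes of admissible
blow-ups. -/
theorem exists_admBlowup_flat [CompactSpace X] [QuasiSeparatedSpace X] (IX : X.IdealSheafData)
    (hX : BlowUp.IsEffCartierIdeal IX) (u : Y ⟶ X) [Flat u]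
    [LocallyOfFinitePresentation u] [QuasiCompact u] [QuasiSeparated u]
    (b : Y' ⟶ Y) [IsProper b] [IsIso (b ∣_ u ⁻¹ᵁ ModPair.interior IX)] :
    ∃ (X' : Scheme.{u}) (a : X' ⟶ X) (V : Scheme.{u}) (v : V ⟶ X') (w : V ⟶ Y'),
      BlowUp.IsEffCartierIdeal (IX.comap a) ∧ IsProper a ∧ IsIso (a ∣_ ModPair.interior IX) ∧
      Flat v ∧ LocallyOfFinitePresentation v ∧ QuasiCompact v ∧ QuasiSeparated v ∧
      IsProper w ∧ IsIso (w ∣_ (b ≫ u) ⁻¹ᵁ ModPair.interior IX) ∧ w ≫ b ≫ u = v ≫ a ∧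
      (Surjective u → Surjective v) := by
  set U := ModPair.interior IX with hUdef
  haveI := isAffineHom_interior hX
  have hU : IsCompact (U : Set X) := by
    haveI : CompactSpace (U : Scheme.{u}) := QuasiCompact.compactSpace_of_compactSpace U.ι
    exact isCompact_iff_compactSpace.mpr ‹_›
  let g : Y' ⟶ X := b ≫ u
  haveI : LocallyOfFiniteType g := inferInstanceAs (LocallyOfFiniteType (b ≫ u))
  haveI : QuasiCompact g := inferInstanceAs (QuasiCompact (b ≫ u))
  haveI : QuasiSeparated g := inferInstanceAs (QuasiSeparated (b ≫ u))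
  haveI : IsIso (b ∣_ u ⁻¹ᵁ U) := ‹_›
  haveI : Flat (u ∣_ U) := IsZariskiLocalAtTarget.restrict ‹_› U
  haveI : LocallyOfFinitePresentation (u ∣_ U) := IsZariskiLocalAtTarget.restrict ‹_› U
  haveI : Flat (g ∣_ U) := by
    rw [show g ∣_ U = _ from morphismRestrict_comp b u U]
    exact MorphismProperty.comp_mem @Flat (b ∣_ u ⁻¹ᵁ U) (u ∣_ U) inferInstance inferInstance
  haveI : LocallyOfFinitePresentation (g ∣_ U) := by
    rw [show g ∣_ U = _ from morphismRestrict_comp b u U]
    exact MorphismProperty.comp_mem @LocallyOfFinitePresentation (b ∣_ u ⁻¹ᵁ U) (u ∣_ U) inferInstance inferInstance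
  obtain ⟨𝓘, X', a, hb, hadm, hsupp, h⟩ := Groth.RaynaudGruson.Flattening.exists_blowUp_subscheme g
    Groth.RaynaudGruson.Flattening.principalFlattening U hU
  haveI : IsIso (a ∣_ U) := Groth.BlowUpBasics.isIso_morphismRestrict hb U hadm.2
  haveI hprop : IsProper a := HTopHyper.isProper_of_isBlowUp hb hadm.1
  have hX' : BlowUp.IsEffCartierIdeal (IX.comap a) := Divisors.isEffCartierIdeal_comap_blowUp hb hX
  let P := pullback g a
  let p₁ : P ⟶ Y' := pullback.fst g a
  let p₂ : P ⟶ X' := pullback.snd g a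
  have H : IsPullback p₁ p₂ g a := IsPullback.of_hasPullback g a
  haveI : QuasiCompact p₂ := MorphismProperty.of_isPullback H inferInstance
  haveI : QuasiSeparated p₂ := MorphismProperty.of_isPullback H inferInstance
  haveI : IsProper p₁ := MorphismProperty.of_isPullback H.flip hprop
  let D : P.Opens := p₁ ⁻¹ᵁ g ⁻¹ᵁ U
  haveI : IsAffineHom (g ⁻¹ᵁ U).ι := isAffineHom_preimage g U
  haveI : IsAffineHom D.ι := isAffineHom_preimage p₁ (g ⁻¹ᵁ U)
  let E := (𝓘.comap g).comap p₁
  have hD : (D : Set P) = (E.support : Set P)ᶜ := by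
    ext z
    simp only [E, Scheme.IdealSheafData.support_comap]
    show g (p₁ z) ∈ (U : Set X) ↔ ¬ g (p₁ z) ∈ (𝓘.support : Set X)
    rw [hsupp]
    simp
  let 𝒥 : P.IdealSheafData := D.ι.ker
  obtain ⟨hflat, hlfp⟩ := h P p₁ p₂ H 𝒥 fun V c => mem_ker_iff_killedByPowerNear
    (RefRank.isFiniteTypeIdeal_comap p₁ (RefRank.isFiniteTypeIdeal_comap g hadm.1)) D hD V c
  let ι := 𝒥.subschemeι
  let v : 𝒥.subscheme ⟶ X' := ι ≫ p₂
  let w : 𝒥.subscheme ⟶ Y' := ι ≫ p₁
  haveI : IsIso (ι ∣_ D) := isIso_imageι_restrict D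
  haveI : IsIso (p₁ ∣_ g ⁻¹ᵁ U) := isIso_restrict_of_isPullback H U
  have hw : IsIso (w ∣_ g ⁻¹ᵁ U) := by
    rw [show w ∣_ g ⁻¹ᵁ U = _ from morphismRestrict_comp ι p₁ (g ⁻¹ᵁ U)]
    exact @IsIso.comp_isIso _ _ _ _ _ _ _ ‹IsIso (ι ∣_ D)› ‹IsIso (p₁ ∣_ g ⁻¹ᵁ U)›
  haveI : IsProper w := inferInstanceAs (IsProper (ι ≫ p₁))
  haveI : QuasiCompact v := inferInstanceAs (QuasiCompact (ι ≫ p₂))
  haveI : QuasiSeparated v := inferInstanceAs (QuasiSeparated (ι ≫ p₂))
  refine ⟨X', a, 𝒥.subscheme, v, w, hX', hprop, inferInstance, hflat, hlfp, inferInstance,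
    inferInstance, inferInstance, hw, ?_, fun hu => ?_⟩
  · show (ι ≫ p₁) ≫ g = (ι ≫ p₂) ≫ a
    rw [Category.assoc, Category.assoc, H.w]
  -- surjectivity
  let q : P ⟶ pullback u a := pullback.map g a u a b (𝟙 X') (𝟙 X) (by simp [g]) (by simp)
  have hq₁ : q ≫ pullback.fst u a = p₁ ≫ b := pullback.lift_fst _ _ _
  have hq₂ : q ≫ pullback.snd u a = p₂ := by rw [pullback.lift_snd]; simp [p₂]
  haveI : IsProper q := by
    haveI : IsProper (q ≫ pullback.fst u a) := by rw [hq₁]; infer_instance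
    exact IsProper.of_comp q (pullback.fst u a)
  let W : (pullback u a).Opens := pullback.snd u a ⁻¹ᵁ (a ⁻¹ᵁ U)
  have hZ : BlowUp.IsEffCartierIdeal ((IX.comap a).comap (pullback.snd u a)) :=
    Divisors.isEffCartierIdeal_comap_flat hX' _
  have hW : ModPair.interior ((IX.comap a).comap (pullback.snd u a)) = W := by
    rw [interior_comap, interior_comap]
  have hdense : Dense (W : Set (pullback u a : Scheme.{u})) := by
    haveI := dominant_interior hZ
    haveI := isAffineHom_interior hZ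
    have hd := (inferInstance : IsDominant (ModPair.interior ((IX.comap a).comap (pullback.snd u a))).ι).1
    rw [DenseRange, Scheme.Opens.range_ι, hW] at hd
    exact hd
  have hWr : (W : Set (pullback u a : Scheme.{u})) ⊆ Set.range (ι ≫ q) := by
    intro z hz
    have hz' : u (pullback.fst u a z) ∈ U := by
      rw [← Scheme.Hom.comp_apply, pullback.condition, Scheme.Hom.comp_apply]
      exact hz
    obtain ⟨⟨y', hy'⟩, hy⟩ := (Scheme.Hom.homeomorph (b ∣_ u ⁻¹ᵁ U)).surjective ⟨pullback.fst u a z, hz'⟩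
    have hby : b y' = pullback.fst u a z :=
      (congr($(morphismRestrict_ι b (u ⁻¹ᵁ U)) (⟨y', hy'⟩ : (b ⁻¹ᵁ u ⁻¹ᵁ U : Scheme.{u})))).symm.trans
        (congrArg Subtype.val hy)
    have hq : IsPullback q p₁ (pullback.fst u a) b := by
      refine IsPullback.of_right ?_ hq₁ (IsPullback.of_hasPullback u a).flip
      rw [hq₂]
      exact H.flip
    obtain ⟨p, hp₁, hp₂⟩ := Scheme.Pullback.exists_preimage_pullback (f := pullback.fst u a) (g := b)
      z y' hby.symm
    obtain ⟨p', rfl⟩ : ∃ p', hq.isoPullback.hom p' = p := hq.isoPullback.hom.homeomorph.surjective p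
    rw [← Scheme.Hom.comp_apply, hq.isoPullback_hom_fst] at hp₁
    rw [← Scheme.Hom.comp_apply, hq.isoPullback_hom_snd] at hp₂
    have hpD : p' ∈ D := by
      show g (p₁ p') ∈ U
      rw [hp₂]
      show u (b y') ∈ U
      rw [hby]; exact hz'
    obtain ⟨⟨s, hs⟩, hs'⟩ := (Scheme.Hom.homeomorph (ι ∣_ D)).surjective ⟨p', hpD⟩
    have hsp : ι s = p' :=
      (congr($(morphismRestrict_ι ι D) (⟨s, hs⟩ : (ι ⁻¹ᵁ D : Scheme.{u})))).symm.trans
        (congrArg Subtype.val hs')
    exact ⟨s, by rw [Scheme.Hom.comp_apply, hsp, hp₁]⟩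
  haveI hsq : Surjective (ι ≫ q) := ⟨by
    rw [← Set.range_eq_univ, Set.eq_univ_iff_forall]
    intro z
    exact ((ι ≫ q).isClosedMap.isClosed_range.closure_subset_iff.mpr hWr) (hdense z)⟩
  haveI := hu
  have hv : v = (ι ≫ q) ≫ pullback.snd u a := by rw [Category.assoc, hq₂]
  rw [hv]
  infer_instance

end Groth.ModPairs
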